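import Cfsg.Agent.Lib.UFourThreeType.QCode
import Cfsg.Agent.Lib.Symplectic.GFit

/-!
# The base of a centraliser of type `U₄(3)`

`Factor z G` is a copy of `SL(2,3)` with centre `⟨z⟩`; `Base G` has two commuting factors.
-/

set_option autoImplicit false

namespace Cfsg.Agent.UFourThreeType

/-- A copy of `SL(2,3)` by generators and relations. -/
structure Factor {G : Type*} [Group G] (z : G) where
  i : G
  j : G
  c : G
  hii : i * i = z
  hjj : j * j = z
  hji : j * i = i * j * z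
  hc : c * c * c = 1
  hci : c * i = j * c
  hcj : c * j = i * j * c

namespace Factor

variable {G : Type*} [Group G] {z : G}

/-- A factor from a homomorphism. -/
def ofHom (f : SLT →* G) (hz : f (si * si) = z) : Factor z where
  i := f si
  j := f sj
  c := f sc
  hii := by rw [← map_mul, hz]
  hjj := by rw [← map_mul, sj_sq, hz]
  hji := by rw [← map_mul, sj_si, map_mul, map_mul, hz]
  hc := by rw [← map_mul, ← map_mul, sc_three, map_one]
  hci := by rw [← map_mul, sc_si, map_mul]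
  hcj := by rw [← map_mul, sc_sj, map_mul, map_mul]

variable (F : Factor z)

theorem i_z : Commute F.i z := by
  have h := (Commute.refl F.i).mul_right (Commute.refl F.i)
  rwa [F.hii] at h

theorem j_z : Commute F.j z := by
  have h := (Commute.refl F.j).mul_right (Commute.refl F.j)
  rwa [F.hjj] at h

theorem c_z : Commute F.c z := by
  have h : F.c * (F.i * F.i) = F.j * F.j * F.c := by
    rw [← mul_assoc, F.hci, mul_assoc, F.hci, ← mul_assoc]
  rwa [F.hii, F.hjj] at h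

variable (hz2 : z * z = 1)
include hz2

/-- Normal form of the quaternion part. -/
theorem pow_mul_pow (a b c d : ℕ) (ha : a < 2) (hb : b < 2) (hc : c < 2) (hd : d < 2) :
    F.i ^ a * F.j ^ b * (F.i ^ c * F.j ^ d) =
      z ^ (qco a b c d % 2) * (F.i ^ ((a + c) % 2) * F.j ^ ((b + d) % 2)) := by
  have ii : F.i * F.i = z := F.hii
  have jj : F.j * F.j = z := F.hjj
  have ii' : ∀ w, F.i * (F.i * w) = z * w := fun w => by rw [← mul_assoc, ii]
  have jj' : ∀ w, F.j * (F.j * w) = z * w := fun w => by rw [← mul_assoc, jj]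
  have zi : F.i * z = z * F.i := F.i_z.eq
  have zj : F.j * z = z * F.j := F.j_z.eq
  have zi' : ∀ w, F.i * (z * w) = z * (F.i * w) := fun w => by rw [← mul_assoc, zi, mul_assoc]
  have zj' : ∀ w, F.j * (z * w) = z * (F.j * w) := fun w => by rw [← mul_assoc, zj, mul_assoc]
  have zz' : ∀ w, z * (z * w) = w := fun w => by rw [← mul_assoc, hz2, one_mul]
  have ji : F.j * F.i = z * (F.i * F.j) := by rw [F.hji, mul_assoc, zj, zi']
  have ji' : ∀ w, F.j * (F.i * w) = z * (F.i * (F.j * w)) := fun w => by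
    rw [← mul_assoc, ji, mul_assoc, mul_assoc]
  interval_cases a <;> interval_cases b <;> interval_cases c <;> interval_cases d <;>
    simp [qco, mul_assoc, ii, jj, ii', jj', zi, zj, zi', zj', zz', ji, ji', hz2]

end Factor

end Cfsg.Agent.UFourThreeType

namespace Cfsg.Agent.UFourThreeType

/-- Two commuting factors over the same involution. -/
structure Frame (G : Type*) [Group G] where
  z : G
  hz : orderOf z = 2
  A : Factor z
  B : Factor z
  ii : Commute A.i B.i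
  ij : Commute A.i B.j
  ic : Commute A.i B.c
  ji : Commute A.j B.i
  jj : Commute A.j B.j
  jc : Commute A.j B.c
  ci : Commute A.c B.i
  cj : Commute A.c B.j
  cc : Commute A.c B.c

namespace Frame

variable {G : Type*} [Group G] (S : Frame G)

theorem zz : S.z * S.z = 1 := by rw [← sq, ← S.hz]; exact pow_orderOf_eq_one _

theorem z_pow_mod (n : ℕ) : S.z ^ (n % 2) = S.z ^ n := by
  rw [← S.hz]; exact pow_mod_orderOf _ _

/-- The element of a code. -/
def q (x : Fin 32) : G :=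
  S.z ^ qbit x 0 * ((S.A.i ^ qbit x 1 * S.A.j ^ qbit x 2) * (S.B.i ^ qbit x 3 * S.B.j ^ qbit x 4))

theorem qbit_qmk (e a b c d : ℕ) : qbit (qmk e a b c d) 0 = e % 2 ∧ qbit (qmk e a b c d) 1 = a % 2 ∧
    qbit (qmk e a b c d) 2 = b % 2 ∧ qbit (qmk e a b c d) 3 = c % 2 ∧ qbit (qmk e a b c d) 4 = d % 2 := by
  refine ⟨?_, ?_, ?_, ?_, ?_⟩ <;> simp only [qbit, qmk] <;> omega

theorem q_mul (x y : Fin 32) : S.q x * S.q y = S.q (qm x y) := by
  obtain ⟨h0, h1, h2, h3, h4⟩ := qbit_qmk (qbit x 0 + qbit y 0 + qco (qbit x 1) (qbit x 2) (qbit y 1) (qbit y 2) +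
      qco (qbit x 3) (qbit x 4) (qbit y 3) (qbit y 4))
    (qbit x 1 + qbit y 1) (qbit x 2 + qbit y 2) (qbit x 3 + qbit y 3) (qbit x 4 + qbit y 4)
  have hA := S.A.pow_mul_pow S.zz (qbit x 1) (qbit x 2) (qbit y 1) (qbit y 2)
    (qbit_lt x 1) (qbit_lt x 2) (qbit_lt y 1) (qbit_lt y 2)
  have hB := S.B.pow_mul_pow S.zz (qbit x 3) (qbit x 4) (qbit y 3) (qbit y 4)
    (qbit_lt x 3) (qbit_lt x 4) (qbit_lt y 3) (qbit_lt y 4)
  rw [q, q, q]
  unfold qm
  rw [h0, h1, h2, h3, h4, S.z_pow_mod]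
  set P1 := S.A.i ^ qbit x 1 * S.A.j ^ qbit x 2
  set P2 := S.B.i ^ qbit x 3 * S.B.j ^ qbit x 4
  set R1 := S.A.i ^ qbit y 1 * S.A.j ^ qbit y 2
  set R2 := S.B.i ^ qbit y 3 * S.B.j ^ qbit y 4
  have hz1 : ∀ n, Commute (S.z ^ n) P1 := fun n =>
    ((S.A.i_z.symm.pow_right _).mul_right (S.A.j_z.symm.pow_right _)).pow_left n
  have hz2 : ∀ n, Commute (S.z ^ n) P2 := fun n =>
    ((S.B.i_z.symm.pow_right _).mul_right (S.B.j_z.symm.pow_right _)).pow_left n
  have hR : Commute P2 R1 :=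
    ((S.ii.symm.pow_pow _ _).mul_right (S.ji.symm.pow_pow _ _)).mul_left
      ((S.ij.symm.pow_pow _ _).mul_right (S.jj.symm.pow_pow _ _))
  rw [show S.z ^ qbit x 0 * (P1 * P2) * (S.z ^ qbit y 0 * (R1 * R2)) =
      S.z ^ qbit x 0 * (P1 * (P2 * S.z ^ qbit y 0) * (R1 * R2)) by simp [mul_assoc],
    ← (hz2 (qbit y 0)).eq, show P1 * (S.z ^ qbit y 0 * P2) * (R1 * R2) =
      (P1 * S.z ^ qbit y 0) * ((P2 * R1) * R2) by simp [mul_assoc],
    ← (hz1 (qbit y 0)).eq, hR.eq, show S.z ^ qbit y 0 * P1 * (R1 * P2 * R2) =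
      S.z ^ qbit y 0 * ((P1 * R1) * (P2 * R2)) by simp [mul_assoc], hA, hB, S.z_pow_mod, S.z_pow_mod]
  set U1 := S.A.i ^ ((qbit x 1 + qbit y 1) % 2) * S.A.j ^ ((qbit x 2 + qbit y 2) % 2)
  set U2 := S.B.i ^ ((qbit x 3 + qbit y 3) % 2) * S.B.j ^ ((qbit x 4 + qbit y 4) % 2)
  set k1 := qco (qbit x 1) (qbit x 2) (qbit y 1) (qbit y 2)
  set k2 := qco (qbit x 3) (qbit x 4) (qbit y 3) (qbit y 4)
  have hU : Commute (S.z ^ k2) U1 :=
    ((S.A.i_z.symm.pow_right _).mul_right (S.A.j_z.symm.pow_right _)).pow_left k2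
  rw [show S.z ^ k1 * U1 * (S.z ^ k2 * U2) = S.z ^ k1 * (U1 * S.z ^ k2) * U2 by simp [mul_assoc],
    ← hU.eq]
  simp [pow_add, mul_assoc]

theorem q_zero : S.q 0 = 1 := by simp [q, qbit]

theorem q_inv (x : Fin 32) : S.q (qinv x) = (S.q x)⁻¹ :=
  eq_inv_of_mul_eq_one_right (by rw [S.q_mul, qm_inv, S.q_zero])

theorem q_z : S.q qz = S.z := by simp [q, qz, qbit]
theorem q_i : S.q qi = S.A.i := by simp [q, qi, qbit]
theorem q_j : S.q qj = S.A.j := by simp [q, qj, qbit]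
theorem q_I : S.q qI = S.B.i := by simp [q, qI, qbit]
theorem q_J : S.q qJ = S.B.j := by simp [q, qJ, qbit]

theorem q_conj (x y : Fin 32) : S.q x * S.q y * (S.q x)⁻¹ = S.q (qconj x y) := by
  rw [← S.q_inv, S.q_mul, S.q_mul]; rfl

end Frame

end Cfsg.Agent.UFourThreeType
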