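import Cfsg.Agent.Lib.UFourThreeType.Base

/-!
# Conjugation maps on the codes

`qlift P Q R T` is the map with given images of `i₁, j₁, i₂, j₂` fixing the centre.
-/

set_option autoImplicit false

namespace Cfsg.Agent.UFourThreeType

/-- Power zero or one. -/
def qpw (x : Fin 32) (n : ℕ) : Fin 32 := if n = 0 then 0 else x

/-- The map with given images of the generators. -/
def qlift (P Q R T : Fin 32) (x : Fin 32) : Fin 32 :=
  qm (qpw qz (qbit x 0)) (qm (qm (qpw P (qbit x 1)) (qpw Q (qbit x 2)))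
    (qm (qpw R (qbit x 3)) (qpw T (qbit x 4))))

/-- Conjugation by the first element of order three. -/
def cmapA : Fin 32 → Fin 32 := qlift qj (qm qi qj) qI qJ

/-- Conjugation by the second element of order three. -/
def cmapB : Fin 32 → Fin 32 := qlift qi qj qJ (qm qI qJ)

/-- Conjugation by `c₁^m c₂^n`. -/
def cmapAB (m n : Fin 3) : Fin 32 → Fin 32 := fun x => cmapA^[m] (cmapB^[n] x)

namespace Frame

variable {G : Type*} [Group G] (S : Frame G)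

theorem q_pw {n : ℕ} (hn : n < 2) (x : Fin 32) : S.q (qpw x n) = S.q x ^ n := by
  interval_cases n <;> simp [qpw, S.q_zero]

/-- A conjugation is determined by the images of the four generators. -/
theorem conj_q {g : G} (hg : Commute g S.z) {P Q R T : Fin 32} (hP : g * S.A.i * g⁻¹ = S.q P)
    (hQ : g * S.A.j * g⁻¹ = S.q Q) (hR : g * S.B.i * g⁻¹ = S.q R) (hT : g * S.B.j * g⁻¹ = S.q T)
    (x : Fin 32) : g * S.q x * g⁻¹ = S.q (qlift P Q R T x) := by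
  have hz : g * S.z * g⁻¹ = S.q qz := by rw [S.q_z, hg.eq, mul_inv_cancel_right]
  have h := fun y => (MulAut.conj_apply g y).symm
  rw [qlift, ← S.q_mul, ← S.q_mul, ← S.q_mul, ← S.q_mul]
  simp only [S.q_pw (qbit_lt x _)]
  rw [← hz, ← hP, ← hQ, ← hR, ← hT, q]
  simp only [h, map_mul, map_pow]

theorem conj_cA (x : Fin 32) : S.A.c * S.q x * S.A.c⁻¹ = S.q (cmapA x) := by
  refine S.conj_q S.A.c_z ?_ ?_ ?_ ?_ x
  · rw [S.A.hci, mul_inv_cancel_right, S.q_j]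
  · rw [S.A.hcj, mul_inv_cancel_right, ← S.q_mul, S.q_i, S.q_j]
  · rw [S.ci.eq, mul_inv_cancel_right, S.q_I]
  · rw [S.cj.eq, mul_inv_cancel_right, S.q_J]

theorem conj_cB (x : Fin 32) : S.B.c * S.q x * S.B.c⁻¹ = S.q (cmapB x) := by
  refine S.conj_q S.B.c_z ?_ ?_ ?_ ?_ x
  · rw [S.ic.symm.eq, mul_inv_cancel_right, S.q_i]
  · rw [S.jc.symm.eq, mul_inv_cancel_right, S.q_j]
  · rw [S.B.hci, mul_inv_cancel_right, S.q_J]
  · rw [S.B.hcj, mul_inv_cancel_right, ← S.q_mul, S.q_I, S.q_J]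

theorem conj_pow_cA (m : ℕ) (x : Fin 32) :
    S.A.c ^ m * S.q x * (S.A.c ^ m)⁻¹ = S.q (cmapA^[m] x) := by
  induction m with
  | zero => simp
  | succ m ih =>
    rw [Function.iterate_succ_apply', ← S.conj_cA, ← ih, pow_succ']
    simp [mul_assoc]

theorem conj_pow_cB (n : ℕ) (x : Fin 32) :
    S.B.c ^ n * S.q x * (S.B.c ^ n)⁻¹ = S.q (cmapB^[n] x) := by
  induction n with
  | zero => simp
  | succ n ih =>
    rw [Function.iterate_succ_apply', ← S.conj_cB, ← ih, pow_succ']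
    simp [mul_assoc]

/-- The element `q x c₁^m c₂^n`. -/
def k (p : Fin 32 × Fin 3 × Fin 3) : G := S.q p.1 * (S.A.c ^ (p.2.1 : ℕ) * S.B.c ^ (p.2.2 : ℕ))

theorem conj_cAB (m n : Fin 3) (x : Fin 32) :
    S.A.c ^ (m : ℕ) * S.B.c ^ (n : ℕ) * S.q x * (S.A.c ^ (m : ℕ) * S.B.c ^ (n : ℕ))⁻¹ =
      S.q (cmapAB m n x) := by
  rw [cmapAB, ← S.conj_pow_cA, ← S.conj_pow_cB]
  simp [mul_assoc]

/-- Conjugation by an element in normal form. -/
theorem conj_k (p : Fin 32 × Fin 3 × Fin 3) (x : Fin 32) :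
    S.k p * S.q x * (S.k p)⁻¹ = S.q (qconj p.1 (cmapAB p.2.1 p.2.2 x)) := by
  rw [← S.q_conj, ← S.conj_cAB, k]
  simp [mul_assoc]

theorem k_mul (p r : Fin 32 × Fin 3 × Fin 3) :
    S.k p * S.k r = S.k (qm p.1 (cmapAB p.2.1 p.2.2 r.1), p.2.1 + r.2.1, p.2.2 + r.2.2) := by
  have hA : ∀ a b : Fin 3, S.A.c ^ ((a + b : Fin 3) : ℕ) = S.A.c ^ (a : ℕ) * S.A.c ^ (b : ℕ) := fun a b => by
    rw [← pow_add, Fin.val_add, ← pow_eq_pow_mod]
    rw [pow_succ, pow_two]; exact S.A.hc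
  have hB : ∀ a b : Fin 3, S.B.c ^ ((a + b : Fin 3) : ℕ) = S.B.c ^ (a : ℕ) * S.B.c ^ (b : ℕ) := fun a b => by
    rw [← pow_add, Fin.val_add, ← pow_eq_pow_mod]
    rw [pow_succ, pow_two]; exact S.B.hc
  have hc : Commute (S.A.c ^ (r.2.1 : ℕ)) (S.B.c ^ (p.2.2 : ℕ)) := S.cc.pow_pow _ _
  simp only [k, ← S.q_mul, hA, hB, ← S.conj_cAB]
  simp only [mul_assoc, mul_inv_rev, inv_mul_cancel_left]
  rw [← mul_assoc (S.A.c ^ (r.2.1 : ℕ)), hc.eq, mul_assoc, inv_mul_cancel_left]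

end Frame

end Cfsg.Agent.UFourThreeType
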