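import Cfsg.Agent.Lib.UFourThreeType.Conj
import Cfsg.Agent.Lib.Coprime.Factorization
import Cfsg.Agent.Lib.Symplectic.GFit

/-!
# The hypotheses of the `U₄(3)` type in coordinates

`Base G` : frame, normal forms and the hypotheses; `exists_base` : from the hypotheses of the statement.
-/

set_option autoImplicit false

open Subgroup
open scoped Pointwise

namespace Cfsg.Agent.UFourThreeType

/-- The centraliser hypotheses in coordinates. -/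
structure Base (G : Type*) [Group G] extends Frame G where
  k_inj : Function.Injective toFrame.k
  k_norm : ∀ g : G, Commute g toFrame.z → ∀ p, ∃ p', g * toFrame.k p * g⁻¹ = toFrame.k p'
  q_norm : ∀ g : G, Commute g toFrame.z → ∀ x, ∃ y, g * toFrame.q x * g⁻¹ = toFrame.q y
  cent : ∀ g : G, Commute g toFrame.z → (∀ x, Commute g (toFrame.q x)) → ∃ x, toFrame.q x = g
  cardC : Nat.card (centralizer ({toFrame.z} : Set G)) = 1152
  weak : ∃ (g : G) (x : Fin 32), g * toFrame.z * g⁻¹ = toFrame.q x ∧ x ≠ qz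
  meet : ∀ (g : G) (x : Fin 32), g * toFrame.z * g⁻¹ = toFrame.q x → x ≠ qz →
    Nat.card {y : Fin 32 // ∃ y', g * toFrame.q y' * g⁻¹ = toFrame.q y} = 4

theorem card_SLT : Nat.card SLT = 24 := by
  rw [Nat.card_eq_fintype_card]; decide +kernel

theorem cmapAB_zero : ∀ x : Fin 32, cmapAB 0 0 x = x := by intro x; rfl

variable {C : Type*} [Group C]

theorem sl_hom_z (f : SLT →* C) (hf : Function.Injective f) {u : C} (hu : u ∈ f.range)
    (ho : orderOf u = 2) : f (si * si) = u := by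
  obtain ⟨A, rfl⟩ := hu
  have h2 : A * A = 1 := by
    apply hf
    have h := pow_orderOf_eq_one (f A)
    rw [ho, sq] at h
    rw [map_mul, map_one, h]
  rcases eq_of_sq A h2 with rfl | rfl
  · rw [map_one, orderOf_one] at ho; omega
  · rfl

/-- Two factors commute. -/
theorem factors_commute (f₁ f₂ : SLT →* C) (h₁ : Function.Injective f₁) {u : C} (hu : u * u = 1)
    (hinf : f₁.range ⊓ f₂.range ≤ zpowers u) (hzA : ∀ A, Commute u (f₁ A))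
    (hn : ∀ A B, f₁ A * f₂ B * (f₁ A)⁻¹ ∈ f₂.range ∧ f₂ B * f₁ A * (f₂ B)⁻¹ ∈ f₁.range) (A B : SLT) :
    Commute (f₁ A) (f₂ B) := by
  have key : ∀ A B, f₁ A * f₂ B * (f₁ A)⁻¹ * (f₂ B)⁻¹ ∈ zpowers u := fun A B =>
    hinf ⟨by
      rw [show f₁ A * f₂ B * (f₁ A)⁻¹ * (f₂ B)⁻¹ = f₁ A * (f₂ B * f₁ A⁻¹ * (f₂ B)⁻¹) by
        rw [map_inv]; simp [mul_assoc]]
      exact f₁.range.mul_mem ⟨A, rfl⟩ (hn A⁻¹ B).2,
      f₂.range.mul_mem (hn A B).1 (f₂.range.inv_mem ⟨B, rfl⟩)⟩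
  have hval : ∀ A B, f₁ A * f₂ B * (f₁ A)⁻¹ * (f₂ B)⁻¹ = 1 ∨ f₁ A * f₂ B * (f₁ A)⁻¹ * (f₂ B)⁻¹ = u := by
    intro A B
    obtain ⟨n, hn'⟩ := mem_zpowers_iff.1 (key A B)
    rw [← hn']
    rcases Int.even_or_odd' n with ⟨m, rfl | rfl⟩
    · left; rw [_root_.zpow_mul, zpow_two, hu, one_zpow]
    · right; rw [zpow_add, _root_.zpow_mul, zpow_two, hu, one_zpow, one_mul, zpow_one]
  -- every element is a product of squares
  have hsq : ∀ a : C, ∀ b : C, (a * b * a⁻¹ * b⁻¹ = 1 ∨ a * b * a⁻¹ * b⁻¹ = u) → Commute u a →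
      Commute (a * a) b := by
    intro a b h hua
    rcases h with h | h
    · have hab : Commute a b := mul_inv_eq_iff_eq_mul.1 (mul_inv_eq_one.1 h)
      exact hab.mul_left hab
    · have hab : a * b = u * (b * a) := by rw [← h]; group
      show a * a * b = b * (a * a)
      rw [mul_assoc, hab, ← mul_assoc a u, ← hua.eq, mul_assoc u a, ← mul_assoc a b a, hab, ← mul_assoc u,
        ← mul_assoc u u, hu, one_mul, mul_assoc]
  have hgen : ∀ A : SLT, ∃ X Y : SLT, A = X * X * (Y * Y) := by decide +kernel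
  obtain ⟨X, Y, rfl⟩ := hgen A
  rw [map_mul, map_mul, map_mul]
  exact (hsq _ _ (hval X B) (hzA X)).mul_left (hsq _ _ (hval Y B) (hzA Y))

theorem range_k {C : Type*} [Group C] [Finite C] (S : Frame C) (f₁ f₂ : SLT →* C)
    (hAi : S.A.i = f₁ si) (hAj : S.A.j = f₁ sj) (hAc : S.A.c = f₁ sc)
    (hBi : S.B.i = f₂ si) (hBj : S.B.j = f₂ sj) (hBc : S.B.c = f₂ sc)
    (hcomm : ∀ A B, Commute (f₁ A) (f₂ B)) :
    Set.range S.k = (f₁.range : Set C) * (f₂.range : Set C) := by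
  refine Set.Subset.antisymm ?_ ?_
  · rintro _ ⟨⟨x, m, n⟩, rfl⟩
    have h1 : ∀ B, f₂ B ∈ (f₁.range : Set C) * (f₂.range : Set C) := fun B =>
      ⟨1, one_mem _, f₂ B, ⟨B, rfl⟩, one_mul _⟩
    have hm : ∀ a ∈ (f₁.range : Set C) * (f₂.range : Set C), ∀ b ∈ (f₁.range : Set C) * (f₂.range : Set C),
        a * b ∈ (f₁.range : Set C) * (f₂.range : Set C) := by
      rintro _ ⟨_, ⟨a1, rfl⟩, _, ⟨a2, rfl⟩, rfl⟩ _ ⟨_, ⟨b1, rfl⟩, _, ⟨b2, rfl⟩, rfl⟩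
      exact ⟨f₁ (a1 * b1), ⟨_, rfl⟩, f₂ (a2 * b2), ⟨_, rfl⟩, by
        show f₁ (a1 * b1) * f₂ (a2 * b2) = f₁ a1 * f₂ a2 * (f₁ b1 * f₂ b2)
        rw [map_mul, map_mul, mul_assoc, ← mul_assoc (f₁ b1), (hcomm b1 a2).eq]; simp [mul_assoc]⟩
    have hA : ∀ A, f₁ A ∈ (f₁.range : Set C) * (f₂.range : Set C) := fun A =>
      ⟨f₁ A, ⟨A, rfl⟩, 1, one_mem _, mul_one _⟩
    rw [Frame.k, Frame.q]
    dsimp only
    have hz : S.z ^ qbit x 0 = (f₁ si * f₁ si) ^ qbit x 0 :=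
      congrArg (fun w => w ^ qbit x 0) (S.A.hii.symm.trans (by rw [hAi]))
    rw [hz]
    simp only [hAi, hAj, hAc, hBi, hBj, hBc, ← map_mul, ← map_pow]
    exact hm _ (hm _ (hA _) _ (hm _ (hA _) _ (h1 _))) _ (hm _ (hA _) _ (h1 _))
  · rintro _ ⟨_, ⟨A, rfl⟩, _, ⟨B, rfl⟩, rfl⟩
    obtain ⟨⟨a, b, m⟩, rfl⟩ := sword_surjective A
    obtain ⟨⟨c, d, n⟩, rfl⟩ := sword_surjective B
    have hq : ∀ e : ℕ, ∀ x, ∃ y, S.q x ^ e = S.q y := by
      intro e x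
      induction e with
      | zero => exact ⟨0, by rw [pow_zero, S.q_zero]⟩
      | succ e ih => obtain ⟨y, hy⟩ := ih; exact ⟨qm y x, by rw [pow_succ, hy, S.q_mul]⟩
    obtain ⟨x1, e1⟩ := hq a qi
    obtain ⟨x2, e2⟩ := hq b qj
    obtain ⟨x3, e3⟩ := hq c qI
    obtain ⟨x4, e4⟩ := hq d qJ
    rw [S.q_i] at e1; rw [S.q_j] at e2; rw [S.q_I] at e3; rw [S.q_J] at e4
    refine ⟨(qm (qm x1 x2) (qm x3 x4), m, n), ?_⟩
    show S.k _ = f₁ (sword _) * f₂ (sword _)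
    rw [Frame.k, sword, sword, ← S.q_mul, ← S.q_mul, ← S.q_mul, ← e1, ← e2, ← e3, ← e4]
    dsimp only
    simp only [hAi, hAj, hAc, hBi, hBj, hBc, ← map_pow, map_mul]
    have h := (hcomm (sc ^ (m : ℕ)) (si ^ (c : ℕ) * sj ^ (d : ℕ))).eq
    rw [map_mul] at h
    rw [show ∀ a b c d e g : C, a * b * (c * d) * (e * g) = a * b * ((c * d) * e) * g from
      fun a b c d e g => by simp [mul_assoc], ← h]
    simp [mul_assoc]

theorem conj_mem_closure_odd {C : Type*} [Group C] (g : C) :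
    ∀ x ∈ closure {x : C | Odd (orderOf x)}, g * x * g⁻¹ ∈ closure {x : C | Odd (orderOf x)} := by
  intro x hx
  induction hx using Subgroup.closure_induction with
  | mem x hx => exact subset_closure (show Odd (orderOf (g * x * g⁻¹)) by
    rw [show g * x * g⁻¹ = (MulAut.conj g).toMonoidHom x from rfl,
      orderOf_injective (MulAut.conj g).toMonoidHom (MulAut.conj g).injective]; exact hx)
  | one => simp
  | mul x y _ _ hx hy => rw [show g * (x * y) * g⁻¹ = g * x * g⁻¹ * (g * y * g⁻¹) by group]; exact mul_mem hx hy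
  | inv x _ hx => rw [show g * x⁻¹ * g⁻¹ = (g * x * g⁻¹)⁻¹ by group]; exact inv_mem hx

theorem sup_conj_mem {C : Type*} [Group C] {H₁ H₂ : Subgroup C}
    (hn₁ : (H₁.subgroupOf (H₁ ⊔ H₂)).Normal) {g x : C} (hg : g ∈ H₁ ⊔ H₂) (hx : x ∈ H₁) :
    g * x * g⁻¹ ∈ H₁ :=
  hn₁.conj_mem ⟨x, mem_sup_left hx⟩ hx ⟨g, hg⟩

/-- The hypotheses of the statement give a `Base`. -/
theorem exists_base_aux {G : Type*} [Group G] [Finite G] (z : G) (hz : orderOf z = 2)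
    (C : Subgroup G) (hC : C = centralizer ({z} : Set G))
    (H₁ H₂ : Subgroup C)
    (hK : H₁ ⊔ H₂ = closure {x : C | Odd (orderOf x)})
    (hn₁ : (H₁.subgroupOf (H₁ ⊔ H₂)).Normal) (hn₂ : (H₂.subgroupOf (H₁ ⊔ H₂)).Normal)
    (e₁ : H₁ ≃* SLT) (e₂ : H₂ ≃* SLT)
    (hmeet : (H₁ ⊓ H₂).map (Subgroup.subtype C) = zpowers z)
    (Q : Subgroup C) [Q.Normal]
    (hQ : Q = (Cfsg.pCore 2 ↥(H₁ ⊔ H₂)).map (Subgroup.subtype (H₁ ⊔ H₂)))
    (hF : Cfsg.generalizedFittingSubgroup C = Q)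
    (hnwc : ∃ g : G, (∃ hq : g * z * g⁻¹ ∈ C,
      (⟨g * z * g⁻¹, hq⟩ : C) ∈ Q) ∧ g * z * g⁻¹ ≠ z)
    (hH : Nat.card ↥C = 2 ^ 7 * 3 ^ 2)
    (hQQg : ∀ g : G, g * z * g⁻¹ ∈ Q.map (Subgroup.subtype C) → g * z * g⁻¹ ≠ z →
      Nat.card ↥((Q.map (Subgroup.subtype C)) ⊓
        (Q.map (Subgroup.subtype C)).map (MulAut.conj g).toMonoidHom) = 4) :
    ∃ S : Base G, S.z = z := by
  classical
  let f₁ : SLT →* C := H₁.subtype.comp e₁.symm.toMonoidHom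
  let f₂ : SLT →* C := H₂.subtype.comp e₂.symm.toMonoidHom
  have hf₁ : Function.Injective f₁ := H₁.subtype_injective.comp e₁.symm.injective
  have hf₂ : Function.Injective f₂ := H₂.subtype_injective.comp e₂.symm.injective
  have hr₁ : f₁.range = H₁ := by
    rw [MonoidHom.range_comp, MonoidHom.range_eq_top.2 e₁.symm.surjective, ← MonoidHom.range_eq_map,
      Subgroup.range_subtype]
  have hr₂ : f₂.range = H₂ := by
    rw [MonoidHom.range_comp, MonoidHom.range_eq_top.2 e₂.symm.surjective, ← MonoidHom.range_eq_map,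
      Subgroup.range_subtype]
  have hzC : z ∈ C := hC ▸ mem_centralizer_singleton_iff.2 rfl
  set u : C := ⟨z, hzC⟩ with hu
  have huo : orderOf u = 2 := by rw [← hz, hu, Subgroup.orderOf_mk]
  have hu2 : u * u = 1 := by rw [← sq, ← huo]; exact pow_orderOf_eq_one u
  have huc : ∀ x : C, Commute u x := fun x => Subtype.ext (mem_centralizer_singleton_iff.1 (hC.le x.2)).symm
  have hinf : H₁ ⊓ H₂ = zpowers u := by
    refine map_injective C.subtype_injective ?_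
    rw [hmeet, MonoidHom.map_zpowers]; rfl
  have humem : u ∈ H₁ ⊓ H₂ := hinf.ge (mem_zpowers u)
  have hz₁ : f₁ (si * si) = u := sl_hom_z f₁ hf₁ (hr₁.ge humem.1) huo
  have hz₂ : f₂ (si * si) = u := sl_hom_z f₂ hf₂ (hr₂.ge humem.2) huo
  have hcomm : ∀ A B, Commute (f₁ A) (f₂ B) := by
    refine factors_commute f₁ f₂ hf₁ hu2 (by rw [hr₁, hr₂, hinf]) (fun A => huc _) fun A B => ⟨?_, ?_⟩
    · rw [hr₂]
      exact sup_conj_mem (H₁ := H₂) (H₂ := H₁) (by rwa [sup_comm] at hn₂)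
        (mem_sup_right (hr₁.le ⟨A, rfl⟩)) (hr₂.le ⟨B, rfl⟩)
    · rw [hr₁]
      exact sup_conj_mem hn₁ (mem_sup_right (hr₂.le ⟨B, rfl⟩)) (hr₁.le ⟨A, rfl⟩)
  let S₀ : Frame C :=
    { z := u, hz := huo, A := Factor.ofHom f₁ hz₁, B := Factor.ofHom f₂ hz₂
      ii := hcomm _ _, ij := hcomm _ _, ic := hcomm _ _, ji := hcomm _ _, jj := hcomm _ _
      jc := hcomm _ _, ci := hcomm _ _, cj := hcomm _ _, cc := hcomm _ _ }
  have hrange : Set.range S₀.k = (H₁ : Set C) * (H₂ : Set C) := by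
    rw [range_k S₀ f₁ f₂ rfl rfl rfl rfl rfl rfl hcomm, hr₁, hr₂]
  have hK' : Set.range S₀.k = ((H₁ ⊔ H₂ : Subgroup C) : Set C) := by
    rw [hrange]
    refine (coe_mul_of_right_le_normalizer_left H₁ H₂ fun y hy => ?_).symm
    refine centralizer_le_normalizer _ (mem_centralizer_iff.2 fun x hx => ?_)
    obtain ⟨A, rfl⟩ := hr₁.ge hx
    obtain ⟨B, rfl⟩ := hr₂.ge hy
    exact (hcomm A B).eq
  have hcard : Nat.card (Set.range S₀.k) = 288 := by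
    have h := Cfsg.Agent.Coprime.card_mul_inf H₁ H₂
    rw [← hrange, Nat.card_congr e₁.toEquiv, Nat.card_congr e₂.toEquiv, card_SLT, hinf, Nat.card_zpowers,
      huo] at h
    omega
  have hinj : Function.Injective S₀.k := by
    have h2 : Function.Bijective (Set.rangeFactorization S₀.k) := by
      refine (Nat.bijective_iff_surjective_and_card _).2 ⟨Set.rangeFactorization_surjective, ?_⟩
      rw [hcard, Nat.card_prod, Nat.card_prod, Nat.card_fin, Nat.card_fin]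
    exact fun a b h => h2.1 (Subtype.ext h)
  have hnormK : ∀ (g : C) p, ∃ p', g * S₀.k p * g⁻¹ = S₀.k p' := by
    intro g p
    have h : g * S₀.k p * g⁻¹ ∈ Set.range S₀.k := by
      rw [hK', hK]
      exact conj_mem_closure_odd g _ (hK ▸ (hK'.le ⟨p, rfl⟩))
    obtain ⟨p', hp'⟩ := h
    exact ⟨p', hp'.symm⟩
  -- `Q` is the quaternion part
  have hkq : ∀ x, S₀.k (x, 0, 0) = S₀.q x := fun x => by simp [Frame.k]
  have hqK : ∀ x, S₀.q x ∈ H₁ ⊔ H₂ := fun x => hK'.le ⟨(x, 0, 0), hkq x⟩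
  let Qc : Subgroup (H₁ ⊔ H₂ : Subgroup C) :=
    { carrier := {w | ∃ x, S₀.q x = w}
      one_mem' := ⟨0, S₀.q_zero⟩
      mul_mem' := fun ⟨x, hx⟩ ⟨y, hy⟩ => ⟨qm x y, by rw [← S₀.q_mul, hx, hy]; rfl⟩
      inv_mem' := fun ⟨x, hx⟩ => ⟨qinv x, by rw [S₀.q_inv, hx]; rfl⟩ }
  haveI hQn : Qc.Normal := ⟨fun w ⟨x, hx⟩ g => by
    obtain ⟨p, hp⟩ := hK'.ge g.2
    exact ⟨_, (S₀.conj_k p x).symm.trans (by rw [hp, hx]; rfl)⟩⟩
  haveI : Fact (Nat.Prime 2) := ⟨Nat.prime_two⟩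
  have hQ2 : IsPGroup 2 Qc := by
    rintro ⟨w, x, hx⟩
    refine ⟨2, Subtype.ext (Subtype.ext ?_)⟩
    show (w : C) ^ 2 ^ 2 = 1
    rw [← hx, show (2 : ℕ) ^ 2 = 2 + 2 from rfl, pow_add, pow_two, S₀.q_mul, S₀.q_mul, ← S₀.q_zero]
    congr 1
    exact (by decide +kernel : ∀ x : Fin 32, qm (qm x x) (qm x x) = 0) x
  have hcore : Cfsg.pCore 2 ↥(H₁ ⊔ H₂) = Qc := by
    refine le_antisymm (sSup_le fun N ⟨hNn, hN⟩ => ?_) (le_sSup ⟨hQn, hQ2⟩)
    intro w hw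
    obtain ⟨⟨x, m, n⟩, hp⟩ := hK'.ge w.2
    have hsup : IsPGroup 2 (N ⊔ Qc : Subgroup _) := hN.to_sup_of_normal_right hQ2
    have hmem : (⟨S₀.q x, hqK x⟩ : (H₁ ⊔ H₂ : Subgroup C))⁻¹ * w ∈ N ⊔ Qc :=
      mul_mem (inv_mem (mem_sup_right ⟨x, rfl⟩)) (mem_sup_left hw)
    obtain ⟨e, he⟩ := hsup ⟨_, hmem⟩
    have he' : ((S₀.q x)⁻¹ * (w : C)) ^ 2 ^ e = 1 := congrArg (fun v => ((v : ↥(H₁ ⊔ H₂)) : C)) (Subtype.ext_iff.1 he)
    rw [← hp, Frame.k, inv_mul_cancel_left] at he'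
    have h3 : (S₀.A.c ^ (m : ℕ) * S₀.B.c ^ (n : ℕ)) ^ 3 = 1 := by
      rw [(S₀.cc.pow_pow _ _).mul_pow, ← pow_mul, ← pow_mul, mul_comm (m : ℕ), mul_comm (n : ℕ), pow_mul,
        pow_mul, pow_succ S₀.A.c 2, pow_succ S₀.B.c 2, pow_two, pow_two, S₀.A.hc, S₀.B.hc]
      simp
    have h1 : S₀.A.c ^ (m : ℕ) * S₀.B.c ^ (n : ℕ) = 1 := by
      rw [← orderOf_eq_one_iff]
      exact Nat.eq_one_of_dvd_coprimes (Nat.Coprime.pow_left e (by norm_num : Nat.Coprime 2 3))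
        (orderOf_dvd_of_pow_eq_one he') (orderOf_dvd_of_pow_eq_one h3)
    exact ⟨x, by rw [← hp, Frame.k, h1, mul_one]⟩
  have hQeq : ∀ w : C, w ∈ Q ↔ ∃ x, S₀.q x = w := by
    intro w
    rw [hQ, hcore, mem_map]
    exact ⟨fun ⟨v, ⟨x, hx⟩, hv⟩ => ⟨x, hx.trans hv⟩, fun ⟨x, hx⟩ => ⟨⟨S₀.q x, hqK x⟩, ⟨x, rfl⟩, hx⟩⟩
  -- transfer to `G`
  let ι : C →* G := C.subtype
  have hι : Function.Injective ι := C.subtype_injective
  let A' : Factor z := Factor.ofHom (ι.comp f₁) (by rw [MonoidHom.comp_apply, hz₁]; rfl)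
  let B' : Factor z := Factor.ofHom (ι.comp f₂) (by rw [MonoidHom.comp_apply, hz₂]; rfl)
  let S : Frame G :=
    { z := z, hz := hz, A := A', B := B'
      ii := S₀.ii.map ι, ij := S₀.ij.map ι, ic := S₀.ic.map ι, ji := S₀.ji.map ι, jj := S₀.jj.map ι
      jc := S₀.jc.map ι, ci := S₀.ci.map ι, cj := S₀.cj.map ι, cc := S₀.cc.map ι }
  have hq : ∀ x, S.q x = (S₀.q x : G) := fun x => by
    simp only [Frame.q, Subgroup.coe_mul, SubmonoidClass.coe_pow]; rfl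
  have hk : ∀ p, S.k p = (S₀.k p : G) := fun p => by
    simp only [Frame.k, hq, Subgroup.coe_mul, SubmonoidClass.coe_pow]; rfl
  have hgC : ∀ {g : G}, Commute g z → g ∈ C := fun h => hC.ge (mem_centralizer_singleton_iff.2 h)
  have hQmap : ∀ w : G, w ∈ Q.map C.subtype ↔ ∃ x, S.q x = w := by
    intro w
    constructor
    · rintro ⟨v, hv, rfl⟩
      obtain ⟨x, hx⟩ := (hQeq v).1 hv
      exact ⟨x, by rw [hq, hx]; rfl⟩
    · rintro ⟨x, rfl⟩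
      exact ⟨S₀.q x, (hQeq _).2 ⟨x, rfl⟩, (hq x).symm⟩
  refine ⟨
    { toFrame := S
      k_inj := fun p r h => hinj (hι (by rw [hk, hk] at h; exact h))
      k_norm := fun g hg p => ?_
      q_norm := fun g hg x => ?_
      cent := fun g hg hc => ?_
      cardC := by rw [show S.z = z from rfl, ← hC, hH]; norm_num
      weak := ?_
      meet := fun g x hgx hxz => ?_ }, rfl⟩
  · obtain ⟨p', hp'⟩ := hnormK ⟨g, hgC hg⟩ p
    exact ⟨p', by rw [hk, hk, ← hp']; rfl⟩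
  · obtain ⟨y, hy⟩ := (hQeq _).1 (‹Q.Normal›.conj_mem _ ((hQeq _).2 ⟨x, rfl⟩) ⟨g, hgC hg⟩)
    exact ⟨y, by rw [hq, hq, hy]; rfl⟩
  · have h : (⟨g, hgC hg⟩ : C) ∈ centralizer (Cfsg.generalizedFittingSubgroup C : Set C) := by
      rw [hF, mem_centralizer_iff]
      intro w hw
      obtain ⟨x, rfl⟩ := (hQeq w).1 hw
      exact Subtype.ext (by have := (hc x).eq; rw [hq] at this; exact this.symm)
    obtain ⟨x, hx⟩ := (hQeq _).1 (hF ▸ Symplectic.centralizer_generalizedFitting_le _ h)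
    exact ⟨x, by rw [hq, hx]⟩
  · obtain ⟨g, ⟨hq', hmem⟩, hne⟩ := hnwc
    obtain ⟨x, hx⟩ := (hQeq _).1 hmem
    refine ⟨g, x, by rw [hq, hx], ?_⟩
    rintro rfl
    refine hne ?_
    have h := congrArg Subtype.val hx
    rw [← hq, S.q_z] at h
    exact h.symm
  · have hne : g * z * g⁻¹ ≠ z := by
      intro h
      refine hxz (congrArg Prod.fst (hinj (a₁ := (x, 0, 0)) (a₂ := (qz, 0, 0)) ?_))
      rw [hkq, hkq]
      refine hι ?_
      show (S₀.q x : G) = (S₀.q qz : G)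
      rw [← hq, ← hq, ← hgx, S.q_z]; exact h
    rw [← hQQg g ((hQmap _).2 ⟨x, hgx.symm⟩) hne]
    refine Nat.card_congr (Equiv.ofBijective
      (fun y => ⟨S.q y.1, mem_inf.2 ⟨(hQmap _).2 ⟨_, rfl⟩, by
        obtain ⟨y', hy'⟩ := y.2
        exact ⟨S.q y', (hQmap _).2 ⟨_, rfl⟩, hy'⟩⟩⟩) ⟨?_, ?_⟩)
    · intro a b h
      have h' : S.q a.1 = S.q b.1 := congrArg Subtype.val h
      refine Subtype.ext (congrArg Prod.fst (hinj (a₁ := (a.1, 0, 0)) (a₂ := (b.1, 0, 0)) ?_))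
      rw [hkq, hkq]
      exact hι (by rw [hq, hq] at h'; exact h')
    · rintro ⟨w, hw⟩
      obtain ⟨hw1, hw2⟩ := mem_inf.1 hw
      obtain ⟨y, rfl⟩ := (hQmap w).1 hw1
      obtain ⟨v, hv, hv'⟩ := hw2
      obtain ⟨y', rfl⟩ := (hQmap v).1 hv
      exact ⟨⟨y, y', hv'⟩, rfl⟩

theorem exists_base {G : Type*} [Group G] [Finite G] (z : G) (hz : orderOf z = 2)
    (H₁ H₂ : Subgroup (centralizer ({z} : Set G)))
    (hK : H₁ ⊔ H₂ = closure {x : centralizer ({z} : Set G) | Odd (orderOf x)})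
    (hn₁ : (H₁.subgroupOf (H₁ ⊔ H₂)).Normal) (hn₂ : (H₂.subgroupOf (H₁ ⊔ H₂)).Normal)
    (e₁ : H₁ ≃* SLT) (e₂ : H₂ ≃* SLT)
    (hmeet : (H₁ ⊓ H₂).map (Subgroup.subtype (centralizer ({z} : Set G))) = zpowers z)
    (Q : Subgroup (centralizer ({z} : Set G))) [Q.Normal]
    (hQ : Q = (Cfsg.pCore 2 ↥(H₁ ⊔ H₂)).map (Subgroup.subtype (H₁ ⊔ H₂)))
    (hF : Cfsg.generalizedFittingSubgroup (centralizer ({z} : Set G)) = Q)
    (hnwc : ∃ g : G, (∃ hq : g * z * g⁻¹ ∈ centralizer ({z} : Set G),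
      (⟨g * z * g⁻¹, hq⟩ : centralizer ({z} : Set G)) ∈ Q) ∧ g * z * g⁻¹ ≠ z)
    (hH : Nat.card ↥(centralizer ({z} : Set G)) = 2 ^ 7 * 3 ^ 2)
    (hQQg : ∀ g : G, g * z * g⁻¹ ∈ Q.map (Subgroup.subtype (centralizer ({z} : Set G))) → g * z * g⁻¹ ≠ z →
      Nat.card ↥((Q.map (Subgroup.subtype (centralizer ({z} : Set G)))) ⊓
        (Q.map (Subgroup.subtype (centralizer ({z} : Set G)))).map (MulAut.conj g).toMonoidHom) = 4) :
    ∃ S : Base G, S.z = z := by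
  exact exists_base_aux z hz _ rfl H₁ H₂ hK hn₁ hn₂ e₁ e₂ hmeet Q hQ hF hnwc hH hQQg

end Cfsg.Agent.UFourThreeType
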