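import Cfsg.Agent.Lib.UFourThreeType.Conj

/-!
# Actions fixing `z` and `t` on the codes

An action is a triple `(A, B, J)`: images of `i₁`, `j₁ j₂`, `j₁`. Finite facts about pairs of actions.
-/

set_option autoImplicit false

namespace Cfsg.Agent.UFourThreeType

/-- An action. -/
abbrev Act := Fin 32 × Fin 32 × Fin 32

/-- The map of an action. -/
def nlift (P : Act) : Fin 32 → Fin 32 :=
  qlift P.1 P.2.2 (qm (qinv P.1) qt) (qm (qinv P.2.2) P.2.1)

/-- The subgroup `⟨z, t⟩`. -/
def isL (x : Fin 32) : Bool := x == 0 || x == qz || x == qt || x == qzt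

/-- The codes centralising `t`. -/
def isR (x : Fin 32) : Bool := qm x qt == qm qt x

/-- The codes of `⟨z, t⟩`. -/
def lList : List (Fin 32) := [0, qz, qt, qzt]

/-- Exchange `z` and `t`. -/
def lswap (x : Fin 32) : Fin 32 := if x = qz then qt else if x = qt then qz else x

/-- The commutator with `i₁`. -/
def pcI (P : Act) : Fin 32 := qm P.1 (qinv qi)

/-- The commutator with `j₁ j₂`. -/
def pcJ (P : Act) : Fin 32 := qm P.2.1 (qinv qjj)

/-- Admissible actions. -/
def actList : List Act :=
  (lList.flatMap fun a => lList.flatMap fun b =>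
    (List.finRange 32).map fun J => (qm qi a, qm qjj b, J)).filter fun P =>
      qm P.2.2 P.2.2 == qz && (qm P.2.2 P.1 == qm (qm P.1 P.2.2) qz) && (qm P.2.2 P.2.1 == qm P.2.1 P.2.2)

/-- The three generators. -/
def gens3 : List (Fin 32) := [qi, qjj, qj]

/-- Constraints on the pair of actions of `i'` and `j'`. -/
def pairOK (P P' : Act) : Bool :=
  (gens3.all fun x => nlift P (nlift P x) == qconj qt x && nlift P' (nlift P' x) == x &&
    nlift P (nlift P' x) == qconj qt (nlift P' (nlift P x))) &&
  lswap (pcI P) == pcI P && lswap (pcI P') == pcJ P && lswap (pcJ P') == pcJ P'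

/-- An action is trivial on `⟨i₁, j₁ j₂⟩` modulo `z`. -/
def triv (f : Fin 32 → Fin 32) : Bool :=
  (f qi == qi || f qi == qm qi qz) && (f qjj == qjj || f qjj == qm qjj qz)

/-- The class `(i₁, j₁j₂ ; i', j')` of an element of the centraliser of `⟨z, t⟩`. -/
abbrev Cls := Fin 2 × Fin 2 × Fin 2 × Fin 2

/-- The class of a code centralising `t`. -/
def rcls (x : Fin 32) : Fin 2 × Fin 2 :=
  (if (qbit x 1 + qbit x 3) % 2 = 1 then 1 else 0, if qbit x 2 = 1 then 1 else 0)

/-- The effect of conjugation by `h j₁` on classes. -/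
def x0cls (P P' : Act) (v : Cls) : Cls :=
  let u := rcls (qm (qpw (qm qj (qinv P.2.2)) v.2.2.1.val) (qpw (qm qj (qinv P'.2.2)) v.2.2.2.val))
  (v.2.2.1, v.2.2.2, v.1 + u.1, v.2.1 + u.2)

/-- The third power of the class map is trivial. -/
def cubeOK (P P' : Act) : Bool :=
  [((1, 0, 0, 0) : Cls), (0, 1, 0, 0), (0, 0, 1, 0), (0, 0, 0, 1)].all fun v =>
    x0cls P P' (x0cls P P' (x0cls P P' v)) == v

/-- The final actions. -/
def actA : Act := (qi, qm qjj qzt, qm qi qj)

/-- The final actions. -/
def actB : Act := (qm qi qzt, qjj, qJ)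

/-- The composite of an action with conjugation by an element of `⟨z, t⟩`. -/
def actL (l : Fin 32) (P : Act) : Act :=
  (qconj l P.1, qconj l P.2.1, qconj l P.2.2)

end Cfsg.Agent.UFourThreeType
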