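import Cfsg.Agent.Lib.UFourThreeType.Swap

/-!
# The actions of `R'` on the quaternion part

`exists_adjusted` : suitable representatives `a`, `b` of `R'` act as `actA`, `actB`.
-/

set_option autoImplicit false

open Subgroup

namespace Cfsg.Agent.UFourThreeType

/-- Equality of the images of the three generators. -/
def sameOn (f g : Fin 32 → Fin 32) : Bool := gens3.all fun x => f x == g x

theorem mem_actList : ∀ l l' J : Fin 32, isL l = true → isL l' = true → qm J J = qz →
    qm J (qm qi l) = qm (qm (qm qi l) J) qz → qm J (qm qjj l') = qm (qm qjj l') J →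
    (qm qi l, qm qjj l', J) ∈ actList := by
  intro l l' J hl hl' h1 h2 h3
  simp only [isL, Bool.or_eq_true, beq_iff_eq] at hl hl'
  simp only [actList, List.mem_filter, List.mem_flatMap, List.mem_map, List.mem_finRange,
    Bool.and_eq_true, beq_iff_eq]
  refine ⟨⟨l, ?_, l', ?_, J, trivial, rfl⟩, ⟨h1, h2⟩, h3⟩
  · simp only [lList, List.mem_cons, List.not_mem_nil, or_false]; tauto
  · simp only [lList, List.mem_cons, List.not_mem_nil, or_false]; tauto

theorem triv_inner : (actList.all fun P => !triv (nlift P) ||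
    (List.finRange 32).any fun w => isR w && sameOn (nlift P) (qconj w)) = true := by decide +kernel

theorem act_class : (actList.all fun P => (List.finRange 32).all fun y => !isR y ||
    (isR (nlift P y) && rcls (nlift P y) == rcls y && isR (qm qj (qinv P.2.2)))) = true := by decide +kernel

theorem decompose : ∀ y : Fin 32, isR y = true →
    isL (qm y (qinv (rc (rcls y)))) = true := by decide +kernel

theorem pair_final : (actList.all fun P => actList.all fun P' =>
    !(pairOK P P' && !triv (nlift P) && !triv (nlift P') && !triv (fun x => nlift P (nlift P' x)) &&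
      cubeOK P P') ||
      (lList.any fun l => actL l P == actA) && (lList.any fun l => actL l P' == actB)) = true := by
  decide +kernel

namespace Frame

variable {G : Type*} [Group G] (S : Frame G)

/-- Conjugation by `g` has the given action. -/
def HasAct (g : G) (P : Act) : Prop := ∀ x, g * S.q x * g⁻¹ = S.q (nlift P x)

theorem hasAct_of {g : G} (hg : Commute g S.z) (hgt : Commute g (S.q qt)) {P : Act}
    (hA : g * S.q qi * g⁻¹ = S.q P.1) (hB : g * S.q qjj * g⁻¹ = S.q P.2.1)
    (hJ : g * S.q qj * g⁻¹ = S.q P.2.2) : S.HasAct g P := by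
  have ht : g * S.q qt * g⁻¹ = S.q qt := by rw [hgt.eq, mul_inv_cancel_right]
  intro x
  refine S.conj_q hg (by rw [← S.q_i]; exact hA) (by rw [← S.q_j]; exact hJ) ?_ ?_ x
  · rw [← S.q_mul, S.q_inv, ← hA, ← S.q_I, show qI = qm (qinv qi) qt by decide, ← S.q_mul, S.q_inv]
    conv_rhs => rw [← ht]
    group
  · rw [← S.q_mul, S.q_inv, ← hJ, ← hB, ← S.q_J, show qJ = qm (qinv qj) qjj by decide, ← S.q_mul,
      S.q_inv]
    group

end Frame

namespace Swap

variable {G : Type*} [Group G] [Finite G] {S : Base G} (W : Swap S)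

theorem r'_mul (e f : Fin 2 × Fin 2) : ∃ l, isL l = true ∧ W.r' e * W.r' f = S.q l * W.r' (e + f) := by
  refine ⟨lswap (qm (qm (rc e) (rc f)) (qinv (rc (e + f)))), ?_, ?_⟩
  · exact (by decide +kernel : ∀ e f : Fin 2 × Fin 2,
      isL (lswap (qm (qm (rc e) (rc f)) (qinv (rc (e + f))))) = true) e f
  · rw [← W.conj_isL ((by decide +kernel : ∀ e f : Fin 2 × Fin 2,
      isL (qm (qm (rc e) (rc f)) (qinv (rc (e + f)))) = true) e f), ← S.q_mul, S.q_inv, ← S.q_mul]
    simp only [r']
    group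

theorem r'_zero : W.r' 0 = 1 := by
  rw [r', show rc 0 = 0 from rfl, S.q_zero]; simp

theorem exists_act (e : Fin 2 × Fin 2) : ∃ P ∈ actList, S.HasAct (W.r' e) P := by
  set n := W.r' e with hn
  have hnz := W.commute_z_r' e
  have key : ∀ r, isR r = true → ∀ A, n * S.q r * n⁻¹ = S.q A → isL (qm (qinv r) A) = true := by
    intro r hr A hA
    have hc : Commute (W.h⁻¹ * (S.q r)⁻¹ * W.h) S.z := by
      have h := (S.commute_t_q hr).inv_left.map (MulAut.conj W.h⁻¹).toMonoidHom
      simp only [MulEquiv.toMonoidHom_eq_coe, MonoidHom.coe_coe, MulAut.conj_apply, inv_inv, ← W.hz] at h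
      rwa [show W.h⁻¹ * (W.h * S.z * W.h⁻¹) * W.h = S.z by group] at h
    obtain ⟨y, hy⟩ := S.q_norm _ hc (rc e)
    refine W.inter _ (qm y (qinv (rc e))) ?_
    rw [← S.q_mul, ← S.q_mul, S.q_inv, S.q_inv, ← hA, ← hy, hn, r']
    group
  obtain ⟨A, hA⟩ := S.q_norm n hnz qi
  obtain ⟨B, hB⟩ := S.q_norm n hnz qjj
  obtain ⟨J, hJ⟩ := S.q_norm n hnz qj
  have hz : n * S.q qz * n⁻¹ = S.q qz := by rw [S.q_z, hnz.eq, mul_inv_cancel_right]
  have hmul : ∀ x y x' y', n * S.q x * n⁻¹ = S.q x' → n * S.q y * n⁻¹ = S.q y' →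
      n * S.q (qm x y) * n⁻¹ = S.q (qm x' y') := by
    intro x y x' y' hx hy
    rw [← S.q_mul, ← S.q_mul, ← hx, ← hy]; group
  have eA : qm qi (qm (qinv qi) A) = A := (by decide +kernel : ∀ A, qm qi (qm (qinv qi) A) = A) A
  have eB : qm qjj (qm (qinv qjj) B) = B := (by decide +kernel : ∀ A, qm qjj (qm (qinv qjj) A) = A) B
  have hmem : ((qm qi (qm (qinv qi) A), qm qjj (qm (qinv qjj) B), J) : Act) ∈ actList := by
    refine mem_actList _ _ _ (key qi (by decide) A hA) (key qjj (by decide) B hB) ?_ ?_ ?_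
    · refine S.q_inj ?_
      rw [← hmul _ _ _ _ hJ hJ, show qm qj qj = qz by decide]; exact hz
    · rw [eA]
      refine S.q_inj ?_
      rw [← hmul _ _ _ _ hJ hA, ← hmul _ _ _ _ (hmul _ _ _ _ hA hJ) hz]
      rfl
    · rw [eB]
      refine S.q_inj ?_
      rw [← hmul _ _ _ _ hJ hB, ← hmul _ _ _ _ hB hJ]
      rfl
  rw [eA, eB] at hmem
  exact ⟨_, hmem, Frame.hasAct_of S.toFrame hnz (W.commute_t_r' e) hA hB hJ⟩

theorem hasAct_unique {g : G} {P P' : Act} (h : S.HasAct g P) (h' : S.HasAct g P') (x : Fin 32) :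
    nlift P x = nlift P' x := S.q_inj ((h x).symm.trans (h' x))

theorem act_not_triv {e : Fin 2 × Fin 2} (he : e ≠ 0) {P : Act} (hP : P ∈ actList)
    (h : S.HasAct (W.r' e) P) : triv (nlift P) = false := by
  by_contra hcon
  rw [Bool.not_eq_false] at hcon
  have h1 := List.all_eq_true.1 triv_inner P hP
  rw [hcon] at h1
  simp only [Bool.not_true, Bool.false_or, List.any_eq_true, List.mem_finRange, true_and, sameOn,
    List.all_eq_true, beq_iff_eq, Bool.and_eq_true] at h1
  obtain ⟨w, hwR, hw⟩ := h1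
  have hgen : ∀ x ∈ gens3, Commute ((S.q w)⁻¹ * W.r' e) (S.q x) := by
    intro x hx
    refine mul_inv_eq_iff_eq_mul.1 ?_
    rw [show (S.q w)⁻¹ * W.r' e * S.q x * ((S.q w)⁻¹ * W.r' e)⁻¹ =
      (S.q w)⁻¹ * (W.r' e * S.q x * (W.r' e)⁻¹) * S.q w by group, h x, hw x hx, ← S.q_conj]
    group
  have hz : Commute ((S.q w)⁻¹ * W.r' e) S.z := (S.commute_z_q w).inv_left.mul_left (W.commute_z_r' e)
  have hwt : Commute (S.q w) S.t := S.commute_t_q hwR
  have hall : ∀ x, Commute ((S.q w)⁻¹ * W.r' e) (S.q x) := by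
    intro x
    have hct : Commute ((S.q w)⁻¹ * W.r' e) (S.q qt) := hwt.inv_left.mul_left (W.commute_t_r' e)
    have := Frame.hasAct_of S.toFrame hz hct (P := (qi, qjj, qj))
      (mul_inv_eq_iff_eq_mul.2 (hgen qi (by decide)).eq) (mul_inv_eq_iff_eq_mul.2 (hgen qjj (by decide)).eq)
      (mul_inv_eq_iff_eq_mul.2 (hgen qj (by decide)).eq) x
    rw [show nlift (qi, qjj, qj) x = x from (by decide +kernel : ∀ x, nlift (qi, qjj, qj) x = x) x] at this
    exact mul_inv_eq_iff_eq_mul.1 this
  obtain ⟨y, hy⟩ := S.cent _ hz hall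
  have hr : W.r' e = S.k (qm w y, 0, 0) := by
    simp only [Frame.k, Fin.val_zero, pow_zero, mul_one, ← S.q_mul, hy, mul_inv_cancel_left]
  have := W.kr_inj (a₁ := ((qm w y, 0, 0), 0)) (a₂ := ((0, 0, 0), e))
    (show S.k (qm w y, 0, 0) * W.r' 0 = S.k (0, 0, 0) * W.r' e by
      rw [W.r'_zero, mul_one, ← hr]; simp [Frame.k, S.q_zero])
  exact he (congrArg Prod.snd this).symm

end Swap

end Cfsg.Agent.UFourThreeType
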