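import Cfsg.Agent.Lib.UFourThreeType.Actions

/-!
# The centraliser is determined

`exists_amal` : representatives `a`, `b` with the final actions.
-/

set_option autoImplicit false

open Subgroup

namespace Cfsg.Agent.UFourThreeType

theorem qpw_isR : ∀ (x : Fin 32) (n : Fin 2), isR x = true → isR (qpw x n.val) = true := by decide +kernel

theorem act_val : (actList.all fun P => nlift P qi == P.1 && nlift P qjj == P.2.1 &&
    nlift P qj == P.2.2) = true := by decide +kernel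

theorem rcls_mul : ∀ x y : Fin 32, isR x = true → isR y = true →
    rcls (qm x y) = rcls x + rcls y ∧ isR (qm x y) = true := by decide +kernel

namespace Swap

variable {G : Type*} [Group G] [Finite G] {S : Base G} (W : Swap S)

/-- `g` lies in the class `v`. -/
def HasCls (g : G) (v : Cls) : Prop :=
  ∃ x, isR x = true ∧ S.q x * W.r' (v.2.2.1, v.2.2.2) = g ∧ rcls x = (v.1, v.2.1)

theorem commutator_swap (e f : Fin 2 × Fin 2) {P P' : Act} (hP : P ∈ actList) (hP' : P' ∈ actList)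
    (h : S.HasAct (W.r' e) P) (h' : S.HasAct (W.r' f) P') :
    isL (qm (nlift P (rc f)) (qinv (rc f))) = true →
    isL (qm (nlift P' (rc e)) (qinv (rc e))) = true →
    lswap (qm (nlift P (rc f)) (qinv (rc f))) = qm (nlift P' (rc e)) (qinv (rc e)) := by
  intro hL hL'
  have hh : Commute (W.h * W.h) S.z := by
    refine mul_inv_eq_iff_eq_mul.1 ?_
    rw [show W.h * W.h * S.z * (W.h * W.h)⁻¹ = W.h * (W.h * S.z * W.h⁻¹) * W.h⁻¹ by group, W.hz, W.ht]
  have hht : Commute (W.h * W.h) S.t := by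
    refine mul_inv_eq_iff_eq_mul.1 ?_
    rw [show W.h * W.h * S.t * (W.h * W.h)⁻¹ = W.h * (W.h * S.t * W.h⁻¹) * W.h⁻¹ by group, W.ht, W.hz]
  obtain ⟨x, d, hx, hxd⟩ := W.cover_t hh hht
  obtain ⟨D, hD, hDact⟩ := W.exists_act d
  have hB : W.h * W.r' e * W.h⁻¹ = S.q (qconj x (nlift D (rc e))) := by
    rw [← S.q_conj, ← hDact (rc e),
      show S.q x * (W.r' d * S.q (rc e) * (W.r' d)⁻¹) * (S.q x)⁻¹ =
        S.q x * W.r' d * S.q (rc e) * (S.q x * W.r' d)⁻¹ by group, hxd, r']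
    group
  set B := qconj x (nlift D (rc e)) with hBdef
  have hBL : isL (qm (qinv (rc e)) B) = true := by
    have h1 : (actList.all fun D => (List.finRange 32).all fun x => !isR x ||
        (List.finRange 4).all fun k =>
          let e : Fin 2 × Fin 2 := (if k.val % 2 = 1 then 1 else 0, if k.val / 2 = 1 then 1 else 0)
          isL (qm (qinv (rc e)) (qconj x (nlift D (rc e))))) = true := by decide +kernel
    have h2 := List.all_eq_true.1 (List.all_eq_true.1 h1 D hD) x (List.mem_finRange x)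
    rw [hx] at h2
    simp only [Bool.not_true, Bool.false_or, List.all_eq_true, List.mem_finRange, true_implies] at h2
    obtain ⟨k, hk⟩ := (by decide +kernel : ∀ e : Fin 2 × Fin 2, ∃ k : Fin 4,
      ((if k.val % 2 = 1 then 1 else 0, if k.val / 2 = 1 then 1 else 0) : Fin 2 × Fin 2) = e) e
    have h3 := h2 k
    simp only [hk] at h3
    exact h3
  set l := qm (qinv (rc e)) B with hl
  have hBe : S.q B = S.q (rc e) * S.q l := by rw [hl, ← S.q_mul, S.q_inv, mul_inv_cancel_left]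
  have hcl : Commute (S.q l) (W.r' f) := by
    have hc1 : Commute (W.r' f) (S.q qz) := by rw [S.q_z]; exact W.commute_z_r' f
    have hc2 : Commute (W.r' f) (S.q qt) := W.commute_t_r' f
    revert hBL
    intro hBL
    simp only [isL, Bool.or_eq_true, beq_iff_eq] at hBL
    rcases hBL with ((e1 | e1) | e1) | e1 <;> rw [e1]
    · rw [S.q_zero]; exact Commute.one_left _
    · exact hc1.symm
    · exact hc2.symm
    · rw [show qzt = qm qz qt by decide, ← S.q_mul]; exact (hc1.mul_right hc2).symm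
  refine S.q_inj ?_
  have h1 : S.q (qm (nlift P (rc f)) (qinv (rc f))) = W.r' e * S.q (rc f) * (W.r' e)⁻¹ * (S.q (rc f))⁻¹ := by
    rw [← S.q_mul, S.q_inv, h]
  have h2 : S.q (qm (nlift P' (rc e)) (qinv (rc e))) = W.r' f * S.q (rc e) * (W.r' f)⁻¹ * (S.q (rc e))⁻¹ := by
    rw [← S.q_mul, S.q_inv, h']
  set m := qm (nlift P' (rc e)) (qinv (rc e))
  have hm : S.q m = (S.q m)⁻¹ := by
    rw [← S.q_inv, (by decide +kernel : ∀ m : Fin 32, isL m = true → qinv m = m) m hL']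
  rw [← W.conj_isL hL, h1, hm, h2, show W.h * (W.r' e * S.q (rc f) * (W.r' e)⁻¹ * (S.q (rc f))⁻¹) * W.h⁻¹ =
      (W.h * W.r' e * W.h⁻¹) * W.r' f * (W.h * W.r' e * W.h⁻¹)⁻¹ * (W.r' f)⁻¹ by simp only [r']; group,
    hB, hBe]
  rw [show S.q (rc e) * S.q l * W.r' f * (S.q (rc e) * S.q l)⁻¹ * (W.r' f)⁻¹ =
    S.q (rc e) * (S.q l * W.r' f) * (S.q l)⁻¹ * (S.q (rc e))⁻¹ * (W.r' f)⁻¹ by group, hcl.eq]
  group

theorem hasCls_mul {g g' : G} {v v' : Cls} (h : W.HasCls g v) (h' : W.HasCls g' v') :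
    W.HasCls (g * g') (v + v') := by
  obtain ⟨x, hx, rfl, hv⟩ := h
  obtain ⟨y, hy, rfl, hv'⟩ := h'
  set e : Fin 2 × Fin 2 := (v.2.2.1, v.2.2.2)
  set f : Fin 2 × Fin 2 := (v'.2.2.1, v'.2.2.2)
  obtain ⟨P, hP, hPact⟩ := W.exists_act e
  obtain ⟨l, hl, hll⟩ := W.r'_mul e f
  have hc := List.all_eq_true.1 (List.all_eq_true.1 act_class P hP) y (List.mem_finRange y)
  rw [hy] at hc
  simp only [Bool.not_true, Bool.false_or, Bool.and_eq_true, beq_iff_eq] at hc
  obtain ⟨⟨hy', hcl⟩, -⟩ := hc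
  have hlR : isR l = true ∧ rcls l = 0 := (by decide +kernel : ∀ l, isL l = true → isR l = true ∧ rcls l = 0) l hl
  obtain ⟨e1, r1⟩ := rcls_mul x (nlift P y) hx hy'
  obtain ⟨e2, r2⟩ := rcls_mul _ l r1 hlR.1
  refine ⟨qm (qm x (nlift P y)) l, r2, ?_, ?_⟩
  · show S.q _ * W.r' (e + f) = _
    rw [← S.q_mul, mul_assoc, ← hll, ← S.q_mul, ← hPact y]; group
  · rw [e2, e1, hcl, hv, hv', hlR.2, add_zero]; rfl

theorem hasCls_unique {g : G} {v v' : Cls} (h : W.HasCls g v) (h' : W.HasCls g v') : v = v' := by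
  obtain ⟨x, -, hx, hv⟩ := h
  obtain ⟨y, -, hy, hv'⟩ := h'
  have hq : ∀ w, S.k (w, 0, 0) = S.q w := fun w => by simp [Frame.k]
  have := W.kr_inj (a₁ := ((x, 0, 0), (v.2.2.1, v.2.2.2))) (a₂ := ((y, 0, 0), (v'.2.2.1, v'.2.2.2)))
    (show S.k (x, 0, 0) * W.r' _ = S.k (y, 0, 0) * W.r' _ by rw [hq, hq, hx, hy])
  simp only [Prod.mk.injEq] at this
  obtain ⟨⟨rfl, -⟩, e1, e2⟩ := this
  rw [hv] at hv'
  simp only [Prod.mk.injEq] at hv'
  exact Prod.ext hv'.1 (Prod.ext hv'.2 (Prod.ext e1 e2))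

/-- The element inducing a rotation of `⟨z, t⟩`. -/
def x0 : G := W.h * S.q qj

theorem cubeOK_of {P P' : Act} (hP : P ∈ actList) (hP' : P' ∈ actList)
    (h : S.HasAct (W.r' (1, 0)) P) (h' : S.HasAct (W.r' (0, 1)) P') : cubeOK P P' = true := by
  have hhR : ∀ y, isR y = true → W.HasCls (W.h * S.q y * W.h⁻¹) (0, 0, (rcls y).1, (rcls y).2) := by
    intro y hy
    have hd := decompose y hy
    refine ⟨lswap (qm y (qinv (rc (rcls y)))), (by decide +kernel : ∀ l, isL l = true → isR (lswap l) = true) _ hd,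
      ?_, (by decide +kernel : ∀ l, isL l = true → rcls (lswap l) = 0) _ hd⟩
    rw [← W.conj_isL hd, ← S.q_mul, S.q_inv, show ((rcls y).1, (rcls y).2) = rcls y from rfl]
    simp only [r']
    group
  have hhr' : ∀ e, W.HasCls (W.h * W.r' e * W.h⁻¹) (e.1, e.2, 0, 0) := by
    intro e
    have hh : Commute (W.h * W.h) S.z := by
      refine mul_inv_eq_iff_eq_mul.1 ?_
      rw [show W.h * W.h * S.z * (W.h * W.h)⁻¹ = W.h * (W.h * S.z * W.h⁻¹) * W.h⁻¹ by group, W.hz, W.ht]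
    have hht : Commute (W.h * W.h) S.t := by
      refine mul_inv_eq_iff_eq_mul.1 ?_
      rw [show W.h * W.h * S.t * (W.h * W.h)⁻¹ = W.h * (W.h * S.t * W.h⁻¹) * W.h⁻¹ by group, W.ht, W.hz]
    obtain ⟨x, d, hx, hxd⟩ := W.cover_t hh hht
    obtain ⟨D, hD, hDact⟩ := W.exists_act d
    have hc := List.all_eq_true.1 (List.all_eq_true.1 act_class D hD) (rc e) (List.mem_finRange _)
    rw [rc_isR] at hc
    simp only [Bool.not_true, Bool.false_or, Bool.and_eq_true, beq_iff_eq] at hc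
    obtain ⟨⟨hy', hcl⟩, -⟩ := hc
    have hq := (by decide +kernel : ∀ x y : Fin 32, isR x = true → isR y = true →
      isR (qconj x y) = true ∧ rcls (qconj x y) = rcls y) x _ hx hy'
    refine ⟨qconj x (nlift D (rc e)), hq.1, ?_, ?_⟩
    · rw [show ((0, 0) : Fin 2 × Fin 2) = 0 from rfl, W.r'_zero, mul_one, ← S.q_conj, ← hDact (rc e),
        show S.q x * (W.r' d * S.q (rc e) * (W.r' d)⁻¹) * (S.q x)⁻¹ =
          S.q x * W.r' d * S.q (rc e) * (S.q x * W.r' d)⁻¹ by group, hxd, r']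
      group
    · rw [hq.2, hcl]; exact (by decide +kernel : ∀ e, rcls (rc e) = e) e
  have hact : ∀ e : Fin 2 × Fin 2, ∃ u, isR u = true ∧
      rcls u = rcls (qm (qpw (qm qj (qinv P.2.2)) e.1.val) (qpw (qm qj (qinv P'.2.2)) e.2.val)) ∧
      S.q qj * W.r' e * (S.q qj)⁻¹ = S.q u * W.r' e := by
    have hu : ∀ (e : Fin 2 × Fin 2) (Q : Act), Q ∈ actList → S.HasAct (W.r' e) Q →
        isR (qm qj (qinv Q.2.2)) = true ∧
          S.q qj * W.r' e * (S.q qj)⁻¹ = S.q (qm qj (qinv Q.2.2)) * W.r' e := by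
      intro e Q hQ hQact
      have hv := List.all_eq_true.1 act_val Q hQ
      simp only [Bool.and_eq_true, beq_iff_eq] at hv
      have hc := List.all_eq_true.1 (List.all_eq_true.1 act_class Q hQ) qi (List.mem_finRange _)
      simp only [Bool.or_eq_true, Bool.and_eq_true, Bool.not_eq_eq_eq_not, Bool.not_true] at hc
      rcases hc with hc | hc
      · exact absurd hc (by decide)
      refine ⟨hc.2, ?_⟩
      rw [← S.q_mul, S.q_inv, ← hv.2, ← hQact qj]; group
    intro e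
    obtain ⟨hu1, hv1⟩ := hu _ P hP h
    obtain ⟨hu2, hv2⟩ := hu _ P' hP' h'
    rcases (by decide +kernel : ∀ e : Fin 2 × Fin 2, e = 0 ∨ e = (1, 0) ∨ e = (0, 1) ∨ e = (1, 1)) e with
      rfl | rfl | rfl | rfl
    · refine ⟨0, by decide, ?_, by rw [W.r'_zero, S.q_zero]; simp⟩
      simp [qpw, (qm_zero _).1]
    · refine ⟨_, hu1, ?_, hv1⟩
      simp [qpw, (qm_zero _).1]
    · refine ⟨_, hu2, ?_, hv2⟩
      simp [qpw, (qm_zero _).2]
    · obtain ⟨l, hl, hll⟩ := W.r'_mul (1, 0) (0, 1)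
      have hP2 := List.all_eq_true.1 (List.all_eq_true.1 act_class P hP) _ (List.mem_finRange (qm qj (qinv P'.2.2)))
      rw [hu2] at hP2
      simp only [Bool.not_true, Bool.false_or, Bool.and_eq_true, beq_iff_eq] at hP2
      obtain ⟨⟨hy', hcl⟩, -⟩ := hP2
      obtain ⟨e1, r1⟩ := rcls_mul _ _ hu1 hy'
      refine ⟨_, r1, ?_, ?_⟩
      · rw [e1, hcl]
        simp only [qpw, Fin.val_one]
        exact (rcls_mul _ _ hu1 hu2).1.symm
      · have h11 : W.r' (1, 1) = W.r' (1, 0) * W.r' (0, 1) := by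
          simp only [r', rc, qpw, Fin.val_one, Fin.val_zero, one_ne_zero, if_false, if_true, (qm_zero _).1,
            (qm_zero _).2, ← S.q_mul]
          group
        rw [h11, show S.q qj * (W.r' (1, 0) * W.r' (0, 1)) * (S.q qj)⁻¹ =
          (S.q qj * W.r' (1, 0) * (S.q qj)⁻¹) * (S.q qj * W.r' (0, 1) * (S.q qj)⁻¹) by group, hv1, hv2,
          ← S.q_mul (qm qj (qinv P.2.2)), ← h (qm qj (qinv P'.2.2))]
        group
  have key : ∀ g v, W.HasCls g v → W.HasCls (W.x0 * g * W.x0⁻¹) (x0cls P P' v) := by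
    rintro g v ⟨x, hx, rfl, hv⟩
    obtain ⟨u, hu, hucls, hue⟩ := hact (v.2.2.1, v.2.2.2)
    have hcq := (by decide +kernel : ∀ y : Fin 32, isR y = true →
      isR (qconj qj y) = true ∧ rcls (qconj qj y) = rcls y) x hx
    obtain ⟨e1, r1⟩ := rcls_mul _ _ hcq.1 hu
    have H := W.hasCls_mul (hhR _ r1) (hhr' (v.2.2.1, v.2.2.2))
    rw [e1, hcq.2, hucls, hv] at H
    have hgoal : W.x0 * (S.q x * W.r' (v.2.2.1, v.2.2.2)) * W.x0⁻¹ =
        W.h * S.q (qm (qconj qj x) u) * W.h⁻¹ * (W.h * W.r' (v.2.2.1, v.2.2.2) * W.h⁻¹) := by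
      rw [← S.q_mul, ← S.q_conj, show W.h * (S.q qj * S.q x * (S.q qj)⁻¹ * S.q u) * W.h⁻¹ *
          (W.h * W.r' (v.2.2.1, v.2.2.2) * W.h⁻¹) =
        W.h * (S.q qj * S.q x * (S.q qj)⁻¹ * (S.q u * W.r' (v.2.2.1, v.2.2.2))) * W.h⁻¹ by group, ← hue, x0]
      group
    rw [hgoal]
    convert H using 1
    simp only [x0cls, Prod.mk_add_mk, add_zero, zero_add, Prod.fst_add, Prod.snd_add]
  -- the cube centralises `z` and `t`
  have hzt : W.x0 * S.z * W.x0⁻¹ = S.t := by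
    rw [x0, show W.h * S.q qj * S.z * (W.h * S.q qj)⁻¹ = W.h * (S.q qj * S.z * (S.q qj)⁻¹) * W.h⁻¹ by group,
      (S.commute_z_q qj).eq, mul_inv_cancel_right, W.hz]
  have htt : W.x0 * S.t * W.x0⁻¹ = S.t * S.z := by
    rw [x0, show W.h * S.q qj * S.t * (W.h * S.q qj)⁻¹ = W.h * (S.q qj * S.t * (S.q qj)⁻¹) * W.h⁻¹ by group,
      show S.q qj * S.t * (S.q qj)⁻¹ = S.q qz * S.q qt by
        rw [Base.t, S.q_conj, S.q_mul, show qconj qj qt = qm qz qt by decide],
      show W.h * (S.q qz * S.q qt) * W.h⁻¹ = W.h * S.q qz * W.h⁻¹ * (W.h * S.q qt * W.h⁻¹) by group, S.q_z,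
      W.hz]
    congr 1
    exact W.ht
  have htzt : S.t * S.z * S.t = S.z := by
    rw [← S.q_z, Base.t, S.q_mul, S.q_mul, show qm (qm qt qz) qt = qz by decide]
  have hcz : ∀ u v w : G, u * v * w * u⁻¹ = u * v * u⁻¹ * (u * w * u⁻¹) := fun u v w => by group
  set y := W.x0 * W.x0 * W.x0 with hy
  have hyz : Commute y S.z := by
    refine mul_inv_eq_iff_eq_mul.1 ?_
    rw [hy, show W.x0 * W.x0 * W.x0 * S.z * (W.x0 * W.x0 * W.x0)⁻¹ =
      W.x0 * (W.x0 * (W.x0 * S.z * W.x0⁻¹) * W.x0⁻¹) * W.x0⁻¹ by group, hzt, htt, ← mul_assoc, hcz, hzt, htt,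
      htzt]
  have hyt : Commute y S.t := by
    refine mul_inv_eq_iff_eq_mul.1 ?_
    rw [hy, show W.x0 * W.x0 * W.x0 * S.t * (W.x0 * W.x0 * W.x0)⁻¹ =
      W.x0 * (W.x0 * (W.x0 * S.t * W.x0⁻¹) * W.x0⁻¹) * W.x0⁻¹ by group, htt, ← mul_assoc W.x0 S.t S.z, hcz,
      hzt, htt, htzt, hzt]
  obtain ⟨x, e, hx, hxe⟩ := W.cover_t hyz hyt
  have hyc : W.HasCls y ((rcls x).1, (rcls x).2, e.1, e.2) := ⟨x, hx, hxe, rfl⟩
  simp only [cubeOK, List.all_eq_true, beq_iff_eq]
  intro v _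
  obtain ⟨w, hw, hwv⟩ := (by decide +kernel : ∀ a b : Fin 2, ∃ w, isR w = true ∧ rcls w = (a, b)) v.1 v.2.1
  have hg : W.HasCls (S.q w * W.r' (v.2.2.1, v.2.2.2)) v := ⟨w, hw, rfl, hwv⟩
  set g := S.q w * W.r' (v.2.2.1, v.2.2.2)
  have h3 := key _ _ (key _ _ (key _ _ hg))
  rw [show W.x0 * (W.x0 * (W.x0 * g * W.x0⁻¹) * W.x0⁻¹) * W.x0⁻¹ = y * g * y⁻¹ by rw [hy]; group] at h3
  have h4 := W.hasCls_mul h3 hyc
  rw [inv_mul_cancel_right] at h4
  have h5 := W.hasCls_unique h4 (W.hasCls_mul hyc hg)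
  rw [add_comm] at h5
  exact add_left_cancel h5

end Swap

/-- The final generators of the centraliser. -/
structure Amal {G : Type*} [Group G] (S : Base G) where
  W : Swap S
  a : G
  b : G
  az : Commute a S.z
  at' : Commute a S.t
  bz : Commute b S.z
  bt : Commute b S.t
  actA : S.HasAct a actA
  actB : S.HasAct b actB
  ha : a * a = S.t
  hb : b * b = 1
  hab : a * b = S.t * (b * a)
  hla : ∃ l, isL l = true ∧ a = S.q l * W.r' (1, 0)
  hlb : ∃ l, isL l = true ∧ b = S.q l * W.r' (0, 1)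

namespace Swap

variable {G : Type*} [Group G] [Finite G] {S : Base G} (W : Swap S)

include W in
theorem exists_amal : Nonempty (Amal S) := by
  obtain ⟨P, hP, h⟩ := W.exists_act (1, 0)
  obtain ⟨P', hP', h'⟩ := W.exists_act (0, 1)
  obtain ⟨R, hR, hR'⟩ := W.exists_act (1, 1)
  have t1 := W.act_not_triv (by decide) hP h
  have t2 := W.act_not_triv (by decide) hP' h'
  have h11 : W.r' (1, 1) = W.r' (1, 0) * W.r' (0, 1) := by
    simp only [r', rc, qpw, Fin.val_one, Fin.val_zero, one_ne_zero, if_false, if_true, (qm_zero _).1,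
      (qm_zero _).2, ← S.q_mul]
    group
  have hcomp : S.HasAct (W.r' (1, 1)) R → ∀ x, nlift R x = nlift P (nlift P' x) := fun hR x => by
    refine S.q_inj ?_
    rw [← hR x, h11, ← h (nlift P' x), ← h' x]; group
  have t3 : triv (fun x => nlift P (nlift P' x)) = false := by
    rw [← funext (hcomp hR')]; exact W.act_not_triv (by decide) hR hR'
  have hz' : ∀ e, Commute (W.r' e) (S.q qz) := fun e => by rw [S.q_z]; exact W.commute_z_r' e
  have hconj : ∀ x, S.t * S.q x * S.t⁻¹ = S.q (qconj qt x) := fun x => S.q_conj _ _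
  have sqA : W.r' (1, 0) * W.r' (1, 0) = S.t := by
    rw [r', show W.h * S.q (rc (1, 0)) * W.h⁻¹ * (W.h * S.q (rc (1, 0)) * W.h⁻¹) =
      W.h * (S.q (rc (1, 0)) * S.q (rc (1, 0))) * W.h⁻¹ by group, S.q_mul,
      show qm (rc (1, 0)) (rc (1, 0)) = qz by decide, S.q_z, W.hz]
  have sqB : W.r' (0, 1) * W.r' (0, 1) = 1 := by
    rw [r', show W.h * S.q (rc (0, 1)) * W.h⁻¹ * (W.h * S.q (rc (0, 1)) * W.h⁻¹) =
      W.h * (S.q (rc (0, 1)) * S.q (rc (0, 1))) * W.h⁻¹ by group, S.q_mul,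
      show qm (rc (0, 1)) (rc (0, 1)) = 0 by decide, S.q_zero]
    group
  have comAB : W.r' (1, 0) * W.r' (0, 1) = S.t * (W.r' (0, 1) * W.r' (1, 0)) := by
    rw [← W.hz, r', r', show W.h * S.q (rc (1, 0)) * W.h⁻¹ * (W.h * S.q (rc (0, 1)) * W.h⁻¹) =
      W.h * (S.q (rc (1, 0)) * S.q (rc (0, 1))) * W.h⁻¹ by group, S.q_mul,
      show qm (rc (1, 0)) (rc (0, 1)) = qm qz (qm (rc (0, 1)) (rc (1, 0))) by decide, ← S.q_mul, ← S.q_mul,
      S.q_z]
    group
  have hpair : pairOK P P' = true := by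
    have hv := fun Q (hQ : Q ∈ actList) => List.all_eq_true.1 act_val Q hQ
    simp only [Bool.and_eq_true, beq_iff_eq] at hv
    have hL : ∀ Q ∈ actList, isL (qm (nlift Q qi) (qinv qi)) = true ∧ isL (qm (nlift Q qjj) (qinv qjj)) = true := by
      intro Q hQ
      have := List.all_eq_true.1 (by decide +kernel : (actList.all fun Q =>
        isL (qm (nlift Q qi) (qinv qi)) && isL (qm (nlift Q qjj) (qinv qjj))) = true) Q hQ
      simpa using this
    have e1 : rc (1, 0) = qi := by decide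
    have e2 : rc (0, 1) = qjj := by decide
    have c1 := W.commutator_swap (1, 0) (1, 0) hP hP h h
    have c2 := W.commutator_swap (0, 1) (1, 0) hP' hP h' h
    have c3 := W.commutator_swap (0, 1) (0, 1) hP' hP' h' h'
    rw [e1] at c1
    rw [e1, e2] at c2
    rw [e2] at c3
    simp only [pairOK, pcI, pcJ, Bool.and_eq_true, List.all_eq_true, beq_iff_eq]
    refine ⟨⟨⟨fun x _ => ⟨⟨?_, ?_⟩, ?_⟩, ?_⟩, ?_⟩, ?_⟩
    · refine S.q_inj ?_
      rw [← hconj x, ← sqA, ← h, ← h x]; group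
    · refine S.q_inj ?_
      rw [← h', ← h' x, show W.r' (0, 1) * (W.r' (0, 1) * S.q x * (W.r' (0, 1))⁻¹) * (W.r' (0, 1))⁻¹ =
        (W.r' (0, 1) * W.r' (0, 1)) * S.q x * (W.r' (0, 1) * W.r' (0, 1))⁻¹ by group, sqB]
      group
    · refine S.q_inj ?_
      rw [← hconj, ← h, ← h' x, ← h', ← h x, show W.r' (1, 0) * (W.r' (0, 1) * S.q x * (W.r' (0, 1))⁻¹) * (W.r' (1, 0))⁻¹ =
        (W.r' (1, 0) * W.r' (0, 1)) * S.q x * (W.r' (1, 0) * W.r' (0, 1))⁻¹ by group, comAB]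
      group
    · have := c1 (hL P hP).1 (hL P hP).1
      rwa [(hv P hP).1.1] at this
    · have := c2 (hL P' hP').1 (hL P hP).2
      rwa [(hv P' hP').1.1, (hv P hP).1.2] at this
    · have := c3 (hL P' hP').2 (hL P' hP').2
      rwa [(hv P' hP').1.2] at this
  have hfin := List.all_eq_true.1 (List.all_eq_true.1 pair_final P hP) P' hP'
  rw [hpair, t1, t2, t3, W.cubeOK_of hP hP' h h'] at hfin
  simp only [Bool.not_false, Bool.and_self, Bool.not_true, Bool.false_or, Bool.and_eq_true, List.any_eq_true,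
    beq_iff_eq] at hfin
  obtain ⟨⟨l, hl, hlA⟩, ⟨m, hm, hmB⟩⟩ := hfin
  have hlist : ∀ l ∈ lList, isL l = true ∧ isR l = true ∧ qm l l = 0 := by decide +kernel
  have hcent : ∀ l ∈ lList, ∀ e, Commute (S.q l) (W.r' e) := by
    intro l hl e
    have hc2 : Commute (W.r' e) (S.q qt) := W.commute_t_r' e
    simp only [lList, List.mem_cons, List.not_mem_nil, or_false] at hl
    rcases hl with rfl | rfl | rfl | rfl
    · rw [S.q_zero]; exact Commute.one_left _
    · exact (hz' e).symm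
    · exact hc2.symm
    · rw [show qzt = qm qz qt by decide, ← S.q_mul]; exact ((hz' e).mul_right hc2).symm
  have hactL : ∀ l ∈ lList, ∀ Q ∈ actList, ∀ x, qconj l (nlift Q x) = nlift (actL l Q) x := by
    intro l hl Q hQ x
    have := List.all_eq_true.1 (List.all_eq_true.1 (List.all_eq_true.1 (by decide +kernel : (lList.all fun l =>
      actList.all fun Q => (List.finRange 32).all fun x => qconj l (nlift Q x) == nlift (actL l Q) x) = true)
      l hl) Q hQ) x (List.mem_finRange x)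
    exact beq_iff_eq.1 this
  refine ⟨{ W := W, a := S.q l * W.r' (1, 0), b := S.q m * W.r' (0, 1)
            az := (S.commute_z_q l).mul_left (W.commute_z_r' _)
            at' := (S.commute_t_q (hlist l hl).2.1).mul_left (W.commute_t_r' _)
            bz := (S.commute_z_q m).mul_left (W.commute_z_r' _)
            bt := (S.commute_t_q (hlist m hm).2.1).mul_left (W.commute_t_r' _)
            actA := fun x => ?_, actB := fun x => ?_, ha := ?_, hb := ?_, hab := ?_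
            hla := ⟨l, (hlist l hl).1, rfl⟩, hlb := ⟨m, (hlist m hm).1, rfl⟩ }⟩
  · rw [← hlA, ← hactL l hl P hP x, ← S.q_conj, ← h x]; group
  · rw [← hmB, ← hactL m hm P' hP' x, ← S.q_conj, ← h' x]; group
  · rw [mul_assoc, ← mul_assoc (W.r' _), ← (hcent l hl _).eq, ← mul_assoc, ← mul_assoc, S.q_mul,
      (hlist l hl).2.2, S.q_zero, one_mul, sqA]
  · rw [mul_assoc, ← mul_assoc (W.r' _), ← (hcent m hm _).eq, ← mul_assoc, ← mul_assoc, S.q_mul,
      (hlist m hm).2.2, S.q_zero, one_mul, sqB]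
  · have hlm : Commute (S.q l) (S.q m) := by
      show S.q l * S.q m = S.q m * S.q l
      rw [S.q_mul, S.q_mul, (by decide +kernel : ∀ l ∈ lList, ∀ m ∈ lList, qm l m = qm m l) l hl m hm]
    have htl : ∀ l ∈ lList, Commute S.t (S.q l) := fun l hl => (S.commute_t_q (hlist l hl).2.1).symm
    calc S.q l * W.r' (1, 0) * (S.q m * W.r' (0, 1))
        = S.q l * S.q m * (W.r' (1, 0) * W.r' (0, 1)) := by
          rw [mul_assoc, ← mul_assoc (W.r' _), ← (hcent m hm _).eq]; group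
      _ = S.t * (S.q m * S.q l * (W.r' (0, 1) * W.r' (1, 0))) := by
          rw [comAB, hlm.eq, ← mul_assoc, ← ((htl m hm).mul_right (htl l hl)).eq]; group
      _ = _ := by
          rw [mul_assoc (S.q m), ← mul_assoc (S.q l), (hcent l hl _).eq]; group

end Swap

end Cfsg.Agent.UFourThreeType
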