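import Cfsg.Agent.Lib.UFourThreeType.Pres
import Cfsg.Agent.Lib.UFourThreeType.TableE
import Cfsg.Agent.Lib.UFourThreeType.SeedE0
import Cfsg.Agent.Lib.UFourThreeType.SeedE1
import Cfsg.Agent.Lib.UFourThreeType.SeedE2
import Cfsg.Agent.Lib.UFourThreeType.SeedE3
import Cfsg.Agent.Lib.UFourThreeType.SeedE4
import Cfsg.Agent.Lib.UFourThreeType.SeedE5
import Cfsg.Agent.Lib.UFourThreeType.SeedE6
import Cfsg.Agent.Lib.UFourThreeType.SeedE7
/-!
# The bound

`Sat.card_all_le` : a group generated by letters satisfying the relations has order at most `1701 · 5760`.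
-/

set_option autoImplicit false
set_option maxRecDepth 100000

open Subgroup

namespace Cfsg.Agent.UFourThreeType

open CosetEnum CosetEnum.Data

/-- The words generating the local subgroup in the table. -/
def tabSubs : List (List ℕ) := [[0], [8, 2, 8, 2], [8], [6], [9], [8, 4, 8, 4], [2]]

namespace Sat

variable {Γ : Type*} [Group Γ] {el : ℕ → Γ} (h : Sat el)

include h in
theorem sub_mem : ∀ v ∈ tabSubs, ev el v ∈ SE el := by
  intro v hv
  have hg : ∀ n < 11, eL el n ∈ SE el := fun n hn => subset_closure ⟨n, hn, rfl⟩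
  simp only [tabSubs, List.mem_cons, List.not_mem_nil, or_false] at hv
  rcases hv with rfl | rfl | rfl | rfl | rfl | rfl | rfl
  · simpa [eL, toG] using hg 0 (by omega)
  · have h2 : el 2 ∈ SE el := by simpa [eL, toG, ev] using hg 2 (by omega)
    have h8 : el 8 ∈ SE el := by simpa [eL, toG, ev] using hg 8 (by omega)
    simp only [ev, one_mul]
    exact mul_mem (mul_mem (mul_mem h2 h8) h2) h8
  · simpa [eL, toG] using hg 8 (by omega)
  · simpa [eL, toG] using hg 4 (by omega)
  · simpa [eL, toG] using hg 6 (by omega)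
  · simpa [eL, toG] using hg 9 (by omega)
  · simpa [eL, toG] using hg 2 (by omega)

include h in
/-- The generated group is small. -/
theorem card_all_le : Finite (closure {g | ∃ n < 11, el n = g}) ∧
    Nat.card (closure {g | ∃ n < 11, el n = g}) ≤ 1701 * (120 * 48) := by
  obtain ⟨hfin, hle⟩ := h.card_SE_le
  let base : Γ ⧸ SE el := ((1 : Γ) : Γ ⧸ SE el)
  have hb : ∀ v ∈ tabSubs, ev el v • base = base := fun v hv => by
    show ((ev el v * 1 : Γ) : Γ ⧸ SE el) = ((1 : Γ) : Γ ⧸ SE el)
    rw [mul_one, QuotientGroup.eq]; simpa using h.sub_mem v hv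
  have hr : ∀ w ∈ [] :: relsE, ev el w = 1 := fun w hw => by
    rcases List.mem_cons.1 hw with rfl | hw
    · rfl
    · exact h w hw
  have s0 : ev el seedE0.tgt • base = base :=
    Deriv.target_fixes seedE0_check el base (fun a ha => by
        rw [show seedE0.invl a = [1, 0, 3, 2, 5, 4, 7, 6, 8, 10, 9].getD a 0 from
          (by decide +kernel : ∀ a < 11, seedE0.invl a = [1, 0, 3, 2, 5, 4, 7, 6, 8, 10, 9].getD a 0) a ha]
        exact h.inv_el a ha)
      (fun w hw => hr w ((by decide +kernel : ∀ w ∈ seedE0.rels, w ∈ [] :: relsE) w hw)) (fun v hv => by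
        exact hb v ((by decide +kernel : ∀ v ∈ seedE0.subs, v ∈ tabSubs) v hv))
  have s1 : ev el seedE1.tgt • base = base :=
    Deriv.target_fixes seedE1_check el base (fun a ha => by
        rw [show seedE1.invl a = [1, 0, 3, 2, 5, 4, 7, 6, 8, 10, 9].getD a 0 from
          (by decide +kernel : ∀ a < 11, seedE1.invl a = [1, 0, 3, 2, 5, 4, 7, 6, 8, 10, 9].getD a 0) a ha]
        exact h.inv_el a ha)
      (fun w hw => hr w ((by decide +kernel : ∀ w ∈ seedE1.rels, w ∈ [] :: relsE) w hw)) (fun v hv => by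
        rcases (by decide +kernel : ∀ v ∈ seedE1.subs, v ∈ tabSubs ∨ v = seedE0.tgt) v hv with
          h' | rfl
        · exact hb v h'
        · exact s0)
  have s2 : ev el seedE2.tgt • base = base :=
    Deriv.target_fixes seedE2_check el base (fun a ha => by
        rw [show seedE2.invl a = [1, 0, 3, 2, 5, 4, 7, 6, 8, 10, 9].getD a 0 from
          (by decide +kernel : ∀ a < 11, seedE2.invl a = [1, 0, 3, 2, 5, 4, 7, 6, 8, 10, 9].getD a 0) a ha]
        exact h.inv_el a ha)
      (fun w hw => hr w ((by decide +kernel : ∀ w ∈ seedE2.rels, w ∈ [] :: relsE) w hw)) (fun v hv => by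
        rcases (by decide +kernel : ∀ v ∈ seedE2.subs, v ∈ tabSubs ∨ v = seedE0.tgt ∨ v = seedE1.tgt) v hv with
          h' | rfl | rfl
        · exact hb v h'
        · exact s0
        · exact s1)
  have s3 : ev el seedE3.tgt • base = base :=
    Deriv.target_fixes seedE3_check el base (fun a ha => by
        rw [show seedE3.invl a = [1, 0, 3, 2, 5, 4, 7, 6, 8, 10, 9].getD a 0 from
          (by decide +kernel : ∀ a < 11, seedE3.invl a = [1, 0, 3, 2, 5, 4, 7, 6, 8, 10, 9].getD a 0) a ha]
        exact h.inv_el a ha)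
      (fun w hw => hr w ((by decide +kernel : ∀ w ∈ seedE3.rels, w ∈ [] :: relsE) w hw)) (fun v hv => by
        rcases (by decide +kernel : ∀ v ∈ seedE3.subs, v ∈ tabSubs ∨ v = seedE0.tgt ∨ v = seedE1.tgt ∨ v = seedE2.tgt) v hv with
          h' | rfl | rfl | rfl
        · exact hb v h'
        · exact s0
        · exact s1
        · exact s2)
  have s4 : ev el seedE4.tgt • base = base :=
    Deriv.target_fixes seedE4_check el base (fun a ha => by
        rw [show seedE4.invl a = [1, 0, 3, 2, 5, 4, 7, 6, 8, 10, 9].getD a 0 from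
          (by decide +kernel : ∀ a < 11, seedE4.invl a = [1, 0, 3, 2, 5, 4, 7, 6, 8, 10, 9].getD a 0) a ha]
        exact h.inv_el a ha)
      (fun w hw => hr w ((by decide +kernel : ∀ w ∈ seedE4.rels, w ∈ [] :: relsE) w hw)) (fun v hv => by
        rcases (by decide +kernel : ∀ v ∈ seedE4.subs, v ∈ tabSubs ∨ v = seedE0.tgt ∨ v = seedE1.tgt ∨ v = seedE2.tgt ∨ v = seedE3.tgt) v hv with
          h' | rfl | rfl | rfl | rfl
        · exact hb v h'
        · exact s0
        · exact s1
        · exact s2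
        · exact s3)
  have s5 : ev el seedE5.tgt • base = base :=
    Deriv.target_fixes seedE5_check el base (fun a ha => by
        rw [show seedE5.invl a = [1, 0, 3, 2, 5, 4, 7, 6, 8, 10, 9].getD a 0 from
          (by decide +kernel : ∀ a < 11, seedE5.invl a = [1, 0, 3, 2, 5, 4, 7, 6, 8, 10, 9].getD a 0) a ha]
        exact h.inv_el a ha)
      (fun w hw => hr w ((by decide +kernel : ∀ w ∈ seedE5.rels, w ∈ [] :: relsE) w hw)) (fun v hv => by
        rcases (by decide +kernel : ∀ v ∈ seedE5.subs, v ∈ tabSubs ∨ v = seedE0.tgt ∨ v = seedE1.tgt ∨ v = seedE2.tgt ∨ v = seedE3.tgt ∨ v = seedE4.tgt) v hv with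
          h' | rfl | rfl | rfl | rfl | rfl
        · exact hb v h'
        · exact s0
        · exact s1
        · exact s2
        · exact s3
        · exact s4)
  have s6 : ev el seedE6.tgt • base = base :=
    Deriv.target_fixes seedE6_check el base (fun a ha => by
        rw [show seedE6.invl a = [1, 0, 3, 2, 5, 4, 7, 6, 8, 10, 9].getD a 0 from
          (by decide +kernel : ∀ a < 11, seedE6.invl a = [1, 0, 3, 2, 5, 4, 7, 6, 8, 10, 9].getD a 0) a ha]
        exact h.inv_el a ha)
      (fun w hw => hr w ((by decide +kernel : ∀ w ∈ seedE6.rels, w ∈ [] :: relsE) w hw)) (fun v hv => by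
        rcases (by decide +kernel : ∀ v ∈ seedE6.subs, v ∈ tabSubs ∨ v = seedE0.tgt ∨ v = seedE1.tgt ∨ v = seedE2.tgt ∨ v = seedE3.tgt ∨ v = seedE4.tgt ∨ v = seedE5.tgt) v hv with
          h' | rfl | rfl | rfl | rfl | rfl | rfl
        · exact hb v h'
        · exact s0
        · exact s1
        · exact s2
        · exact s3
        · exact s4
        · exact s5)
  have s7 : ev el seedE7.tgt • base = base :=
    Deriv.target_fixes seedE7_check el base (fun a ha => by
        rw [show seedE7.invl a = [1, 0, 3, 2, 5, 4, 7, 6, 8, 10, 9].getD a 0 from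
          (by decide +kernel : ∀ a < 11, seedE7.invl a = [1, 0, 3, 2, 5, 4, 7, 6, 8, 10, 9].getD a 0) a ha]
        exact h.inv_el a ha)
      (fun w hw => hr w ((by decide +kernel : ∀ w ∈ seedE7.rels, w ∈ [] :: relsE) w hw)) (fun v hv => by
        rcases (by decide +kernel : ∀ v ∈ seedE7.subs, v ∈ tabSubs ∨ v = seedE0.tgt ∨ v = seedE1.tgt ∨ v = seedE2.tgt ∨ v = seedE3.tgt ∨ v = seedE4.tgt ∨ v = seedE5.tgt ∨ v = seedE6.tgt) v hv with
          h' | rfl | rfl | rfl | rfl | rfl | rfl | rfl
        · exact hb v h'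
        · exact s0
        · exact s1
        · exact s2
        · exact s3
        · exact s4
        · exact s5
        · exact s6)
  obtain ⟨hfin', hle'⟩ := card_closure_le_table tabE_check el (SE el)
    (fun a ha => by
      rw [show tabE.invl a = [1, 0, 3, 2, 5, 4, 7, 6, 8, 10, 9].getD a 0 from
        (by decide +kernel : ∀ a < 11, tabE.invl a = [1, 0, 3, 2, 5, 4, 7, 6, 8, 10, 9].getD a 0) a ha]
      exact h.inv_el a ha)
    (fun v hv => hr v ((by decide +kernel : ∀ p ∈ tabE.loops, p.1 = true → p.2 ∈ [] :: relsE) _ hv rfl))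
    (fun v hv => by
      rcases (by decide +kernel : ∀ p ∈ tabE.loops, p.1 = false → p.2 ∈ tabSubs ∨ p.2 = seedE0.tgt ∨ p.2 = seedE1.tgt ∨ p.2 = seedE2.tgt ∨ p.2 = seedE3.tgt ∨ p.2 = seedE4.tgt ∨ p.2 = seedE5.tgt ∨ p.2 = seedE6.tgt ∨ p.2 = seedE7.tgt) _ hv rfl with
        h' | rfl | rfl | rfl | rfl | rfl | rfl | rfl | rfl
      · exact hb v h'
      · exact s0
      · exact s1
      · exact s2
      · exact s3
      · exact s4
      · exact s5
      · exact s6
      · exact s7)
  exact ⟨hfin', hle'.trans (Nat.mul_le_mul le_rfl hle)⟩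

end Sat

end Cfsg.Agent.UFourThreeType
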