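import Cfsg.Agent.Lib.UFourThreeType.Local

/-!
# The centraliser of `⟨c, d⟩`

`Rot.commute_dw` : `c` and `d` commute with `y (i d c⁻¹) y⁻¹`.
The group `⟨c, d⟩` is not a Sylow subgroup, as `c d` is conjugate to an independent commuting element.
-/

set_option autoImplicit false
set_option linter.unusedSectionVars false

open Subgroup

namespace Cfsg.Agent.UFourThreeType

open CosetEnum CosetEnum.Data

/-- Word of `d = b c b`. -/
def wd : List ℕ := [8, 4, 8]

/-- Word of `c ^ k d ^ l`. -/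
def wcd (k l : Fin 3) : List ℕ := wpow wd l.val ++ wpow [4] k.val

/-- Word of `z j c d`. -/
def wczw : List ℕ := wcc ++ [2, 0, 0]

/-- Word of `i d c⁻¹`. -/
def wr0 : List ℕ := [5] ++ wd ++ [0]

/-- Word of an element inverting `c`, `d` and moving `b` to `z b`. -/
def wn : List ℕ := [6, 8, 4, 0, 8, 2, 4]

/-- The word lies in `⟨c, d⟩`. -/
noncomputable def inP (w : List ℕ) : Bool :=
  (List.finRange 3).any fun k => (List.finRange 3).any fun l => ceq w (wcd k l)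

theorem cent_cd : ∀ u : NF, (ceq (cmw (nfw u) [4]) [] && ceq (cmw (nfw u) wd) []) = true →
    ∃ (k l : Fin 3) (e : Fin 2), ceq (nfw u) (wpow wz e.val ++ wcd k l) = true := by decide +kernel

theorem norm_cd : ∀ u : NF, (inP (cjw (nfw u) [4]) && inP (cjw (nfw u) wd)) = true →
    (inP (cjw (nfw u) wcc) && (ceq (cjw (nfw u) wcc) wcc || ceq (cjw (nfw u) wcc) (wcc ++ wcc)) &&
      (!ceq (wpow (nfw u) 9) [] || inP (nfw u))) = true := by decide +kernel

theorem cent_cz : ∀ u : NF, (ceq (cmw (nfw u) wczw) [] && ceq (wpow (nfw u) 9) []) = true →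
    ∃ k l : Fin 3, ceq (nfw u) (wpow wr0 l.val ++ wpow wczw k.val) = true := by decide +kernel

theorem n_words : ceq (cjw wn [4]) [5] = true ∧ ceq (cjw wn wd) (winv wd) = true ∧
    ceq (cjw wn [8]) ([8] ++ wz) = true ∧ ceq (cjw wn ([8] ++ wz)) [8] = true := by decide +kernel

theorem q_moves : ∀ k : Fin 3, ∃ e : Fin 16, wact [3, 6, 9, 7, 2] e ≠ wact (wpow [9] k.val) e := by decide +kernel

theorem cd_words : (∀ k l : Fin 3, letters9 (wcd k l) = true) ∧ letters9 wczw = true ∧ letters9 wr0 = true ∧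
    ceq (wpow wr0 3) [] = true ∧ ceq (cmw [4] wd) [] = true := by decide +kernel

/-- A variant of `z x z = x⁻¹`: odd subgroup with two commuting involutory maps. -/
theorem exists_fixed {G : Type*} [Group G] {H : Subgroup G} (hodd : Odd (Nat.card H)) {s t : G}
    (hs : ∀ g ∈ H, s * g * s⁻¹ ∈ H) (hs2 : s * s = 1) (ht2 : t * t = 1) (hst : Commute s t)
    {v : G} (hv : v ∈ H) (hne : v ≠ 1) (htv : t * v * t⁻¹ = v⁻¹) :
    ∃ w ∈ H, w ≠ 1 ∧ t * w * t⁻¹ = w⁻¹ ∧ (s * w * s⁻¹ = w ∨ (t * s) * w * (t * s)⁻¹ = w) := by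
  obtain ⟨m, hm⟩ := hodd
  have si : s⁻¹ = s := inv_eq_of_mul_eq_one_right hs2
  have ti : t⁻¹ = t := inv_eq_of_mul_eq_one_right ht2
  set r := v * (s * v * s⁻¹)⁻¹ with hr
  have hrH : r ∈ H := H.mul_mem hv (H.inv_mem (hs v hv))
  set u := r ^ (m + 1) with hu
  have hu2 : u * u = r := by
    rw [hu, ← pow_add, show m + 1 + (m + 1) = (2 * m + 1) + 1 by omega, pow_succ, ← hm]
    have : r ^ Nat.card H = 1 := by
      have h := pow_card_eq_one' (G := H) (x := ⟨r, hrH⟩)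
      exact congrArg Subtype.val h
    rw [this, one_mul]
  have hsr : s * r * s⁻¹ = r⁻¹ := by
    rw [hr, si, show s * (v * (s * v * s)⁻¹) * s = s * v * s⁻¹ * v⁻¹ * (s⁻¹ * s) by group, si, hs2]
    group
  have hsu : s * u * s⁻¹ = u⁻¹ := by rw [hu, ← conj_pow, hsr, inv_pow]
  set f := u⁻¹ * v with hf
  have hfH : f ∈ H := H.mul_mem (H.inv_mem (H.pow_mem hrH _)) hv
  have hsf : s * f * s⁻¹ = f := by
    have h1 : s * v * s⁻¹ = (u * u)⁻¹ * v := by rw [hu2, hr]; group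
    rw [hf, show s * (u⁻¹ * v) * s⁻¹ = (s * u * s⁻¹)⁻¹ * (s * v * s⁻¹) by group, hsu, h1]; group
  by_cases hf1 : f = 1
  · refine ⟨v, hv, hne, htv, Or.inr ?_⟩
    have hvu : v = u := by rw [hf, inv_mul_eq_one] at hf1; exact hf1.symm
    have hsv : s * v * s⁻¹ = v⁻¹ := by rw [hvu, hsu]
    rw [show t * s * v * (t * s)⁻¹ = t * (s * v * s⁻¹) * t⁻¹ by group, hsv,
      show t * v⁻¹ * t⁻¹ = (t * v * t⁻¹)⁻¹ by group, htv, inv_inv]
  · refine ⟨f, hfH, hf1, ?_, Or.inl hsf⟩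
    have htr : t * r * t⁻¹ = v⁻¹ * r⁻¹ * v := by
      have h1 : t * (s * v * s⁻¹) * t⁻¹ = (s * v * s⁻¹)⁻¹ := by
        rw [show t * (s * v * s⁻¹) * t⁻¹ = (t * s) * v * (t * s)⁻¹ by group, ← hst.eq,
          show s * t * v * (s * t)⁻¹ = s * (t * v * t⁻¹) * s⁻¹ by group, htv]
        group
      rw [hr, show t * (v * (s * v * s⁻¹)⁻¹) * t⁻¹ = (t * v * t⁻¹) * (t * (s * v * s⁻¹) * t⁻¹)⁻¹ by group, h1, htv]
      group
    have htu : t * u * t⁻¹ = v⁻¹ * u⁻¹ * v := by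
      have h := conj_pow (a := v⁻¹) (b := r⁻¹) (i := m + 1)
      rw [inv_inv] at h
      rw [hu, ← conj_pow, htr, h, inv_pow]
    rw [hf, show t * (u⁻¹ * v) * t⁻¹ = (t * u * t⁻¹)⁻¹ * (t * v * t⁻¹) by group, htu, htv]
    group

namespace Amal

variable {G : Type*} [Group G] [Finite G] {S : Base G} (M : Amal S)

theorem ev_wd : ev M.el wd = S.B.c := by
  simp [wd, ev, el, ← M.bcb, mul_assoc]

theorem ev_wcd (k l : Fin 3) : ev M.el (wcd k l) = S.A.c ^ k.val * S.B.c ^ l.val := by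
  rw [wcd, ev_append, ev_wpow, ev_wpow, M.ev_wd]
  simp [ev, el]

/-- `⟨c, d⟩` as a set of products. -/
def PP (_N : Amal S) : Subgroup G where
  carrier := {g | ∃ k l : Fin 3, S.A.c ^ k.val * S.B.c ^ l.val = g}
  one_mem' := ⟨0, 0, by simp⟩
  mul_mem' := by
    rintro _ _ ⟨k, l, rfl⟩ ⟨k', l', rfl⟩
    refine ⟨k + k', l + l', ?_⟩
    have hc := S.A.hc
    have hd := S.B.hc
    have e : ∀ {g : G}, g * g * g = 1 → ∀ a b : Fin 3, g ^ (a + b).val = g ^ a.val * g ^ b.val := by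
      intro g hg a b
      rw [← pow_add, Fin.val_add]
      exact (pow_eq_pow_mod _ (by rw [pow_succ, pow_succ, pow_one]; exact hg)).symm
    rw [e hc, e hd]
    have h := (S.cc.pow_pow k'.val l.val).eq
    calc S.A.c ^ k.val * S.A.c ^ k'.val * (S.B.c ^ l.val * S.B.c ^ l'.val)
        = S.A.c ^ k.val * (S.A.c ^ k'.val * S.B.c ^ l.val) * S.B.c ^ l'.val := by group
      _ = _ := by rw [h]; group
  inv_mem' := by
    rintro _ ⟨k, l, rfl⟩
    refine ⟨-k, -l, ?_⟩
    have e : ∀ {g : G}, g * g * g = 1 → ∀ a : Fin 3, g ^ (-a).val = (g ^ a.val)⁻¹ := by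
      intro g hg a
      refine eq_inv_of_mul_eq_one_left ?_
      rw [← pow_add]
      have h3 : g ^ 3 = 1 := by rw [pow_succ, pow_succ, pow_one]; exact hg
      rw [pow_eq_pow_mod _ h3, show ((-a).val + a.val) % 3 = 0 from
        (by decide : ∀ a : Fin 3, ((-a).val + a.val) % 3 = 0) a, pow_zero]
    rw [e S.A.hc, e S.B.hc, mul_inv_rev]
    exact ((S.cc.pow_pow k.val l.val).inv_inv).eq

theorem mem_PP_of_inP {w : List ℕ} (hw : letters9 w = true) (h : inP w = true) : ev M.el w ∈ M.PP := by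
  simp only [inP, List.any_eq_true] at h
  obtain ⟨k, -, l, -, h⟩ := h
  exact ⟨k, l, by rw [M.eq_of_ceq h hw (cd_words.1 k l), M.ev_wcd]⟩

theorem inP_of_mem_PP {w : List ℕ} (hw : letters9 w = true) (h : ev M.el w ∈ M.PP) : inP w = true := by
  obtain ⟨k, l, e⟩ := h
  simp only [inP, List.any_eq_true]
  exact ⟨k, List.mem_finRange k, l, List.mem_finRange l, M.ceq_of_eq (by rw [← e, M.ev_wcd]) hw (cd_words.1 k l)⟩

theorem commute_PP {g h : G} (hg : g ∈ M.PP) (hh : h ∈ M.PP) : Commute g h := by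
  obtain ⟨k, l, rfl⟩ := hg
  obtain ⟨k', l', rfl⟩ := hh
  exact ((((Commute.refl _).pow_pow _ _).mul_right (S.cc.pow_pow _ _)).mul_left
    ((S.cc.symm.pow_pow _ _).mul_right ((Commute.refl _).pow_pow _ _)))

theorem nf_ok (u : NF) : letters9 (nfw u) = true :=
  (by decide +kernel : ∀ u : NF, letters9 (nfw u) = true) u

/-- The facts about the part inside `C(z)`. -/
theorem cent_cd_z {g : G} (hz : Commute g S.z) (hc : Commute g S.A.c) (hd : Commute g S.B.c) :
    ∃ e : Fin 2, ∃ v ∈ M.PP, g = v * S.z ^ e.val := by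
  obtain ⟨u, rfl⟩ := M.exists_nf hz
  have hk : ∀ w, letters9 w = true → Commute (ev M.el (nfw u)) (ev M.el w) → ceq (cmw (nfw u) w) [] = true :=
    fun w hw h => M.ceq_of_eq (by rw [M.ev_cmw _ _ (nf_ok u) hw, h.eq]; simp [ev])
      (letters9_cmw (nf_ok u) hw) rfl
  obtain ⟨k, l, e, he⟩ := cent_cd u (by
    rw [hk _ rfl (by simpa [ev, el] using hc), hk wd rfl (by rw [M.ev_wd]; exact hd)]; rfl)
  refine ⟨e, _, ⟨k, l, rfl⟩, ?_⟩
  rw [M.eq_of_ceq he (nf_ok u) (letters9_append (letters9_wpow rfl _) (cd_words.1 k l)), ev_append, M.ev_wcd,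
    ev_wpow, M.ev_wz]

theorem norm_cd_z {g : G} (hz : Commute g S.z) (hn : ∀ v ∈ M.PP, g * v * g⁻¹ ∈ M.PP) :
    ((g * (S.A.c * S.B.c) * g⁻¹ = S.A.c * S.B.c) ∨
      g * (S.A.c * S.B.c) * g⁻¹ = (S.A.c * S.B.c) * (S.A.c * S.B.c)) ∧ (g ^ 9 = 1 → g ∈ M.PP) := by
  obtain ⟨u, rfl⟩ := M.exists_nf hz
  have hcc : ev M.el wcc = S.A.c * S.B.c := Rot.ev_wcc
  have hin : ∀ w, letters9 w = true → ev M.el w ∈ M.PP → inP (cjw (nfw u) w) = true := fun w hw h =>
    M.inP_of_mem_PP (letters9_cjw (nf_ok u) hw) (by rw [M.ev_cjw _ _ (nf_ok u)]; exact hn _ h)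
  have h4 : ev M.el [4] ∈ M.PP := ⟨1, 0, by simp [ev, el]⟩
  have hdd : ev M.el wd ∈ M.PP := ⟨0, 1, by simp [M.ev_wd]⟩
  have h := norm_cd u (by rw [hin _ rfl h4, hin _ rfl hdd]; rfl)
  simp only [Bool.and_eq_true, Bool.or_eq_true, Bool.not_eq_eq_eq_not, Bool.not_true] at h
  obtain ⟨⟨-, h1⟩, h2⟩ := h
  refine ⟨?_, fun h9 => ?_⟩
  · rcases h1 with h1 | h1
    · left
      rw [← hcc, ← M.ev_cjw _ _ (nf_ok u), M.eq_of_ceq h1 (letters9_cjw (nf_ok u) rfl) rfl]
    · right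
      rw [← hcc, ← M.ev_cjw _ _ (nf_ok u), M.eq_of_ceq h1 (letters9_cjw (nf_ok u) rfl) rfl, ev_append]
  · rcases h2 with h2 | h2
    · rw [M.ceq_of_eq (by rw [ev_wpow, h9]; rfl) (letters9_wpow (nf_ok u) 9) rfl] at h2
      exact absurd h2 (by simp)
    · exact M.mem_PP_of_inP (nf_ok u) h2

theorem z_not_mem_PP {e : Fin 2} {v : G} (hv : v ∈ M.PP) (h : orderOf (v * S.z ^ e.val) = 2) :
    v * S.z ^ e.val = S.z := by
  obtain ⟨k, l, rfl⟩ := hv
  have hh : ev M.el (wpow wz e.val ++ wcd k l) = S.A.c ^ k.val * S.B.c ^ l.val * S.z ^ e.val := by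
    rw [ev_append, M.ev_wcd, ev_wpow, M.ev_wz]
  have hsq : (S.A.c ^ k.val * S.B.c ^ l.val * S.z ^ e.val) ^ 2 = 1 := by
    have := pow_orderOf_eq_one (S.A.c ^ k.val * S.B.c ^ l.val * S.z ^ e.val)
    rwa [h] at this
  have hne : S.A.c ^ k.val * S.B.c ^ l.val * S.z ^ e.val ≠ 1 := fun h' => by rw [h', orderOf_one] at h; omega
  have dec : ∀ (e : Fin 2) (k l : Fin 3), letters9 (wpow wz e.val ++ wcd k l) = true ∧
      (ceq (wpow (wpow wz e.val ++ wcd k l) 2) [] = true → ceq (wpow wz e.val ++ wcd k l) [] = false →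
        ceq (wpow wz e.val ++ wcd k l) wz = true) := by decide +kernel
  obtain ⟨hl, hd⟩ := dec e k l
  rw [← hh, ← M.ev_wz]
  refine M.eq_of_ceq (hd (M.ceq_of_eq (by rw [ev_wpow, hh, hsq]; rfl) (letters9_wpow hl 2) rfl) ?_) hl rfl
  cases hb : ceq (wpow wz e.val ++ wcd k l) [] with
  | false => rfl
  | true => exact absurd (hh.symm.trans (M.eq_of_ceq hb hl rfl)) hne

namespace Rot

variable {M} (R : M.Rot)

include R in
/-- `C(⟨c, d⟩)` is not contained in `C(z)`. -/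
theorem cent_cd_not_le : ∃ g, Commute g S.A.c ∧ Commute g S.B.c ∧ ¬Commute g S.z := by
  classical
  by_contra hcon
  push Not at hcon
  haveI : Fact (Nat.Prime 3) := ⟨Nat.prime_three⟩
  have hpg : IsPGroup 3 M.PP := by
    rintro ⟨_, k, l, rfl⟩
    refine ⟨1, Subtype.ext ?_⟩
    show (S.A.c ^ k.val * S.B.c ^ l.val) ^ 3 ^ 1 = 1
    rw [pow_one, (S.cc.pow_pow k.val l.val).mul_pow, ← pow_mul, ← pow_mul, mul_comm k.val, mul_comm l.val, pow_mul,
      pow_mul, pow_succ S.A.c, pow_succ S.A.c, pow_one, S.A.hc, one_pow, pow_succ S.B.c, pow_succ S.B.c, pow_one,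
      S.B.hc, one_pow, mul_one]
  have hc : S.A.c ∈ M.PP := ⟨1, 0, by simp⟩
  have hd : S.B.c ∈ M.PP := ⟨0, 1, by simp⟩
  have hnz : ∀ g : G, (∀ v ∈ M.PP, g * v * g⁻¹ ∈ M.PP) → (∀ v ∈ M.PP, g⁻¹ * v * g ∈ M.PP) → Commute g S.z := by
    intro g hg hg'
    set u := g * S.z * g⁻¹ with hu
    have hcu : ∀ v ∈ M.PP, Commute u v := by
      intro v hv
      have h1 : Commute (g⁻¹ * v * g) S.z := by
        obtain ⟨k, l, e⟩ := hg' v hv
        rw [← e]
        exact (S.A.c_z.pow_left _).mul_left (S.B.c_z.pow_left _)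
      have h2 := (h1.symm).map (MulAut.conj g).toMonoidHom
      simpa [hu, mul_assoc] using h2
    have huz : Commute u S.z := hcon u (hcu _ hc) (hcu _ hd)
    obtain ⟨e, v, hv, hev⟩ := M.cent_cd_z huz (hcu _ hc) (hcu _ hd)
    have ho : orderOf u = 2 := by
      rw [hu, show g * S.z * g⁻¹ = (MulAut.conj g).toMonoidHom S.z from rfl,
        orderOf_injective (MulAut.conj g).toMonoidHom (MulAut.conj g).injective, S.hz]
    rw [hev] at ho
    exact mul_inv_eq_iff_eq_mul.1 (hev.trans (M.z_not_mem_PP hv ho))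
  obtain ⟨T, hT⟩ := hpg.exists_le_sylow
  have hTP : (T : Subgroup G) = M.PP := by
    by_contra hne
    have hlt : M.PP < T := lt_of_le_of_ne hT (Ne.symm hne)
    have hnil : Group.IsNilpotent T := T.isPGroup'.isNilpotent
    set H := M.PP.subgroupOf (T : Subgroup G) with hH
    have hHlt : H < ⊤ := by
      rw [lt_top_iff_ne_top]
      intro h
      exact hne (le_antisymm (subgroupOf_eq_top.1 h) hT)
    obtain ⟨⟨g, hgT⟩, hgN, hgH⟩ := SetLike.exists_of_lt (Group.normalizerCondition_of_isNilpotent _ hHlt)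
    have hg : ∀ v ∈ M.PP, g * v * g⁻¹ ∈ M.PP := fun v hv => by
      have := (mem_normalizer_iff.1 hgN ⟨v, hT hv⟩).1 (mem_subgroupOf.2 hv)
      exact mem_subgroupOf.1 this
    have hg' : ∀ v ∈ M.PP, g⁻¹ * v * g ∈ M.PP := fun v hv => by
      have := (mem_normalizer_iff''.1 hgN ⟨v, hT hv⟩).1 (mem_subgroupOf.2 hv)
      exact mem_subgroupOf.1 this
    have hgz := hnz g hg hg'
    obtain ⟨n, hn⟩ := T.isPGroup' ⟨g, hgT⟩
    have hn' : g ^ 3 ^ n = 1 := congrArg Subtype.val hn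
    obtain ⟨a, -, ha⟩ := (Nat.dvd_prime_pow Nat.prime_three).1 (orderOf_dvd_of_pow_eq_one hn')
    have hdC : orderOf g ∣ 1152 := by
      have hm : g ∈ centralizer ({S.z} : Set G) := mem_centralizer_singleton_iff.2 hgz.eq
      have h := orderOf_dvd_natCard (⟨g, hm⟩ : centralizer ({S.z} : Set G))
      rw [S.cardC] at h
      rwa [Subgroup.orderOf_mk] at h
    have h9 : g ^ 9 = 1 := by
      refine orderOf_dvd_iff_pow_eq_one.1 ?_
      rw [ha] at hdC ⊢
      have : a ≤ 2 := by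
        by_contra h3
        have : 3 ^ 3 ∣ 1152 := (pow_dvd_pow 3 (show 3 ≤ a by omega)).trans hdC
        norm_num at this
      exact (pow_dvd_pow 3 this).trans (by norm_num)
    exact hgH (mem_subgroupOf.2 ((M.norm_cd_z hgz hg).2 h9))
  -- `⟨c d, q⟩` lies in a conjugate of `⟨c, d⟩`
  set cc := S.A.c * S.B.c with hcc
  have hccP : cc ∈ M.PP := ⟨1, 1, by simp [hcc]⟩
  have hcc3 : cc * cc * cc = 1 := by
    rw [hcc]
    have h : S.B.c * S.A.c = S.A.c * S.B.c := S.cc.eq.symm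
    calc S.A.c * S.B.c * (S.A.c * S.B.c) * (S.A.c * S.B.c)
        = S.A.c * (S.B.c * S.A.c) * (S.B.c * S.A.c) * S.B.c := by group
      _ = S.A.c * (S.A.c * S.B.c) * (S.A.c * S.B.c) * S.B.c := by rw [h]
      _ = S.A.c * S.A.c * (S.B.c * S.A.c) * (S.B.c * S.B.c) := by group
      _ = S.A.c * S.A.c * S.A.c * (S.B.c * S.B.c * S.B.c) := by rw [h]; group
      _ = 1 := by rw [S.A.hc, S.B.hc, mul_one]
  set v := S.A.j * R.x⁻¹ with hv
  have hq : R.q = v * cc * v⁻¹ := by rw [q, hv, hcc]; group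
  have hq3 : R.q ^ 3 = 1 := by
    rw [hq, conj_pow, pow_succ cc, pow_succ cc, pow_one, hcc3]; group
  set Z1 := zpowers cc
  set Z2 := zpowers R.q
  have hpair : IsPGroup 3 (closure ({cc, R.q} : Set G)) := by
    rintro ⟨g, hg⟩
    refine ⟨1, Subtype.ext ?_⟩
    show g ^ 3 ^ 1 = 1
    rw [pow_one]
    have key : g ^ 3 = 1 ∧ Commute g cc ∧ Commute g R.q := by
      induction hg using closure_induction with
      | mem w hw =>
        rcases hw with rfl | rfl
        · exact ⟨by rw [pow_succ, pow_succ, pow_one]; exact hcc3, Commute.refl _, R.cc_q⟩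
        · exact ⟨hq3, R.cc_q.symm, Commute.refl _⟩
      | one => exact ⟨one_pow _, Commute.one_left _, Commute.one_left _⟩
      | mul g g' hgm hgm' h h' =>
        have hgg : Commute g g' := by
          clear h'
          induction hgm' using closure_induction with
          | mem w hw => rcases hw with rfl | rfl; exacts [h.2.1, h.2.2]
          | one => exact Commute.one_right _
          | mul _ _ _ _ p p' => exact p.mul_right p'
          | inv _ _ p => exact p.inv_right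
        exact ⟨by rw [hgg.mul_pow, h.1, h'.1, one_mul], h.2.1.mul_left h'.2.1, h.2.2.mul_left h'.2.2⟩
      | inv g _ h => exact ⟨by rw [inv_pow, h.1, inv_one], h.2.1.inv_left, h.2.2.inv_left⟩
    exact key.1
  obtain ⟨T', hT'⟩ := hpair.exists_le_sylow
  obtain ⟨g, hg⟩ := MulAction.exists_smul_eq G T' T
  have hmem : ∀ w ∈ closure ({cc, R.q} : Set G), g * w * g⁻¹ ∈ M.PP := by
    intro w hw
    rw [← hTP, ← hg, Sylow.smul_def]
    exact ⟨w, hT' hw, rfl⟩
  haveI : IsMulCommutative (T : Subgroup G) := ⟨⟨fun a b => Subtype.ext (by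
    have ha : (a : G) ∈ M.PP := hTP ▸ a.2
    have hb : (b : G) ∈ M.PP := hTP ▸ b.2
    exact (M.commute_PP ha hb).eq)⟩⟩
  have himage : ∀ u : G, u * cc * u⁻¹ ∈ M.PP → u * cc * u⁻¹ = cc ∨ u * cc * u⁻¹ = cc * cc := by
    intro u hu
    obtain ⟨n, hn, e⟩ := T.conj_eq_normalizer_conj_of_mem cc u⁻¹
      (show cc ∈ (T : Subgroup G) by rw [hTP]; exact hccP)
      (show u⁻¹⁻¹ * cc * u⁻¹ ∈ (T : Subgroup G) by rw [inv_inv, hTP]; exact hu)
    rw [inv_inv] at e
    rw [show (T : Set G) = (M.PP : Set G) from congrArg (fun H : Subgroup G => (H : Set G)) hTP] at hn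
    have hn' : ∀ v ∈ M.PP, n⁻¹ * v * n ∈ M.PP := fun v hv => (mem_normalizer_iff''.1 hn v).1 hv
    have hnn : ∀ v ∈ M.PP, n⁻¹ * v * n⁻¹⁻¹ ∈ M.PP := fun v hv => by rw [inv_inv]; exact hn' v hv
    have hnn' : ∀ v ∈ M.PP, n⁻¹⁻¹ * v * n⁻¹ ∈ M.PP := fun v hv => by
      rw [inv_inv]; exact (mem_normalizer_iff.1 hn v).1 hv
    have hm := (M.norm_cd_z (hnz n⁻¹ hnn hnn') hnn).1
    rw [inv_inv] at hm
    rw [e]; exact hm
  have h1 := himage g (hmem cc (subset_closure (by simp)))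
  have h2 := himage (g * v) (by
    have := hmem R.q (subset_closure (by simp))
    rw [hq] at this
    simpa [mul_assoc] using this)
  rw [show g * v * cc * (g * v)⁻¹ = g * R.q * g⁻¹ by rw [hq]; group] at h2
  have hqk : ∃ k : Fin 3, R.q = cc ^ k.val := by
    rcases h1 with h1 | h1 <;> rcases h2 with h2 | h2
    · exact ⟨1, by simpa using mul_left_cancel (mul_right_cancel (h2.trans h1.symm))⟩
    · refine ⟨2, mul_left_cancel (a := g) (mul_right_cancel (b := g⁻¹) (h2.trans ?_))⟩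
      rw [Fin.val_two, pow_two, show g * (cc * cc) * g⁻¹ = g * cc * g⁻¹ * (g * cc * g⁻¹) by group, h1]
    · refine ⟨2, mul_left_cancel (a := g) (mul_right_cancel (b := g⁻¹) (h2.trans ?_))⟩
      rw [Fin.val_two, pow_two, show g * (cc * cc) * g⁻¹ = g * cc * g⁻¹ * (g * cc * g⁻¹) by group, h1,
        show cc * cc * (cc * cc) = cc * cc * cc * cc by group, hcc3, one_mul]
    · exact ⟨1, by simpa using mul_left_cancel (mul_right_cancel (h2.trans h1.symm))⟩
  obtain ⟨k, hk⟩ := hqk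
  obtain ⟨e, he⟩ := q_moves k
  refine he (R.ee_inj ?_)
  rw [← R.conj_ev _ (by simp), ← R.conj_ev _ ((by decide : ∀ k : Fin 3, ∀ n ∈ wpow [9] k.val, n < 11) k), ev_wpow]
  have e1 : ev R.eN [3, 6, 9, 7, 2] = R.q := by simp [ev, eN, q, mul_assoc]
  rw [show ev R.eN [9] = cc by simp [ev, eN, hcc], ← hk, e1]

/-- The element `y (i d c⁻¹) y⁻¹`. -/
def dw : G := R.y * (S.A.i * S.B.c * S.A.c⁻¹) * R.y⁻¹

theorem dw_commute_cc : Commute (S.A.c * S.B.c) R.dw := by
  have h : Commute (cz (S := S)) (S.A.i * S.B.c * S.A.c⁻¹) := by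
    have h1 : ev M.el wczw = cz (S := S) := by
      rw [wczw, ev_append, Rot.ev_wcc]; simp [ev, el, cz, S.A.hii, mul_assoc]
    have h2 : ev M.el wr0 = S.A.i * S.B.c * S.A.c⁻¹ := by
      rw [wr0, ev_append, ev_append, M.ev_wd]; simp [ev, el, mul_assoc]
    rw [← h1, ← h2]
    exact M.commute_of_ceq (by decide +kernel) cd_words.2.1 cd_words.2.2.1
  rw [← R.conj_y_cz]
  exact h.map (MulAut.conj R.y).toMonoidHom

theorem dw_cube : R.dw * R.dw * R.dw = 1 := by
  have h : (S.A.i * S.B.c * S.A.c⁻¹) ^ 3 = 1 := by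
    have h2 : ev M.el wr0 = S.A.i * S.B.c * S.A.c⁻¹ := by
      rw [wr0, ev_append, ev_append, M.ev_wd]; simp [ev, el, mul_assoc]
    rw [← h2, ← ev_wpow, M.eq_of_ceq cd_words.2.2.2.1 (letters9_wpow cd_words.2.2.1 3) rfl]; rfl
  rw [dw, show ∀ u : G, R.y * u * R.y⁻¹ * (R.y * u * R.y⁻¹) * (R.y * u * R.y⁻¹) = R.y * (u * u * u) * R.y⁻¹ from
    fun u => by group]
  rw [show ∀ u : G, u * u * u = u ^ 3 from fun u => by rw [pow_succ, pow_succ, pow_one], h]
  group

/-- Both `c` and `d` commute with `dw`. -/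
theorem commute_dw : Commute S.A.c R.dw ∧ Commute S.B.c R.dw := by
  classical
  obtain ⟨g₀, hg0c, hg0d, hg0z⟩ := R.cent_cd_not_le
  let K2 : Subgroup G := centralizer ({S.A.c, S.B.c} : Set G)
  have memK : ∀ g, g ∈ K2 ↔ Commute g S.A.c ∧ Commute g S.B.c := fun g => by
    simp only [K2, mem_centralizer_iff, Set.mem_insert_iff, Set.mem_singleton_iff, forall_eq_or_imp, forall_eq]
    exact ⟨fun h => ⟨h.1.symm, h.2.symm⟩, fun h => ⟨h.1.symm, h.2.symm⟩⟩
  -- a Sylow 2-subgroup of order two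
  let zz : K2 := ⟨S.z, (memK _).2 ⟨S.A.c_z.symm, S.B.c_z.symm⟩⟩
  haveI : Fact (Nat.Prime 2) := ⟨Nat.prime_two⟩
  have hzo : orderOf zz = 2 := by rw [← Subgroup.orderOf_coe]; exact S.hz
  obtain ⟨T, hT⟩ := (IsPGroup.of_card (p := 2) (n := 1) (G := zpowers zz)
    (by rw [Nat.card_zpowers, hzo, pow_one])).exists_le_sylow
  have hTz : (T : Subgroup K2) = zpowers zz := by
    by_contra hne
    haveI : Group.IsNilpotent T := T.isPGroup'.isNilpotent
    set H := (zpowers zz).subgroupOf (T : Subgroup K2)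
    have hHlt : H < ⊤ := lt_top_iff_ne_top.2 fun h => hne (le_antisymm (subgroupOf_eq_top.1 h) hT)
    obtain ⟨⟨g, hgT⟩, hgN, hgH⟩ := SetLike.exists_of_lt (Group.normalizerCondition_of_isNilpotent _ hHlt)
    have hgz : g * zz * g⁻¹ = zz := by
      have hm := (mem_normalizer_iff.1 hgN ⟨zz, hT (mem_zpowers zz)⟩).1 (mem_subgroupOf.2 (mem_zpowers zz))
      obtain ⟨k, hk⟩ := mem_zpowers_iff.1 (mem_subgroupOf.1 hm)
      have hk' : zz ^ k = g * zz * g⁻¹ := hk
      rcases Int.even_or_odd k with ⟨j, rfl⟩ | ⟨j, rfl⟩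
      · exfalso
        rw [← two_mul, zpow_mul, zpow_two, show zz * zz = 1 from Subtype.ext S.zz, one_zpow] at hk'
        have : zz = 1 := by
          rw [eq_comm, mul_inv_eq_one] at hk'
          exact mul_left_cancel (hk'.trans (mul_one g).symm)
        rw [this, orderOf_one] at hzo
        omega
      · rw [← hk', zpow_add, zpow_one, zpow_mul, zpow_two, show zz * zz = 1 from Subtype.ext S.zz, one_zpow, one_mul]
    have hgz' : Commute (g : G) S.z := mul_inv_eq_iff_eq_mul.1 (congrArg Subtype.val hgz)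
    obtain ⟨e, v, hv, hev⟩ := M.cent_cd_z hgz' ((memK _).1 g.2).1 ((memK _).1 g.2).2
    obtain ⟨n, hn⟩ := T.isPGroup' ⟨g, hgT⟩
    have hn' : (g : G) ^ 2 ^ n = 1 := congrArg Subtype.val (congrArg Subtype.val hn)
    have hv3 : v ^ 3 = 1 := by
      obtain ⟨k, l, rfl⟩ := hv
      rw [(S.cc.pow_pow k.val l.val).mul_pow, ← pow_mul, ← pow_mul, mul_comm k.val, mul_comm l.val, pow_mul,
        pow_mul, pow_succ S.A.c, pow_succ S.A.c, pow_one, S.A.hc, one_pow, pow_succ S.B.c, pow_succ S.B.c, pow_one,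
        S.B.hc, one_pow, mul_one]
    have hvz : Commute v (S.z ^ e.val) := by
      obtain ⟨k, l, rfl⟩ := hv
      exact ((S.A.c_z.pow_left _).mul_left (S.B.c_z.pow_left _)).pow_right _
    have hv2 : v ^ 2 ^ (n + 1) = 1 := by
      have h : (g : G) ^ 2 ^ (n + 1) = 1 := by rw [pow_succ, pow_mul, hn', one_pow]
      rwa [hev, hvz.mul_pow, ← pow_mul, mul_comm e.val, pow_mul, pow_succ 2 n, mul_comm (2 ^ n) 2, pow_mul S.z,
        pow_two, S.zz, one_pow, one_pow, mul_one, mul_comm 2 (2 ^ n), ← pow_succ] at h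
    have hv1 : v = 1 := orderOf_eq_one_iff.1 (Nat.eq_one_of_dvd_coprimes
      (show Nat.Coprime 3 (2 ^ (n + 1)) from Nat.Coprime.pow_right _ (by norm_num))
      (orderOf_dvd_of_pow_eq_one hv3) (orderOf_dvd_of_pow_eq_one hv2))
    apply hgH
    refine mem_subgroupOf.2 (mem_zpowers_iff.2 ⟨(e.val : ℤ), Subtype.ext ?_⟩)
    rw [hev, hv1, one_mul, zpow_natCast]
    rfl
  have hcyc : IsCyclic (T : Subgroup K2) := by rw [hTz]; exact isCyclic_zpowers zz
  have hnc : normalizer (T : Set K2) ≤ centralizer ((T : Subgroup K2) : Set K2) :=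
    hcyc.normalizer_le_centralizer (P := T) (by
      refine Nat.minFac_eq_two_iff _ |>.2 ?_
      rw [← hzo]; exact orderOf_dvd_natCard zz |> (fun h => h))
  set N := (MonoidHom.transferSylow T hnc).ker with hN
  have hNodd : Odd (Nat.card N) :=
    Nat.not_even_iff_odd.1 fun h => MonoidHom.not_dvd_card_ker_transferSylow T hnc (even_iff_two_dvd.1 h)
  have hcompl := MonoidHom.ker_transferSylow_isComplement' T hnc
  have hnotz : ¬Commute g₀ S.z := hg0z
  let k0 : K2 := ⟨g₀, (memK _).2 ⟨hg0c, hg0d⟩⟩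
  obtain ⟨⟨n0, t0⟩, hnt, -⟩ := hcompl.existsUnique k0
  have hn0 : ¬Commute (n0 : K2) zz := by
    intro hc
    refine hnotz (?_ : Commute g₀ S.z)
    have ht0 : Commute (t0 : K2) zz := by
      have ht : (t0 : K2) ∈ zpowers zz := by rw [← hTz]; exact t0.2
      obtain ⟨k, hk⟩ := mem_zpowers_iff.1 ht
      rw [← hk]; exact (Commute.refl zz).zpow_left k
    have := hc.mul_left ht0
    rw [show (n0 : K2) * (t0 : K2) = k0 from hnt] at this
    exact congrArg Subtype.val this.eq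
  -- the inverted element
  set N' : Subgroup G := N.map K2.subtype with hN'
  have hN'odd : Odd (Nat.card N') := by
    rwa [hN', Nat.card_congr (equivMapOfInjective N K2.subtype K2.subtype_injective).toEquiv.symm]
  have hzconj : ∀ h : G, h ∈ N' → S.z * h * S.z⁻¹ ∈ N' := by
    rintro _ ⟨h, hh, rfl⟩
    exact ⟨zz * h * zz⁻¹, (inferInstance : N.Normal).conj_mem h hh zz, rfl⟩
  have zi : S.z⁻¹ = S.z := inv_eq_of_mul_eq_one_right S.zz
  set v := ((n0 : K2) : G)⁻¹ * (S.z * ((n0 : K2) : G) * S.z⁻¹) with hvdef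
  have hn0' : ((n0 : K2) : G) ∈ N' := ⟨_, n0.2, rfl⟩
  have hv : v ∈ N' := N'.mul_mem (N'.inv_mem hn0') (hzconj _ hn0')
  have hvne : v ≠ 1 := by
    intro h
    rw [hvdef, inv_mul_eq_one] at h
    exact hn0 (Subtype.ext (mul_inv_eq_iff_eq_mul.1 h.symm).symm)
  have htv : S.z * v * S.z⁻¹ = v⁻¹ := by
    rw [hvdef, zi, show S.z * (((n0 : K2) : G)⁻¹ * (S.z * ((n0 : K2) : G) * S.z)) * S.z =
      S.z * ((n0 : K2) : G)⁻¹ * S.z * (((n0 : K2) : G)) * (S.z * S.z) by group, S.zz, mul_inv_rev, mul_inv_rev,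
      mul_inv_rev, zi, inv_inv]
    group
  -- `b` normalises the complement
  have hbK : ∀ h : G, h ∈ K2 → M.b * h * M.b⁻¹ ∈ K2 := by
    intro h hh
    obtain ⟨h1, h2⟩ := (memK h).1 hh
    have e1 : M.b * S.B.c * M.b⁻¹ = S.A.c := by
      rw [← M.bcb, M.b_inv]; simp [mul_assoc, M.hb]; rw [← mul_assoc, M.hb, one_mul]
    have e2 : M.b * S.A.c * M.b⁻¹ = S.B.c := by rw [M.b_inv, M.bcb]
    refine (memK _).2 ⟨?_, ?_⟩
    · rw [← e1]; exact h2.map (MulAut.conj M.b).toMonoidHom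
    · rw [← e2]; exact h1.map (MulAut.conj M.b).toMonoidHom
  have oddN : ∀ h : G, h ∈ K2 → Odd (orderOf h) → h ∈ N' := by
    intro h hh ho
    refine ⟨⟨h, hh⟩, ?_, rfl⟩
    have h1 : orderOf (MonoidHom.transferSylow T hnc ⟨h, hh⟩) ∣ orderOf (⟨h, hh⟩ : K2) := orderOf_map_dvd _ _
    rw [← Subgroup.orderOf_coe (⟨h, hh⟩ : K2)] at h1
    have h2 : orderOf (MonoidHom.transferSylow T hnc ⟨h, hh⟩) ∣ 2 := by
      have := orderOf_dvd_natCard (MonoidHom.transferSylow T hnc ⟨h, hh⟩)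
      rwa [show Nat.card (T : Subgroup K2) = 2 by rw [hTz, Nat.card_zpowers, hzo]] at this
    exact orderOf_eq_one_iff.1 (Nat.eq_one_of_dvd_coprimes
      (Nat.Coprime.symm ((Nat.prime_two.coprime_iff_not_dvd).2 fun h => (Nat.not_even_iff_odd.2 ho)
        (even_iff_two_dvd.2 h))) h1 h2)
  have hNK : ∀ h, h ∈ N' → h ∈ K2 := by rintro _ ⟨h, -, rfl⟩; exact h.2
  have hNo : ∀ h, h ∈ N' → Odd (orderOf h) := fun h hh => by
    have := orderOf_dvd_natCard (⟨h, hh⟩ : N')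
    rw [← Subgroup.orderOf_coe] at this
    exact hN'odd.of_dvd_nat this
  have hbN : ∀ h, h ∈ N' → M.b * h * M.b⁻¹ ∈ N' := fun h hh => by
    refine oddN _ (hbK h (hNK h hh)) ?_
    rw [show M.b * h * M.b⁻¹ = (MulAut.conj M.b).toMonoidHom h from rfl,
      orderOf_injective (MulAut.conj M.b).toMonoidHom (MulAut.conj M.b).injective]
    exact hNo h hh
  obtain ⟨w, hw, hwne, hwz, hwb⟩ := exists_fixed hN'odd hbN M.hb S.zz M.bz hv hvne htv
  -- move the fixed element into `C(b)`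
  obtain ⟨w', hw', hw'ne, hw'z, hw'b⟩ : ∃ w' ∈ N', w' ≠ 1 ∧ S.z * w' * S.z⁻¹ = w'⁻¹ ∧
      M.b * w' * M.b⁻¹ = w' := by
    rcases hwb with hwb | hwb
    · exact ⟨w, hw, hwne, hwz, hwb⟩
    set n := ev M.el wn with hn
    have nz : Commute n S.z := by
      rw [hn]
      induction wn with
      | nil => exact Commute.one_left _
      | cons a l ih => exact ih.mul_left (M.el_commute a)
    have n4 : n * S.A.c * n⁻¹ = S.A.c⁻¹ := by
      have := M.eq_of_ceq n_words.1 (by decide) (by decide)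
      rw [M.ev_cjw _ _ rfl] at this
      simpa [hn, ev, el] using this
    have nd : n * S.B.c * n⁻¹ = S.B.c⁻¹ := by
      have := M.eq_of_ceq n_words.2.1 (by decide) (by decide)
      rwa [M.ev_cjw _ _ rfl, M.ev_winv _ rfl, M.ev_wd] at this
    have nzb : n * (S.z * M.b) * n⁻¹ = M.b := by
      have := M.eq_of_ceq n_words.2.2.2 (by decide) (by decide)
      rwa [M.ev_cjw _ _ rfl, ev_append, M.ev_wz, M.ev8] at this
    have hnK : n * w * n⁻¹ ∈ K2 := by
      obtain ⟨h1, h2⟩ := (memK w).1 (hNK w hw)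
      refine (memK _).2 ⟨?_, ?_⟩
      · rw [show S.A.c = n * S.A.c⁻¹ * n⁻¹ by
          rw [show n * S.A.c⁻¹ * n⁻¹ = (n * S.A.c * n⁻¹)⁻¹ by group, n4, inv_inv]]
        exact (h1.inv_right).map (MulAut.conj n).toMonoidHom
      · rw [show S.B.c = n * S.B.c⁻¹ * n⁻¹ by
          rw [show n * S.B.c⁻¹ * n⁻¹ = (n * S.B.c * n⁻¹)⁻¹ by group, nd, inv_inv]]
        exact (h2.inv_right).map (MulAut.conj n).toMonoidHom
    refine ⟨n * w * n⁻¹, oddN _ hnK ?_, ?_, ?_, ?_⟩
    · rw [show n * w * n⁻¹ = (MulAut.conj n).toMonoidHom w from rfl,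
        orderOf_injective (MulAut.conj n).toMonoidHom (MulAut.conj n).injective]
      exact hNo w hw
    · intro h; rw [mul_inv_eq_one] at h; exact hwne (mul_left_cancel (h.trans (mul_one n).symm))
    · rw [show S.z * (n * w * n⁻¹) * S.z⁻¹ = (S.z * n) * w * (S.z * n)⁻¹ by group, ← nz.eq,
        show n * S.z * w * (n * S.z)⁻¹ = n * (S.z * w * S.z⁻¹) * n⁻¹ by group, hwz]
      group
    · conv_lhs => rw [← nzb]
      rw [show n * (S.z * M.b) * n⁻¹ * (n * w * n⁻¹) * (n * (S.z * M.b) * n⁻¹)⁻¹ =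
        n * (S.z * M.b * w * (S.z * M.b)⁻¹) * n⁻¹ by group, hwb]
  obtain ⟨hwc, hwd⟩ := (memK w').1 (hNK w' hw')
  set g := R.y⁻¹ * w' * R.y with hg
  have yz : R.y⁻¹ * M.b * R.y = S.z := by rw [← R.conj_y_z]; group
  have hgz : Commute g S.z := by
    have := (show Commute M.b w' from mul_inv_eq_iff_eq_mul.1 hw'b).symm.map (MulAut.conj R.y⁻¹).toMonoidHom
    simpa [hg, ← yz, mul_assoc] using this
  have hgcz : Commute g (cz (S := S)) := by
    have h := (hwc.mul_right hwd).map (MulAut.conj R.y⁻¹).toMonoidHom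
    have e : cz (S := S) = R.y⁻¹ * (S.A.c * S.B.c) * R.y := by rw [← R.conj_y_cz]; group
    rw [e]
    simpa [hg, mul_assoc] using h
  obtain ⟨u, hu⟩ := M.exists_nf hgz
  have hgo : g ^ 9 = 1 := by
    have ho : orderOf g = orderOf w' := by
      rw [hg, show R.y⁻¹ * w' * R.y = (MulAut.conj R.y⁻¹).toMonoidHom w' by simp,
        orderOf_injective (MulAut.conj R.y⁻¹).toMonoidHom (MulAut.conj R.y⁻¹).injective]
    have hm : g ∈ centralizer ({S.z} : Set G) := mem_centralizer_singleton_iff.2 hgz.eq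
    have hd := orderOf_dvd_natCard (⟨g, hm⟩ : centralizer ({S.z} : Set G))
    rw [S.cardC, ← Subgroup.orderOf_coe] at hd
    change orderOf g ∣ 1152 at hd
    refine orderOf_dvd_iff_pow_eq_one.1 ?_
    have hodd : Nat.Coprime (orderOf g) 128 := by
      rw [ho, show (128 : ℕ) = 2 ^ 7 by norm_num]
      exact Nat.Coprime.pow_right _ (Nat.coprime_two_right.2 (hNo w' hw'))
    exact hodd.dvd_of_dvd_mul_left (show orderOf g ∣ 128 * 9 from hd)
  have hcw : ev M.el wczw = cz (S := S) := by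
    rw [wczw, ev_append, Rot.ev_wcc]; simp [ev, el, cz, S.A.hii, mul_assoc]
  obtain ⟨k, l, hkl⟩ := cent_cz u (by
    rw [M.ceq_of_eq (by rw [M.ev_cmw _ _ (nf_ok u) cd_words.2.1, hu, hcw, hgcz.eq]; simp [ev])
      (letters9_cmw (nf_ok u) cd_words.2.1) rfl,
      M.ceq_of_eq (by rw [ev_wpow, hu, hgo]; rfl) (letters9_wpow (nf_ok u) 9) rfl]
    rfl)
  have he := M.eq_of_ceq hkl (nf_ok u) (letters9_append (letters9_wpow cd_words.2.2.1 _)
    (letters9_wpow cd_words.2.1 _))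
  have hr0 : ev M.el wr0 = S.A.i * S.B.c * S.A.c⁻¹ := by
    rw [wr0, ev_append, ev_append, M.ev_wd]; simp [ev, el, mul_assoc]
  rw [hu, ev_append, ev_wpow, ev_wpow, hcw, hr0] at he
  have hwe : w' = (S.A.c * S.B.c) ^ k.val * R.dw ^ l.val := by
    rw [show w' = R.y * g * R.y⁻¹ by rw [hg]; group, he, dw, ← R.conj_y_cz, conj_pow, conj_pow]
    group
  have hcc_c : Commute (S.A.c * S.B.c) S.A.c := (Commute.refl _).mul_left S.cc.symm
  have hl : Commute (R.dw ^ l.val) S.A.c := by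
    have h := ((hcc_c.pow_left k.val).inv_left).mul_left hwc
    rwa [hwe, inv_mul_cancel_left] at h
  have hl0 : l ≠ 0 := by
    rintro rfl
    rw [Fin.val_zero, pow_zero, mul_one] at hwe
    have hz1 : S.z * w' * S.z⁻¹ = w' := by
      rw [hwe, ((S.A.c_z.mul_left S.B.c_z).symm.pow_right _).eq, mul_inv_cancel_right]
    have h2 : w' * w' = 1 := by
      rw [hz1] at hw'z
      nth_rw 1 [hw'z]; exact inv_mul_cancel _
    refine hw'ne (orderOf_eq_one_iff.1 ?_)
    have hd : orderOf w' ∣ 2 := orderOf_dvd_of_pow_eq_one (by rw [pow_two, h2])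
    rcases (Nat.dvd_prime Nat.prime_two).1 hd with h | h
    · exact h
    · have := hNo w' hw'; rw [h] at this; exact absurd this (by decide)
  have hdw : Commute S.A.c R.dw := by
    have h3 := R.dw_cube
    have : R.dw = (R.dw ^ l.val) ^ l.val := by
      rcases (by decide : ∀ l : Fin 3, l = 0 ∨ l = 1 ∨ l = 2) l with rfl | rfl | rfl
      · exact absurd rfl hl0
      · simp
      · simp only [Fin.val_two, pow_two]
        rw [show R.dw * R.dw * (R.dw * R.dw) = R.dw * R.dw * R.dw * R.dw by group, h3, one_mul]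
    rw [this]; exact (hl.pow_left _).symm
  refine ⟨hdw, ?_⟩
  have h := hdw.inv_left.mul_left R.dw_commute_cc
  rwa [inv_mul_cancel_left] at h

end Rot

end Amal

end Cfsg.Agent.UFourThreeType
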