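import Cfsg.Agent.Lib.UFourThreeType.Amal
import Cfsg.Agent.Lib.UFourThreeType.TableC

/-!
# The coded centraliser

Letters `0..8` stand for `i, i⁻¹, j, j⁻¹, c, c⁻¹, a, a⁻¹, b`; a word is a list in the order of application.
* `Amal.word_eq_iff` : two words are equal iff they have the same code;
* `Amal.exists_nf` : every element of the centraliser is the value of a normal form word.
-/

set_option autoImplicit false

open Subgroup

namespace Cfsg.Agent.UFourThreeType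

open CosetEnum CosetEnum.Data

/-- The code of a word. -/
noncomputable def code (w : List ℕ) : ℕ := tabC.tw w 0

/-- The inverse word. -/
def winv (w : List ℕ) : List ℕ := (w.map fun a => if a = 8 then 8 else if a % 2 = 0 then a + 1 else a - 1).reverse

/-- Word of a power. -/
def wpow (w : List ℕ) : ℕ → List ℕ
  | 0 => []
  | n + 1 => w ++ wpow w n

/-- The word of a code of the quaternion part. -/
def qword (x : Fin 32) : List ℕ :=
  wpow [8, 2, 8] (qbit x 4) ++ wpow [8, 0, 8] (qbit x 3) ++ wpow [2] (qbit x 2) ++ wpow [0] (qbit x 1) ++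
    wpow [0, 0] (qbit x 0)

/-- A word in the nine letters. -/
def letters9 (w : List ℕ) : Bool := w.all fun a => a < 9

/-- A normal form. -/
abbrev NF := (Fin 32 × Fin 3 × Fin 3) × Fin 2 × Fin 2

/-- The word of a normal form. -/
def nfw (u : NF) : List ℕ :=
  wpow [8] u.2.2.val ++ wpow [6] u.2.1.val ++ wpow [8, 4, 8] u.1.2.2.val ++ wpow [4] u.1.2.1.val ++ qword u.1.1

theorem actA_qI : nlift actA qI = qI ∧ nlift actA qi = qi ∧ nlift actA qj = qm qi qj ∧
    nlift actA qJ = qm qJ qI ∧ nlift actB qi = qI ∧ nlift actB qj = qJ := by decide +kernel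

theorem cmap_rels : (∀ x, nlift actB (cmapA x) = cmapB (nlift actB x)) ∧
    (∀ x, nlift actA (cmapA x) = cmapA (qconj qj (cmapA (nlift actA x)))) ∧
    (∀ x, nlift actA (cmapB x) = qconj qI (cmapB (cmapB (nlift actA x)))) ∧
    (∀ y, ∃ x, nlift actA x = y) ∧ (∀ y, ∃ x, nlift actB x = y) ∧
    (∀ y : Fin 32, (∀ x, qm y x = qm x y) → y = 0 ∨ y = qz) := by decide +kernel

namespace Amal

variable {G : Type*} [Group G] {S : Base G}

/-- The letters. -/
def el (M : Amal S) (n : ℕ) : G :=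
  [S.A.i, S.A.i⁻¹, S.A.j, S.A.j⁻¹, S.A.c, S.A.c⁻¹, M.a, M.a⁻¹, M.b].getD n 1

variable [Finite G] (M : Amal S)

theorem b_inv : M.b⁻¹ = M.b := inv_eq_of_mul_eq_one_right M.hb

include M in
theorem eq_of_act {g k : G} (hg : Commute g S.z) (hk : Commute k S.z) (hg3 : g * g * g = 1)
    (hk3 : k * k * k = 1) (h : ∀ x, g * S.q x * g⁻¹ = k * S.q x * k⁻¹) : g = k := by
  obtain ⟨y, hy⟩ := S.cent (k⁻¹ * g) (hk.inv_left.mul_left hg) fun x => by
    refine mul_inv_eq_iff_eq_mul.1 ?_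
    rw [show k⁻¹ * g * S.q x * (k⁻¹ * g)⁻¹ = k⁻¹ * (g * S.q x * g⁻¹) * k by group, h]; group
  have hgy : g = k * S.q y := by rw [hy]; group
  have hyc : ∀ x, Commute (S.q y) (S.q x) := fun x => by
    refine mul_inv_eq_iff_eq_mul.1 ?_
    rw [hy, show k⁻¹ * g * S.q x * (k⁻¹ * g)⁻¹ = k⁻¹ * (g * S.q x * g⁻¹) * k by group, h]; group
  rcases cmap_rels.2.2.2.2.2 y (fun x => S.q_inj (by rw [← S.q_mul, ← S.q_mul]; exact (hyc x).eq)) with rfl | rfl
  · rw [hgy, S.q_zero, mul_one]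
  · exfalso
    rw [S.q_z] at hgy
    rw [hgy] at hg3
    have : k * S.z * (k * S.z) * (k * S.z) = k * k * k * S.z := by
      have hz1 := S.zz
      calc k * S.z * (k * S.z) * (k * S.z) = k * (S.z * k) * (S.z * k) * S.z := by group
        _ = k * (k * S.z) * (k * S.z) * S.z := by rw [hk.eq]
        _ = k * k * (S.z * k) * (S.z * S.z) := by group
        _ = k * k * k * S.z := by rw [hz1, mul_one, ← hk.eq]; group
    rw [this, hk3, one_mul] at hg3
    have h2 := S.hz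
    rw [hg3, orderOf_one] at h2
    omega

theorem bib : M.b * S.A.i * M.b = S.B.i := by
  have h := M.actB qi
  rwa [M.b_inv, S.q_i, actA_qI.2.2.2.2.1, S.q_I] at h

theorem bjb : M.b * S.A.j * M.b = S.B.j := by
  have h := M.actB qj
  rwa [M.b_inv, S.q_j, actA_qI.2.2.2.2.2, S.q_J] at h

theorem bcb : M.b * S.A.c * M.b = S.B.c := by
  refine M.eq_of_act ((M.bz.mul_left S.A.c_z).mul_left M.bz) S.B.c_z ?_ S.B.hc fun x => ?_
  · calc _ = M.b * S.A.c * (M.b * M.b) * S.A.c * (M.b * M.b) * S.A.c * M.b := by group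
      _ = M.b * (S.A.c * S.A.c * S.A.c) * M.b := by rw [M.hb]; group
      _ = 1 := by rw [S.A.hc, mul_one, M.hb]
  · obtain ⟨y, rfl⟩ := cmap_rels.2.2.2.2.1 x
    rw [S.conj_cB, ← cmap_rels.1 y, ← M.actB (cmapA y), ← S.conj_cA, ← M.actB y]
    simp only [mul_inv_rev, M.b_inv, mul_assoc, ← mul_assoc M.b M.b, M.hb, one_mul]

theorem aca : M.a * S.A.c * M.a⁻¹ = S.A.c * S.A.j * S.A.c := by
  refine M.eq_of_act ((M.az.mul_left S.A.c_z).mul_left M.az.inv_left)
    ((S.A.c_z.mul_left S.A.j_z).mul_left S.A.c_z) ?_ ?_ fun x => ?_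
  · calc _ = M.a * (S.A.c * S.A.c * S.A.c) * M.a⁻¹ := by group
      _ = 1 := by rw [S.A.hc, mul_one, mul_inv_cancel]
  · have hk : S.A.c * S.A.j * S.A.c = S.k (0, 1, 0) * S.k (qj, 0, 0) * S.k (0, 1, 0) := by
      simp [Frame.k, S.q_zero, S.q_j]
    rw [hk, S.k_mul, S.k_mul, S.k_mul, S.k_mul]
    exact (congrArg S.k (by decide +kernel : _ = ((0, 0, 0) : Fin 32 × Fin 3 × Fin 3))).trans
      (by simp [Frame.k, S.q_zero])
  · obtain ⟨y, rfl⟩ := cmap_rels.2.2.2.1 x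
    rw [show S.A.c * S.A.j * S.A.c * S.q (nlift UFourThreeType.actA y) * (S.A.c * S.A.j * S.A.c)⁻¹ =
      S.A.c * (S.A.j * (S.A.c * S.q (nlift UFourThreeType.actA y) * S.A.c⁻¹) * S.A.j⁻¹) * S.A.c⁻¹ by group, S.conj_cA,
      ← S.q_j, S.q_conj, S.conj_cA, ← cmap_rels.2.1 y, ← M.actA (cmapA y), ← S.conj_cA, ← M.actA y]
    group

theorem ada : M.a * S.B.c * M.a⁻¹ = S.B.i * S.B.c * S.B.c := by
  refine M.eq_of_act ((M.az.mul_left S.B.c_z).mul_left M.az.inv_left)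
    ((S.B.i_z.mul_left S.B.c_z).mul_left S.B.c_z) ?_ ?_ fun x => ?_
  · calc _ = M.a * (S.B.c * S.B.c * S.B.c) * M.a⁻¹ := by group
      _ = 1 := by rw [S.B.hc, mul_one, mul_inv_cancel]
  · have hk : S.B.i * S.B.c * S.B.c = S.k (qI, 0, 1) * S.k (0, 0, 1) := by
      simp [Frame.k, S.q_zero, S.q_I]
    rw [hk, S.k_mul, S.k_mul, S.k_mul]
    exact (congrArg S.k (by decide +kernel : _ = ((0, 0, 0) : Fin 32 × Fin 3 × Fin 3))).trans
      (by simp [Frame.k, S.q_zero])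
  · obtain ⟨y, rfl⟩ := cmap_rels.2.2.2.1 x
    rw [show S.B.i * S.B.c * S.B.c * S.q (nlift UFourThreeType.actA y) * (S.B.i * S.B.c * S.B.c)⁻¹ =
      S.B.i * (S.B.c * (S.B.c * S.q (nlift UFourThreeType.actA y) * S.B.c⁻¹) * S.B.c⁻¹) * S.B.i⁻¹ by group, S.conj_cB,
      S.conj_cB, ← S.q_I, S.q_conj, ← cmap_rels.2.2.1 y, ← M.actA (cmapB y), ← S.conj_cB, ← M.actA y]
    group

theorem inv_letters : ∀ a < tabC.k, M.el (tabC.invl a) * M.el a = 1 := by
  intro n hn
  change n < 9 at hn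
  interval_cases n <;> simp [el, Data.invl, tabC, M.hb]

theorem loops_eq_one : ∀ w, (true, w) ∈ tabC.loops → ev M.el w = 1 := by
  have hzz := S.zz
  have ii := S.A.hii
  have i4 : S.A.i * S.A.i * S.A.i * S.A.i = 1 := by rw [ii, mul_assoc, ii, hzz]
  have com : ∀ {u v : G}, Commute u v → u * v * u⁻¹ * v⁻¹ = 1 := fun h => by rw [h.eq]; group
  have binv := M.b_inv
  have hBi : M.b * S.A.i⁻¹ * M.b = S.B.i⁻¹ := by rw [← M.bib]; simp [binv, mul_assoc]
  have hBj : M.b * S.A.j⁻¹ * M.b = S.B.j⁻¹ := by rw [← M.bjb]; simp [binv, mul_assoc]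
  have hBc : M.b * S.A.c⁻¹ * M.b = S.B.c⁻¹ := by rw [← M.bcb]; simp [binv, mul_assoc]
  have ht : S.t = S.A.i * S.B.i := by rw [← S.q_i, ← S.q_I, S.q_mul]; rfl
  have hai : M.a * S.A.i * M.a⁻¹ = S.A.i := by
    have h := M.actA qi; rwa [actA_qI.2.1, S.q_i] at h
  have haj : M.a * S.A.j * M.a⁻¹ = S.A.i * S.A.j := by
    have h := M.actA qj; rwa [actA_qI.2.2.1, ← S.q_mul, S.q_i, S.q_j] at h
  have haJ : M.a * S.B.j * M.a⁻¹ = S.B.j * S.B.i := by
    have h := M.actA qJ; rwa [actA_qI.2.2.2.1, ← S.q_mul, S.q_I, S.q_J] at h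
  intro w hw
  simp only [tabC, List.mem_cons, Prod.mk.injEq, List.not_mem_nil, or_false, true_and, Bool.true_eq_false,
    false_and, false_or] at hw
  rcases hw with rfl | rfl | rfl | rfl | rfl | rfl | rfl | rfl | rfl | rfl | rfl | rfl | rfl | rfl | rfl |
    rfl | rfl | rfl | rfl | rfl | rfl | rfl | rfl | rfl | rfl | rfl | rfl | rfl
  all_goals simp only [ev, el, List.getD_cons_succ, List.getD_cons_zero, one_mul]
  · exact M.hb
  · exact inv_mul_cancel _
  · exact inv_mul_cancel _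
  · exact inv_mul_cancel _
  · exact inv_mul_cancel _
  · exact S.A.hc
  · exact i4
  · rw [S.A.hjj, mul_assoc S.z, ← mul_assoc, mul_assoc S.z, ii, hzz]
  · rw [S.A.hji, show S.A.i * S.A.j * S.z * S.A.j⁻¹ * S.A.i = S.A.i * (S.A.j * S.z * S.A.j⁻¹) * S.A.i by group,
      S.A.j_z.eq, mul_inv_cancel_right, S.A.i_z.eq, mul_assoc, ii, hzz]
  · rw [S.A.hci]; group
  · rw [hai, mul_inv_cancel]
  · rw [S.A.hcj]; group
  · rw [haj]; group
  · rw [show M.a * M.a * M.b * S.A.i⁻¹ * M.b * S.A.i⁻¹ = M.a * M.a * (M.b * S.A.i⁻¹ * M.b) * S.A.i⁻¹ by group,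
      hBi, M.ha, ht]; group
  · rw [M.aca]; group
  all_goals first
    | (rw [show ∀ u v w : G, u * M.b * v * M.b * u⁻¹ * M.b * w * M.b =
          u * (M.b * v * M.b) * u⁻¹ * (M.b * w * M.b) from fun u v w => by group]
       simp only [M.bib, M.bjb, M.bcb, hBi, hBj, hBc]
       first | exact com S.ii | exact com S.ij | exact com S.ic | exact com S.ji | exact com S.jj | exact com S.jc | exact com S.ci | exact com S.cj | exact com S.cc)
    | skip
  · rw [show S.A.i * S.A.i * M.b * S.A.i⁻¹ * S.A.i⁻¹ * M.b =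
      S.A.i * S.A.i * (M.b * (S.A.i * S.A.i)⁻¹ * M.b) by group, ii, ← M.bz.inv_right.symm.eq]
    simp [mul_assoc, M.hb]
  · rw [M.hab, show S.t * (M.b * M.a) * M.a⁻¹ * S.A.i⁻¹ * M.b * S.A.i⁻¹ =
      S.t * (M.b * S.A.i⁻¹ * M.b) * S.A.i⁻¹ by group, hBi, ht]; group
  · rw [show M.a * M.b * S.A.j * M.b * M.a⁻¹ * M.b * S.A.i⁻¹ * S.A.j⁻¹ * M.b =
      M.a * (M.b * S.A.j * M.b) * M.a⁻¹ * ((M.b * S.A.i⁻¹ * M.b) * (M.b⁻¹ * S.A.j⁻¹ * M.b)) by group, binv,
      M.bjb, hBi, hBj, haJ]; group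
  · rw [show M.a * M.b * S.A.c * M.b * M.a⁻¹ * M.b * S.A.c⁻¹ * S.A.c⁻¹ * S.A.i⁻¹ * M.b =
      M.a * (M.b * S.A.c * M.b) * M.a⁻¹ *
        ((M.b * S.A.c⁻¹ * M.b) * (M.b⁻¹ * S.A.c⁻¹ * M.b) * (M.b⁻¹ * S.A.i⁻¹ * M.b)) by group, binv,
      M.bcb, hBi, hBc, M.ada]; group

/-- The coding map. -/
theorem exists_map : ∃ φ : ℕ → G, φ 0 = 1 ∧ ∀ a < 9, ∀ i < 1152, M.el a * φ i = φ (tabC.act a i) :=
  exists_phi (X := G) tabC_check M.el 1 M.inv_letters M.loops_eq_one fun w hw => by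
    simp [tabC] at hw

theorem ev_wpow {G : Type*} [Group G] (el : ℕ → G) (w : List ℕ) : ∀ n, ev el (wpow w n) = ev el w ^ n
  | 0 => by simp [wpow, ev]
  | n + 1 => by rw [wpow, ev_append, ev_wpow el w n, pow_succ]

theorem el_z : ev M.el [0, 0] = S.z := by simp [ev, el, S.A.hii]

theorem el_commute : ∀ n, Commute (M.el n) S.z := by
  intro n
  rcases n with _ | _ | _ | _ | _ | _ | _ | _ | _ | n
  · exact S.A.i_z
  · exact S.A.i_z.inv_left
  · exact S.A.j_z
  · exact S.A.j_z.inv_left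
  · exact S.A.c_z
  · exact S.A.c_z.inv_left
  · exact M.az
  · exact M.az.inv_left
  · exact M.bz
  · simp [el]

theorem ev_qword (x : Fin 32) : ev M.el (qword x) = S.q x := by
  simp only [qword, ev_append, ev_wpow, ev, el, List.getD_cons_zero, List.getD_cons_succ, one_mul, M.bib,
    M.bjb, S.A.hii, Frame.q]
  simp [mul_assoc]

theorem ev_nfw (u : NF) : ev M.el (nfw u) = S.k u.1 * (M.a ^ u.2.1.val * M.b ^ u.2.2.val) := by
  simp only [nfw, ev_append, ev_wpow, ev_qword, ev, el, List.getD_cons_zero, List.getD_cons_succ, one_mul,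
    M.bcb, Frame.k]
  simp [mul_assoc]

/-- Every element of the centraliser is the value of a normal form. -/
theorem exists_nf {g : G} (hg : Commute g S.z) : ∃ u : NF, ev M.el (nfw u) = g := by
  obtain ⟨p, e, rfl⟩ := M.W.cover hg
  obtain ⟨l, hl, hla⟩ := M.hla
  obtain ⟨m, hm, hmb⟩ := M.hlb
  have hk : ∀ x, S.k (x, 0, 0) = S.q x := fun x => by simp [Frame.k]
  have hma : M.W.r' (1, 0) = S.q (qinv l) * M.a := by rw [hla, S.q_inv, inv_mul_cancel_left]
  have hmb' : M.W.r' (0, 1) = S.q (qinv m) * M.b := by rw [hmb, S.q_inv, inv_mul_cancel_left]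
  have he : ∃ x, M.W.r' e = S.q x * (M.a ^ e.1.val * M.b ^ e.2.val) := by
    rcases (by decide +kernel : ∀ e : Fin 2 × Fin 2, e = 0 ∨ e = (1, 0) ∨ e = (0, 1) ∨ e = (1, 1)) e with
      rfl | rfl | rfl | rfl
    · exact ⟨0, by rw [M.W.r'_zero, S.q_zero]; simp⟩
    · exact ⟨qinv l, by rw [hma]; simp⟩
    · exact ⟨qinv m, by rw [hmb']; simp⟩
    · refine ⟨qm (qinv l) (nlift UFourThreeType.actA (qinv m)), ?_⟩
      have h11 : M.W.r' (1, 1) = M.W.r' (1, 0) * M.W.r' (0, 1) := by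
        simp only [Swap.r', rc, qpw, Fin.val_one, Fin.val_zero, one_ne_zero, if_false, if_true, (qm_zero _).1,
          (qm_zero _).2, ← S.q_mul]
        group
      rw [h11, hma, hmb', ← S.q_mul, ← M.actA (qinv m)]
      simp [mul_assoc]
  obtain ⟨x, hx⟩ := he
  refine ⟨((qm p.1 (cmapAB p.2.1 p.2.2 x), p.2.1 + 0, p.2.2 + 0), e.1, e.2), ?_⟩
  rw [M.ev_nfw, hx, ← hk x, ← mul_assoc (S.k p), S.k_mul]

theorem act_lt : ∀ a < 9, ∀ i < 1152, tabC.act a i < 1152 := by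
  have h := tabC_check
  unfold Data.check at h
  simp only [Bool.and_eq_true] at h
  exact (permFacts h.1).act_lt_n

/-- Two words are equal iff their codes are. -/
theorem word_eq_iff (w v : List ℕ) (hw : letters9 w = true) (hv : letters9 v = true) :
    ev M.el w = ev M.el v ↔ code w = code v := by
  classical
  obtain ⟨φ, h0, hφ⟩ := M.exists_map
  have key : ∀ (u : List ℕ), letters9 u = true → ∀ i < 1152,
      ev M.el u * φ i = φ (tabC.tw u i) ∧ tabC.tw u i < 1152 := by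
    intro u
    induction u with
    | nil => exact fun _ i hi => ⟨one_mul _, hi⟩
    | cons a u ih =>
      intro hu i hi
      simp only [letters9, List.all_cons, Bool.and_eq_true, decide_eq_true_eq] at hu
      obtain ⟨h1, h2⟩ := ih hu.2 (tabC.act a i) (act_lt a hu.1 i hi)
      exact ⟨by rw [ev, mul_assoc, hφ a hu.1 i hi, h1]; rfl, h2⟩
  have hval : ∀ u, letters9 u = true → ev M.el u = φ (code u) ∧ code u < 1152 := fun u hu => by
    obtain ⟨h1, h2⟩ := key u hu 0 (by norm_num)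
    exact ⟨by rw [h0, mul_one] at h1; exact h1, h2⟩
  obtain ⟨e1, l1⟩ := hval w hw
  obtain ⟨e2, l2⟩ := hval v hv
  rw [e1, e2]
  refine ⟨fun he => ?_, fun he => by rw [he]⟩
  let C := centralizer ({S.z} : Set G)
  have hsurj : ∀ g : C, ∃ i : Fin 1152, φ i = g := fun g => by
    obtain ⟨u, hu⟩ := M.exists_nf (mem_centralizer_singleton_iff.1 g.2)
    obtain ⟨h1, h2⟩ := hval (nfw u) ((by decide +kernel : ∀ u : NF, letters9 (nfw u) = true) u)
    exact ⟨⟨_, h2⟩, by rw [← hu, h1]⟩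
  choose f hf using hsurj
  have hfb : Function.Bijective f := by
    refine (Nat.bijective_iff_injective_and_card f).2 ⟨fun a b hab => Subtype.ext ?_, ?_⟩
    · rw [← hf a, ← hf b, hab]
    · rw [S.cardC, Nat.card_fin]
  obtain ⟨g1, hg1⟩ := hfb.2 ⟨_, l1⟩
  obtain ⟨g2, hg2⟩ := hfb.2 ⟨_, l2⟩
  have hh : g1 = g2 := Subtype.ext (by rw [← hf g1, ← hf g2, hg1, hg2]; exact he)
  rw [hh, hg2] at hg1
  exact (congrArg Fin.val hg1).symm

end Amal

end Cfsg.Agent.UFourThreeType
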