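import Cfsg.Agent.Lib.UFourThreeType.Iso
import Cfsg.Agent.S0223
import Cfsg.Agent.S1225
import Cfsg.Agent.S5513

/-!
# The whole group

* `Amal.Rot.isConj_G0` : `G0` has one class of involutions;
* `recognition` : `G` is `PSU(4,3)` and has one class of involutions.
-/

set_option autoImplicit false
set_option linter.unusedSectionVars false

open Subgroup

namespace Cfsg.Agent.UFourThreeType

open CosetEnum CosetEnum.Data

/-- Representatives of the classes of involutions in `C(z)`. -/
def invReps : List (List ℕ) := [wz, wt, [8], clw (60 : Fin 64)]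

/-- Conjugating words. -/
def invWits : List (List ℕ × ℕ) :=
  [([8, 4], 3),
   ([1, 4, 7], 2),
   ([0, 2], 2),
   ([6, 3], 2),
   ([7, 5], 2),
   ([4, 1], 2),
   ([2, 6], 2),
   ([5], 1),
   ([0, 4], 3),
   ([5, 2], 2),
   ([5, 8, 5], 1),
   ([4, 8, 4, 7], 1),
   ([6], 3),
   ([5, 6, 8], 1),
   ([4], 1),
   ([2, 4], 3),
   ([5], 3),
   ([5, 8, 2], 1),
   ([5, 8, 4, 1], 1),
   ([], 1),
   ([5, 8], 3),
   ([0], 2),
   ([4, 8], 1),
   ([5, 7], 2),
   ([0], 3),
   ([4, 8, 5], 1),
   ([2], 1),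
   ([7, 4], 2),
   ([5], 2),
   ([1, 5], 3),
   ([4, 6], 3),
   ([4, 1], 3),
   ([2, 5], 3),
   ([0, 4], 2),
   ([5, 6], 1),
   ([], 0),
   ([4, 7], 2),
   ([4, 6], 2),
   ([5, 6], 2),
   ([1, 5], 2),
   ([], 3),
   ([5, 8], 1),
   ([1, 6], 3),
   ([0, 2], 3),
   ([5, 8, 4], 1),
   ([4, 1, 8, 4], 1),
   ([], 2),
   ([4, 8, 4], 1),
   ([2, 5], 1),
   ([6], 2),
   ([4], 3),
   ([4, 8], 3),
   ([2, 5], 2),
   ([1, 6], 2),
   ([2, 4], 2),
   ([5, 6], 3),
   ([2], 3),
   ([4], 2),
   ([4, 8, 5, 2], 1),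
   ([5, 2], 3),
   ([7, 5], 3),
   ([3, 5, 7], 2),
   ([2], 2),
   ([8, 3], 3),
   ([4, 7], 3),
   ([5, 7], 3),
   ([2, 6], 3)]

theorem inv_cover : ((List.finRange 32).all fun x => (List.finRange 3).all fun m => (List.finRange 3).all fun n =>
    (List.finRange 2).all fun e => (List.finRange 2).all fun f =>
      let w := nfw ((x, m, n), e, f)
      !(ceq (w ++ w) [] && !ceq w []) ||
        invWits.any fun p => letters9 p.1 && ceq (cjw p.1 (invReps.getD p.2 [])) w) = true := by decide +kernel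

theorem inv_wit_ok : (invWits.all fun p => p.2 < 4) = true ∧ (invReps.all fun w => letters9 w) = true ∧
    imgc (60 : Fin 64) = (12 : Fin 64) ∧ letters9 [4, 8, 5] = true ∧ ceq (cjw [4, 8, 5] wt) (clw (12 : Fin 64)) = true := by decide +kernel

namespace Amal.Rot

variable {G : Type*} [Group G] [Finite G] {S : Base G} {M : Amal S} (R : M.Rot)

/-- Conjugate to `z` inside `G0`. -/
def IsZ (g : G) : Prop := ∃ h ∈ R.G0, h * S.z * h⁻¹ = g

theorem isZ_conj {g h : G} (hg : R.IsZ g) (hh : h ∈ R.G0) : R.IsZ (h * g * h⁻¹) := by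
  obtain ⟨k, hk, rfl⟩ := hg
  exact ⟨h * k, mul_mem hh hk, by group⟩

theorem y_mem : R.y ∈ R.G0 :=
  mul_mem (mul_mem (mul_mem (mul_mem R.x_mem (R.cent_le S.A.c_z)) (R.cent_le M.bz)) (R.cent_le S.A.c_z)) R.x_mem

theorem ev_mem {w : List ℕ} (hw : letters9 w = true) : ev M.el w ∈ R.G0 := by
  refine R.cent_le ?_
  clear hw
  induction w with
  | nil => exact Commute.one_left _
  | cons a l ih => exact ih.mul_left (M.el_commute a)

theorem isZ_of_involution {g : G} (hz : Commute g S.z) (hg : orderOf g = 2) : R.IsZ g := by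
  obtain ⟨⟨⟨x, m, n⟩, e, f⟩, rfl⟩ := M.exists_nf hz
  have hne : ev M.el (nfw ((x, m, n), e, f)) ≠ 1 := fun h => by rw [h, orderOf_one] at hg; omega
  have hsq : ev M.el (nfw ((x, m, n), e, f)) * ev M.el (nfw ((x, m, n), e, f)) = 1 := by
    have h := pow_orderOf_eq_one (ev M.el (nfw ((x, m, n), e, f)))
    rwa [hg, pow_two] at h
  have hl := Amal.nf_ok ((x, m, n), e, f)
  have hd := List.all_eq_true.1 (List.all_eq_true.1 (List.all_eq_true.1 (List.all_eq_true.1 (List.all_eq_true.1
    inv_cover x (List.mem_finRange x)) m (List.mem_finRange m)) n (List.mem_finRange n)) e (List.mem_finRange e))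
    f (List.mem_finRange f)
  have c1 : ceq (nfw ((x, m, n), e, f) ++ nfw ((x, m, n), e, f)) [] = true :=
    M.ceq_of_eq (by rw [ev_append, hsq]; rfl) (letters9_append hl hl) rfl
  have c2 : ceq (nfw ((x, m, n), e, f)) [] = false := by
    cases hb : ceq (nfw ((x, m, n), e, f)) [] with
    | false => rfl
    | true => exact absurd (M.eq_of_ceq hb hl rfl) hne
  simp only [c1, c2, Bool.not_false, Bool.and_self, Bool.not_true, Bool.false_or, List.any_eq_true,
    Bool.and_eq_true] at hd
  obtain ⟨⟨w, r⟩, hmem, hw, hc⟩ := hd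
  obtain ⟨hr4, hrep, himg, hhw, hht⟩ := inv_wit_ok
  simp only [List.all_eq_true, decide_eq_true_eq] at hr4 hrep
  have hr : r < 4 := hr4 _ hmem
  have hrl : letters9 (invReps.getD r []) = true := by
    interval_cases r <;> exact hrep _ (by simp [invReps])
  rw [← M.eq_of_ceq hc (letters9_cjw hw hrl) hl, M.ev_cjw _ _ hw]
  refine R.isZ_conj ?_ (R.ev_mem hw)
  have ht : R.IsZ S.t := ⟨R.x, R.x_mem, R.rot.hz⟩
  interval_cases r
  · rw [show invReps.getD 0 [] = wz from rfl, M.ev_wz]
    exact ⟨1, one_mem _, by group⟩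
  · rw [show invReps.getD 1 [] = wt from rfl, M.ev_wt]; exact ht
  · rw [show invReps.getD 2 [] = [8] from rfl, M.ev8]; exact ⟨R.y, R.y_mem, R.conj_y_z⟩
  · rw [show invReps.getD 3 [] = clw (60 : Fin 64) from rfl]
    have e := R.rot.conj_imgc M (60 : Fin 64)
    rw [himg] at e
    have h2 : R.IsZ (M.cl (12 : Fin 64)) := by
      rw [cl, ← M.eq_of_ceq hht (letters9_cjw hhw rfl) (clw_ok _).1, M.ev_cjw _ _ hhw, M.ev_wt]
      exact R.isZ_conj ht (R.ev_mem hhw)
    show R.IsZ (M.cl (60 : Fin 64))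
    rw [show M.cl (60 : Fin 64) = R.x⁻¹ * M.cl (12 : Fin 64) * R.x⁻¹⁻¹ by rw [e]; group]
    exact R.isZ_conj h2 (inv_mem R.x_mem)

theorem factorization_two : (3265920 : ℕ).factorization 2 = 7 := by
  rw [show (3265920 : ℕ) = 2 ^ 7 * 25515 from rfl, Nat.factorization_mul (by norm_num) (by norm_num),
    Finsupp.add_apply, Nat.prime_two.factorization_pow, Finsupp.single_eq_same,
    Nat.factorization_eq_zero_of_not_dvd (by norm_num)]

theorem isConj_G0 (hcard : Nat.card R.G0 = 3265920) {g : G} (hg : g ∈ R.G0) (h2 : orderOf g = 2) : R.IsZ g := by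
  classical
  haveI : Fact (Nat.Prime 2) := ⟨Nat.prime_two⟩
  let C' : Subgroup R.G0 := (centralizer ({S.z} : Set G)).subgroupOf R.G0
  have hle : centralizer ({S.z} : Set G) ≤ R.G0 := fun u hu =>
    R.cent_le (mem_centralizer_singleton_iff.1 hu)
  have hC : Nat.card C' = 1152 := by rw [Nat.card_congr (subgroupOfEquivOfLe hle).toEquiv, S.cardC]
  let PC : Sylow 2 C' := default
  have hPC : Nat.card (PC : Subgroup C') = 2 ^ 7 := by
    rw [PC.card_eq_multiplicity, hC]
    congr 1
    rw [show (1152 : ℕ) = 2 ^ 7 * 9 from rfl, Nat.factorization_mul (by norm_num) (by norm_num), Finsupp.add_apply,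
      Nat.prime_two.factorization_pow, Finsupp.single_eq_same, Nat.factorization_eq_zero_of_not_dvd (by norm_num)]
  let T : Sylow 2 R.G0 := Sylow.ofCard ((PC : Subgroup C').map C'.subtype) (by
    rw [Nat.card_congr (equivMapOfInjective _ C'.subtype C'.subtype_injective).toEquiv.symm, hPC, hcard,
      factorization_two])
  have hTC : ∀ u : R.G0, u ∈ T → Commute (u : G) S.z := by
    intro u hu
    obtain ⟨v, -, rfl⟩ := (hu : u ∈ (PC : Subgroup C').map C'.subtype)
    exact mem_centralizer_singleton_iff.1 (mem_subgroupOf.1 v.2)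
  let u : R.G0 := ⟨g, hg⟩
  have hu2 : orderOf u = 2 := by rw [← Subgroup.orderOf_coe]; exact h2
  obtain ⟨T', hT'⟩ := (IsPGroup.of_card (p := 2) (n := 1) (G := zpowers u)
    (by rw [Nat.card_zpowers, hu2, pow_one])).exists_le_sylow
  obtain ⟨k, hk⟩ := MulAction.exists_smul_eq R.G0 T' T
  have hm : k * u * k⁻¹ ∈ T := by
    rw [← hk]
    exact ⟨u, hT' (mem_zpowers u), rfl⟩
  have hz := hTC _ hm
  have ho : orderOf ((k * u * k⁻¹ : R.G0) : G) = 2 := by
    rw [Subgroup.orderOf_coe, show k * u * k⁻¹ = (MulAut.conj k).toMonoidHom u from rfl,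
      orderOf_injective (MulAut.conj k).toMonoidHom (MulAut.conj k).injective, hu2]
  have h := R.isZ_conj (R.isZ_of_involution hz ho) (inv_mem k.2)
  simpa [u, mul_assoc] using h

end Amal.Rot

/-- No subgroup of odd order of `PSU(4,3)` has order divisible by 2835. -/
theorem no_odd_subgroup {H : Type*} [Group H] [Finite H] (K : Type) [Field K] [Fintype K] (hK : Fintype.card K = 9)
    (e : H ≃* Cfsg.PSU 4 K 3) (hcard : Nat.card H = 3265920) (D : Subgroup H) (hodd : Odd (Nat.card D))
    (hdvd : 2835 ∣ Nat.card D) : False := by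
  classical
  haveI : Fact (Nat.Prime 7) := ⟨by norm_num⟩
  have hDH : Nat.card D ∣ 3265920 := hcard ▸ D.card_subgroup_dvd_card
  obtain ⟨k, hk⟩ := hdvd
  have hk2 : k ∣ 1152 := by
    rw [hk, show (3265920 : ℕ) = 2835 * 1152 by norm_num] at hDH
    exact Nat.dvd_of_mul_dvd_mul_left (by norm_num) hDH
  have hko : k ∣ 9 := by
    have hc : Nat.Coprime k (2 ^ 7) := by
      refine Nat.Coprime.pow_right _ (Nat.coprime_two_right.2 ?_)
      rw [hk] at hodd
      exact (Nat.odd_mul.1 hodd).2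
    exact hc.dvd_of_dvd_mul_left (show k ∣ 2 ^ 7 * 9 by norm_num; exact hk2)
  let P : Sylow 7 D := default
  have hP : Nat.card (P : Subgroup D) = 7 := by
    rw [P.card_eq_multiplicity, hk]
    have hk7 : ¬ 7 ∣ 405 * k := fun h => by
      have h9 := Nat.le_of_dvd (by norm_num) hko
      interval_cases k <;> first | omega | simp at hko
    have hk0 : 405 * k ≠ 0 := fun h => hk7 (h ▸ dvd_zero 7)
    rw [show 2835 * k = 7 * (405 * k) by ring, Nat.factorization_mul (by norm_num) hk0, Finsupp.add_apply,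
      (by norm_num : Nat.Prime 7).factorization_self, Nat.factorization_eq_zero_of_not_dvd hk7]
    norm_num
  let X : Subgroup (Cfsg.PSU 4 K 3) := (P : Subgroup D).map (e.toMonoidHom.comp D.subtype)
  have hinj : Function.Injective (e.toMonoidHom.comp D.subtype) := e.injective.comp D.subtype_injective
  have hX : Nat.card X = 7 := by
    rw [Nat.card_congr (equivMapOfInjective _ _ hinj).toEquiv.symm, hP]
  obtain ⟨hN, -⟩ := S5513.result K hK X hX
  have hNle : Nat.card (normalizer ((P : Subgroup D) : Set D)) ∣ 21 := by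
    rw [← hN, Nat.card_congr (equivMapOfInjective _ _ hinj).toEquiv]
    exact card_dvd_of_le (le_normalizer_map _)
  have h7N : 7 ∣ Nat.card (normalizer ((P : Subgroup D) : Set D)) := by
    have h := card_dvd_of_le (le_normalizer (H := (P : Subgroup D)))
    rwa [hP] at h
  have hn := card_sylow_modEq_one 7 D
  rw [P.card_eq_index_normalizer] at hn
  have hn' : (normalizer ((P : Subgroup D) : Set D)).index % 7 = 1 := hn
  have hidx := card_mul_index (normalizer ((P : Subgroup D) : Set D))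
  rw [hk] at hidx
  generalize Nat.card (normalizer ((P : Subgroup D) : Set D)) = N at hidx hNle h7N
  generalize (normalizer ((P : Subgroup D) : Set D)).index = n at hidx hn'
  obtain ⟨j, rfl⟩ := h7N
  have hj : j ∣ 3 := Nat.dvd_of_mul_dvd_mul_left (by norm_num : 0 < 7) hNle
  have hj' := Nat.le_of_dvd (by norm_num) hj
  have hk' := Nat.le_of_dvd (by norm_num) hko
  interval_cases j <;> interval_cases k <;> omega

/-- The recognition. -/
theorem recognition {G : Type*} [Group G] [Finite G] (S : Base G) (K : Type) [Field K] [Fintype K]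
    (hK : Fintype.card K = 9) :
    Nonempty (G ≃* Cfsg.PSU 4 K 3) ∧ Nat.card G = 2 ^ 7 * 3 ^ 6 * 5 * 7 ∧
      ∀ a b : G, orderOf a = 2 → orderOf b = 2 → IsConj a b := by
  classical
  obtain ⟨W⟩ := exists_swap S
  obtain ⟨M⟩ := W.exists_amal
  obtain ⟨R⟩ := M.exists_rot
  obtain ⟨P, iG, iF, elP, hsat, hz, hgen, hsimple, hcard, ⟨eP⟩⟩ := exists_model K hK
  obtain ⟨e⟩ := R.nonempty_iso elP hsat hz hgen hcard
  have hG0 : Nat.card R.G0 = 3265920 := by rw [Nat.card_congr e.toEquiv, hcard]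
  have hone : ∀ t ∈ R.G0, orderOf t = 2 → R.IsZ t := fun t ht h2 => R.isConj_G0 hG0 ht h2
  have htop : R.G0 = ⊤ := by
    by_contra hne
    have heven : Even (Nat.card R.G0) := by rw [hG0]; decide
    have hSE : Cfsg.IsStronglyEmbedded R.G0 := by
      refine (S0223.result R.G0 hne heven).2 ⟨fun t ht h2 u hu => ?_, fun t ht s hs h2 hs2 _ => ?_⟩
      · obtain ⟨h, hh, rfl⟩ := hone t ht h2
        have hc : Commute (h⁻¹ * u * h) S.z := by
          have := (show Commute u (h * S.z * h⁻¹) from mem_centralizer_singleton_iff.1 hu).map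
            (MulAut.conj h⁻¹).toMonoidHom
          simpa [mul_assoc] using this
        rw [show u = h * (h⁻¹ * u * h) * h⁻¹ by group]
        exact mul_mem (mul_mem hh (R.cent_le hc)) (inv_mem hh)
      · obtain ⟨h, hh, rfl⟩ := hone t ht h2
        obtain ⟨h', hh', rfl⟩ := hone s hs hs2
        exact ⟨h' * h⁻¹, mul_mem hh' (inv_mem hh), by group⟩
    obtain ⟨g, hg⟩ : ∃ g, g ∉ R.G0 := by
      by_contra hall
      push Not at hall
      exact hne (eq_top_iff.2 fun g _ => hall g)
    set u := g * S.z * g⁻¹ with hu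
    have hu2 : orderOf u = 2 := by
      rw [hu, show g * S.z * g⁻¹ = (MulAut.conj g).toMonoidHom S.z from rfl,
        orderOf_injective (MulAut.conj g).toMonoidHom (MulAut.conj g).injective, S.hz]
    have hzG : S.z ∈ R.G0 := R.cent_le (Commute.refl _)
    have huH : u ∉ R.G0 := by
      intro hmem
      obtain ⟨h, hh, he⟩ := hone u hmem hu2
      refine hg ?_
      have hc : Commute (h⁻¹ * g) S.z := mul_inv_eq_iff_eq_mul.1 (by
        rw [show h⁻¹ * g * S.z * (h⁻¹ * g)⁻¹ = h⁻¹ * (g * S.z * g⁻¹) * h by group, ← hu, ← he]; group)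
      rw [show g = h * (h⁻¹ * g) by group]
      exact mul_mem hh (R.cent_le hc)
    set D := R.G0 ⊓ R.G0.map (MulAut.conj u).toMonoidHom with hD
    have hDodd : Odd (Nat.card D) := by
      by_contra heq
      haveI : Fact (Nat.Prime 2) := ⟨Nat.prime_two⟩
      obtain ⟨d, hd⟩ := exists_prime_orderOf_dvd_card' (G := D) 2
        (even_iff_two_dvd.1 (Nat.not_odd_iff_even.1 heq))
      rw [← Subgroup.orderOf_coe] at hd
      have hui : u⁻¹ ∈ R.G0 := Involution.mem_of_conj_mem hSE hd d.2.1 (by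
        rw [inv_inv]; exact Involution.mem_map_conj_iff.1 d.2.2)
      exact huH (by simpa using inv_mem hui)
    let H := R.G0
    let D' : Subgroup H := D.subgroupOf H
    have hD' : Nat.card D' = Nat.card D := Nat.card_congr (subgroupOfEquivOfLe inf_le_left).toEquiv
    let zH : H := ⟨S.z, hzG⟩
    have horb : MulAction.orbit (ConjAct H) zH = ((fun d : D' => (d : H) * zH * (d : H)⁻¹) '' Set.univ) := by
      ext w
      constructor
      · rintro ⟨h, rfl⟩
        have hw : orderOf ((ConjAct.ofConjAct h * zH * (ConjAct.ofConjAct h)⁻¹ : H) : G) = 2 := by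
          rw [Subgroup.orderOf_coe, show ConjAct.ofConjAct h * zH * (ConjAct.ofConjAct h)⁻¹ =
            (MulAut.conj (ConjAct.ofConjAct h)).toMonoidHom zH from rfl,
            orderOf_injective (MulAut.conj _).toMonoidHom (MulAut.conj _).injective, ← Subgroup.orderOf_coe]
          exact S.hz
        obtain ⟨⟨d, hd, hde⟩, -⟩ := S1225.result R.G0 hSE u hu2 huH S.z _ S.hz hzG hw (SetLike.coe_mem _)
        refine ⟨⟨⟨d, hd.1⟩, hd⟩, trivial, Subtype.ext ?_⟩
        show d * S.z * d⁻¹ = _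
        rw [hde]
        rfl
      · rintro ⟨d, -, rfl⟩
        exact ⟨ConjAct.toConjAct (d : H), rfl⟩
    have hst : Nat.card (MulAction.stabilizer (ConjAct H) zH) = 1152 := by
      rw [← S.cardC]
      refine Nat.card_congr ⟨fun h => ⟨(ConjAct.ofConjAct h.1 : H), ?_⟩,
        fun c => ⟨ConjAct.toConjAct ⟨c, R.cent_le (mem_centralizer_singleton_iff.1 c.2)⟩, ?_⟩,
        fun h => rfl, fun c => rfl⟩
      · refine mem_centralizer_singleton_iff.2 ?_
        have h' := congrArg Subtype.val (MulAction.mem_stabilizer_iff.1 h.2)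
        exact mul_inv_eq_iff_eq_mul.1 h'
      · refine MulAction.mem_stabilizer_iff.2 (Subtype.ext ?_)
        show (c : G) * S.z * (c : G)⁻¹ = S.z
        rw [mem_centralizer_singleton_iff.1 c.2, mul_inv_cancel_right]
    have hnum : Nat.card (MulAction.orbit (ConjAct H) zH) = 2835 := by
      have h := Nat.card_congr (MulAction.orbitProdStabilizerEquivGroup (ConjAct H) zH)
      rw [Nat.card_prod, hst, show Nat.card (ConjAct H) = 3265920 from hG0] at h
      omega
    have hdvd : 2835 ∣ Nat.card D := by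
      rw [← hD', ← hnum]
      let Dc : Subgroup (ConjAct H) := D'.map (ConjAct.toConjAct : H ≃* ConjAct H).toMonoidHom
      have heq : MulAction.orbit (ConjAct H) zH = MulAction.orbit Dc zH := by
        rw [horb]
        ext w
        constructor
        · rintro ⟨d, -, rfl⟩
          exact ⟨⟨ConjAct.toConjAct (d : H), ⟨d, d.2, rfl⟩⟩, rfl⟩
        · rintro ⟨⟨_, ⟨d, hd, rfl⟩⟩, rfl⟩
          exact ⟨⟨d, hd⟩, trivial, rfl⟩
      rw [heq, show Nat.card D' = Nat.card Dc from Nat.card_congr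
        (equivMapOfInjective D' _ (ConjAct.toConjAct : H ≃* ConjAct H).injective).toEquiv]
      exact ⟨_, (Nat.card_congr (MulAction.orbitProdStabilizerEquivGroup Dc zH)).symm.trans (Nat.card_prod _ _)⟩
    exact no_odd_subgroup K hK (e.trans eP) hG0 D' (hD' ▸ hDodd) (hD' ▸ hdvd)
  have hcardG : Nat.card G = 3265920 := by
    rw [← hG0, htop, Subgroup.card_top]
  refine ⟨⟨((Subgroup.topEquiv (G := G)).symm.trans ((MulEquiv.subgroupCongr htop).symm.trans e)).trans eP⟩,
    by rw [hcardG]; norm_num, fun a b ha hb => ?_⟩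
  obtain ⟨h, -, rfl⟩ := hone a (htop ▸ mem_top a) ha
  obtain ⟨h', -, rfl⟩ := hone b (htop ▸ mem_top b) hb
  exact isConj_iff.2 ⟨h' * h⁻¹, by group⟩

end Cfsg.Agent.UFourThreeType
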