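import Cfsg.Agent.Lib.UFourThreeType.RotCode

/-!
# Words in the coded centraliser of `⟨z, t⟩`

* `Amal.exists_cl` : every element of `C(⟨z, t⟩)` has a code;
* `IsRot.conj_cl` : the action of a rotation on the codes.
-/

set_option autoImplicit false
set_option linter.unusedSectionVars false

open Subgroup

namespace Cfsg.Agent.UFourThreeType

open CosetEnum CosetEnum.Data

theorem nf_cl : ∀ (x : Fin 32) (e : Fin 2 × Fin 2), isR x = true →
    ∃ v : Fin 64, ceq (clw v) (nfw ((x, 0, 0), e)) = true := by decide +kernel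

theorem clw_ok : ∀ v : Fin 64, letters9 (clw v) = true ∧ ceq (cmw (clw v) wt) [] = true := by decide +kernel

theorem l64_cases : ∀ x : Fin 32, isL x = true → ∃ l ∈ l64, ceq (clw l) (qword x) = true := by decide +kernel

theorem imgc_ok : ∀ v : Fin 64, ceq (clw (imgc v)) (imgw vaF vbF v) = true := by decide +kernel

theorem l64_comm : ∀ l ∈ l64, ∀ v : Fin 64, ceq (cmw (clw l) (clw v)) [] = true := by decide +kernel

theorem l64_sq : ∀ l ∈ l64, ceq (clw l ++ clw l) [] = true := by decide +kernel

theorem qword_ok : ∀ x : Fin 32, letters9 (qword x) = true := by decide +kernel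

theorem letters9_append {w v : List ℕ} (hw : letters9 w = true) (hv : letters9 v = true) :
    letters9 (w ++ v) = true := by
  simp only [letters9, List.all_append, Bool.and_eq_true] at *
  exact ⟨hw, hv⟩

theorem letters9_winv {w : List ℕ} (hw : letters9 w = true) : letters9 (winv w) = true := by
  simp only [letters9, winv, List.all_reverse, List.all_map, List.all_eq_true, decide_eq_true_eq,
    Function.comp] at *
  intro a ha
  have := hw a ha
  interval_cases a <;> simp

theorem letters9_wpow {w : List ℕ} (hw : letters9 w = true) : ∀ n, letters9 (wpow w n) = true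
  | 0 => rfl
  | n + 1 => letters9_append hw (letters9_wpow hw n)

theorem letters9_cjw {u v : List ℕ} (hu : letters9 u = true) (hv : letters9 v = true) :
    letters9 (cjw u v) = true := letters9_append (letters9_append (letters9_winv hu) hv) hu

theorem letters9_cmw {u v : List ℕ} (hu : letters9 u = true) (hv : letters9 v = true) :
    letters9 (cmw u v) = true :=
  letters9_append (letters9_append (letters9_append (letters9_winv hv) (letters9_winv hu)) hv) hu

theorem imgw_ok (va vb v : Fin 64) : letters9 (imgw va vb v) = true :=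
  letters9_append (letters9_append (letters9_append (letters9_append (letters9_append
    (letters9_wpow (clw_ok vb).1 _) (letters9_wpow (clw_ok va).1 _))
    (letters9_wpow (show letters9 [8] = true from rfl) _))
    (letters9_wpow (show letters9 [6] = true from rfl) _))
    (letters9_wpow (show letters9 wzt = true from rfl) _))
    (letters9_wpow (show letters9 wt = true from rfl) _)

namespace Amal

variable {G : Type*} [Group G] [Finite G] {S : Base G} (M : Amal S)

theorem eq_of_ceq {w v : List ℕ} (h : ceq w v = true) (hw : letters9 w = true) (hv : letters9 v = true) :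
    ev M.el w = ev M.el v :=
  (M.word_eq_iff w v hw hv).2 (Nat.eq_of_beq_eq_true h)

theorem ceq_of_eq {w v : List ℕ} (h : ev M.el w = ev M.el v) (hw : letters9 w = true) (hv : letters9 v = true) :
    ceq w v = true := by
  rw [ceq, (M.word_eq_iff w v hw hv).1 h]
  exact Nat.beq_refl _

theorem ev_winv : ∀ w : List ℕ, letters9 w = true → ev M.el (winv w) = (ev M.el w)⁻¹
  | [], _ => by simp [winv, ev]
  | a :: w, h => by
    simp only [letters9, List.all_cons, Bool.and_eq_true, decide_eq_true_eq] at h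
    have hw := ev_winv w h.2
    rw [winv, List.map_cons, List.reverse_cons, ev_append]
    rw [winv] at hw
    rw [hw]
    simp only [ev, one_mul, mul_inv_rev]
    congr 1
    have := h.1
    interval_cases a <;> simp [el, M.b_inv]

theorem ev_cjw (u v : List ℕ) (hu : letters9 u = true) :
    ev M.el (cjw u v) = ev M.el u * ev M.el v * (ev M.el u)⁻¹ := by
  rw [cjw, ev_append, ev_append, M.ev_winv u hu, mul_assoc]

theorem ev_cmw (u v : List ℕ) (hu : letters9 u = true) (hv : letters9 v = true) :
    ev M.el (cmw u v) = ev M.el u * ev M.el v * (ev M.el u)⁻¹ * (ev M.el v)⁻¹ := by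
  simp only [cmw, ev_append, M.ev_winv u hu, M.ev_winv v hv, mul_assoc]

theorem commute_of_ceq {u v : List ℕ} (h : ceq (cmw u v) [] = true) (hu : letters9 u = true)
    (hv : letters9 v = true) : Commute (ev M.el u) (ev M.el v) := by
  have := M.eq_of_ceq h (letters9_cmw hu hv) rfl
  rw [M.ev_cmw u v hu hv] at this
  exact mul_inv_eq_iff_eq_mul.1 (mul_inv_eq_one.1 this)

theorem ev0 : ev M.el [0] = S.A.i := by simp [ev, el]
theorem ev2 : ev M.el [2] = S.A.j := by simp [ev, el]
theorem ev6 : ev M.el [6] = M.a := by simp [ev, el]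
theorem ev8 : ev M.el [8] = M.b := by simp [ev, el]
theorem ev_wz : ev M.el wz = S.z := M.el_z

theorem ev_wt : ev M.el wt = S.t := by
  have h : S.t = S.A.i * S.B.i := by rw [← S.q_i, ← S.q_I, S.q_mul]; rfl
  rw [h, wt, show ([8, 0, 8, 0] : List ℕ) = [8, 0, 8] ++ [0] from rfl, ev_append]
  simp [ev, el, M.bib]

theorem ev_wzt : ev M.el wzt = S.z * S.t := by rw [wzt, ev_append, M.ev_wz, M.ev_wt]

theorem ev_wjj : ev M.el wjj = S.q qjj := by
  rw [show qjj = qm qj qJ by decide, ← S.q_mul, S.q_j, S.q_J, wjj,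
    show ([8, 2, 8, 2] : List ℕ) = [8, 2, 8] ++ [2] from rfl, ev_append]
  simp [ev, el, M.bjb]

/-- The value of a code. -/
def cl (v : Fin 64) : G := ev M.el (clw v)

theorem cl_zero : M.cl 0 = 1 := rfl
theorem cl_four : M.cl 4 = S.A.i := by simp [cl, clw, clmap, wpow, ev, el]
theorem cl_eight : M.cl 8 = S.q qjj := by rw [← M.ev_wjj]; simp [cl, clw, clmap, wpow]
theorem cl_16 : M.cl 16 = M.a := by simp [cl, clw, clmap, wpow, ev, el]
theorem cl_32 : M.cl 32 = M.b := by simp [cl, clw, clmap, wpow, ev, el]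

theorem cl_qword {L : Fin 64} {k : Fin 32} (h : ceq (clw L) (qword k) = true) : M.cl L = S.q k := by
  rw [cl, M.eq_of_ceq h (clw_ok L).1 (qword_ok k), M.ev_qword]

theorem cl_commute (v : Fin 64) : Commute (M.cl v) S.z ∧ Commute (M.cl v) S.t := by
  refine ⟨?_, ?_⟩
  · rw [cl]
    induction clw v with
    | nil => exact Commute.one_left _
    | cons a w ih => exact ih.mul_left (M.el_commute a)
  · rw [← M.ev_wt]; exact M.commute_of_ceq (clw_ok v).2 (clw_ok v).1 (by decide)

theorem cl_L_commute {L : Fin 64} (hL : L ∈ l64) (v : Fin 64) : Commute (M.cl L) (M.cl v) :=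
  M.commute_of_ceq (l64_comm L hL v) (clw_ok L).1 (clw_ok v).1

theorem exists_cl {g : G} (hz : Commute g S.z) (ht : Commute g S.t) : ∃ v, M.cl v = g := by
  obtain ⟨⟨⟨x, m, n⟩, e⟩, rfl⟩ := M.exists_nf hz
  have hab : Commute (M.a ^ e.1.val * M.b ^ e.2.val) S.t := (M.at'.pow_left _).mul_left (M.bt.pow_left _)
  rw [M.ev_nfw] at ht
  have hk : Commute (S.k (x, m, n)) S.t := by
    have h := ht.mul_left hab.inv_left
    rwa [mul_inv_cancel_right] at h
  obtain ⟨hmn, hR⟩ := fix_t (x, m, n) (S.q_inj (by rw [← S.conj_k]; exact mul_inv_eq_iff_eq_mul.2 hk.eq))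
  simp only [Prod.mk.injEq] at hmn
  obtain ⟨rfl, rfl⟩ := hmn
  obtain ⟨v, hv⟩ := nf_cl x e hR
  exact ⟨v, M.eq_of_ceq hv (clw_ok v).1 ((by decide +kernel : ∀ u : NF, letters9 (nfw u) = true) _)⟩

theorem conj_clmap (y : G) (g g' : List (List ℕ)) (h : ∀ k < 6, y * ev M.el (g.getD k []) * y⁻¹ =
    ev M.el (g'.getD k [])) (v : Fin 64) :
    y * ev M.el (clmap g v) * y⁻¹ = ev M.el (clmap g' v) := by
  simp only [clmap, ev_append, ev_wpow]
  rw [← h 0 (by omega), ← h 1 (by omega), ← h 2 (by omega), ← h 3 (by omega), ← h 4 (by omega), ← h 5 (by omega)]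
  simp only [conj_pow]
  group

/-- The conjugation data of a rotation. -/
structure IsRot (y : G) (va vb : Fin 64) : Prop where
  hz : y * S.z * y⁻¹ = S.t
  ht : y * S.t * y⁻¹ = S.t * S.z
  hi : y * S.A.i * y⁻¹ = M.a
  hj : y * S.q qjj * y⁻¹ = M.b
  ha : y * M.a * y⁻¹ = M.cl va
  hb : y * M.b * y⁻¹ = M.cl vb

theorem IsRot.conj_cl {y : G} {va vb : Fin 64} (h : M.IsRot y va vb) (v : Fin 64) :
    y * M.cl v * y⁻¹ = ev M.el (imgw va vb v) := by
  refine M.conj_clmap y _ _ (fun k hk => ?_) v
  interval_cases k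
  · show y * ev M.el wz * y⁻¹ = ev M.el wt
    rw [M.ev_wz, M.ev_wt, h.hz]
  · show y * ev M.el wt * y⁻¹ = ev M.el wzt
    rw [M.ev_wt, h.ht, M.ev_wzt]
    exact (S.commute_z_q qt).eq
  · simpa [ev, el] using h.hi
  · show y * ev M.el wjj * y⁻¹ = ev M.el [8]
    rw [M.ev_wjj, h.hj, M.ev8]
  · show y * ev M.el [6] * y⁻¹ = M.cl va
    rw [M.ev6, h.ha]
  · show y * ev M.el [8] * y⁻¹ = M.cl vb
    rw [M.ev8, h.hb]

theorem IsRot.conj_imgc {y : G} (h : M.IsRot y vaF vbF) (v : Fin 64) : M.cl (imgc v) = y * M.cl v * y⁻¹ := by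
  rw [h.conj_cl, cl, M.eq_of_ceq (imgc_ok v) (clw_ok _).1 (imgw_ok _ _ v)]

/-- The rotation. -/
structure Rot where
  x : G
  hx : x * x * x = 1
  rot : M.IsRot x vaF vbF
  twist : S.A.j * x⁻¹ * S.A.j⁻¹ = x * ev M.el wF

theorem clc_spec {w : List ℕ} (hw : letters9 w = true) {g : G} (hg : ev M.el w = g) (hz : Commute g S.z)
    (ht : Commute g S.t) : M.cl (clc w) = g := by
  obtain ⟨a, ha⟩ := M.exists_cl hz ht
  have hc : ceq (clw a) w = true := M.ceq_of_eq (ha.trans hg.symm) (clw_ok a).1 hw
  suffices h : ceq (clw (clc w)) w = true by rw [cl, M.eq_of_ceq h (clw_ok _).1 hw, hg]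
  unfold clc
  cases h : (List.finRange 64).find? fun v => ceq (clw v) w with
  | none => simp [List.find?_eq_none] at h; exact absurd hc (by simp [h a])
  | some b => exact List.find?_some (p := fun v => ceq (clw v) w) h

end Amal

end Cfsg.Agent.UFourThreeType
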