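import Cfsg.Agent.Lib.UFourThreeType.Code
import Cfsg.Agent.Lib.UFourThreeType.TableN
import Cfsg.Agent.Lib.UFourThreeType.RotBase

/-!
# The relations and their local consequences

`Sat el` : the letters `0..10` (`i, i⁻¹, j, j⁻¹, c, c⁻¹, a, a⁻¹, b, x, x⁻¹`) satisfy `relsE`.
* `Sat.eq_of_ceq` : the code of the centraliser decides equality of words without `x`;
* `Sat.card_SE_le` : the local subgroup has order at most `120 · 48`.
-/

set_option autoImplicit false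
set_option linter.unusedSectionVars false

open Subgroup

namespace Cfsg.Agent.UFourThreeType

open CosetEnum CosetEnum.Data

/-- The relators, in the order of application. -/
def relsE : List (List ℕ) :=
  [[8, 8],
   [0, 1],
   [1, 0],
   [2, 3],
   [3, 2],
   [4, 5],
   [5, 4],
   [6, 7],
   [7, 6],
   [9, 10],
   [10, 9],
   [4, 4, 4],
   [9, 9, 9],
   [0, 0, 0, 0],
   [0, 0, 2, 2],
   [0, 3, 0, 2],
   [3, 5, 0, 4],
   [1, 7, 0, 6],
   [7, 10, 0, 9],
   [1, 3, 5, 2, 4],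
   [1, 3, 7, 2, 6],
   [1, 8, 1, 8, 6, 6],
   [5, 3, 5, 7, 4, 6],
   [8, 10, 8, 2, 8, 2, 9],
   [8, 1, 8, 1, 8, 0, 8, 0],
   [8, 3, 8, 1, 8, 2, 8, 0],
   [8, 5, 8, 1, 8, 4, 8, 0],
   [8, 1, 8, 3, 8, 0, 8, 2],
   [8, 3, 8, 3, 8, 2, 8, 2],
   [8, 5, 8, 3, 8, 4, 8, 2],
   [8, 1, 8, 5, 8, 0, 8, 4],
   [8, 3, 8, 5, 8, 2, 8, 4],
   [8, 5, 8, 5, 8, 4, 8, 4],
   [8, 1, 1, 8, 0, 0],
   [1, 8, 1, 7, 8, 6],
   [1, 8, 1, 8, 10, 0, 0, 9],
   [3, 8, 3, 10, 8, 9],
   [10, 1, 8, 1, 8, 7, 8, 3, 10, 2],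
   [8, 3, 1, 8, 7, 8, 2, 8, 6],
   [1, 7, 1, 1, 1, 8, 1, 8, 10, 6, 9],
   [1, 1, 1, 8, 1, 8, 10, 8, 0, 8, 0, 9],
   [8, 10, 5, 8, 5, 10, 0, 0, 9, 4, 8, 4, 9],
   [8, 1, 5, 5, 8, 7, 8, 4, 8, 6],
   [5, 8, 5, 8, 10, 5, 8, 5, 10, 8, 4, 8, 2, 4, 0, 9, 4, 8, 4, 9],
   [3, 9, 5, 8, 5, 8, 10, 2, 5, 8, 5, 8, 3, 9, 8, 4, 8, 4, 10, 2, 8, 4, 8, 4],
   [9, 8, 4, 8, 4, 9, 8, 4, 8, 4, 9, 8, 4, 8, 4, 9, 8, 4, 8, 4, 9, 8, 4, 8, 4],
   [10, 5, 8, 5, 10, 1, 8, 5, 8, 4, 9, 4, 8, 4, 9, 5, 10, 5, 8, 5, 10, 5, 8, 4, 8, 0, 9, 4, 8, 4, 9, 4],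
   [10, 5, 8, 5, 10, 1, 8, 5, 8, 4, 9, 4, 8, 4, 9, 8, 5, 8, 10, 5, 8, 5, 10, 5, 8, 4, 8, 0, 9, 4, 8, 4, 9, 8, 4, 8],
   [8, 4, 8, 4, 9, 8, 4, 8, 4, 10, 8, 4, 8, 4, 9, 8, 4, 8, 4, 10, 8, 4, 8, 4, 9, 8, 4, 8, 4, 10, 8, 4, 8, 4, 9, 8, 4, 8, 4, 10, 8, 4, 8, 4, 9, 8, 4, 8, 4, 10]]

/-- The local letters as global words. -/
def toG : List ℕ → List ℕ
  | [] => []
  | n :: w => [[0], [1], [2], [3], [6], [7], [9], [10], [8], [8, 4, 8, 4], [5, 8, 5, 8]].getD n [] ++ toG w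

/-- Codes for `⟨i, a⟩`. -/
def aw (e : Fin 4 × Fin 4) : List ℕ := wpow [6] e.2.val ++ wpow [0] e.1.val

/-- The image of a code of `⟨i, a⟩` under `x`. -/
def awX (e : Fin 4 × Fin 4) : List ℕ := wpow ([0] ++ wt ++ wz ++ [6]) e.2.val ++ wpow [6] e.1.val

theorem aw_step : ∀ e : Fin 4 × Fin 4, letters9 (aw e) = true ∧ letters9 (awX e) = true ∧
    (∃ f, ceq (aw e ++ [0]) (aw f) = true) ∧ (∃ f, ceq (aw e ++ [1]) (aw f) = true) ∧
    (∃ f, ceq (aw e ++ [6]) (aw f) = true) ∧ (∃ f, ceq (aw e ++ [7]) (aw f) = true) ∧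
    (∃ f, ceq (awX e) (aw f) = true) := by decide +kernel

theorem wa_ok : ceq ([1, 7, 1, 1, 1, 8, 1, 8] ++ ([0] ++ wt ++ wz ++ [6])) [] = true ∧
    letters9 ([0] ++ wt ++ wz ++ [6]) = true := by decide +kernel

/-- The relations hold. -/
def Sat {Γ : Type*} [Group Γ] (el : ℕ → Γ) : Prop := ∀ w ∈ relsE, ev el w = 1

namespace Sat

variable {Γ : Type*} [Group Γ] {el : ℕ → Γ} (h : Sat el)

include h in
theorem inv_el : ∀ a < 11, el ([1, 0, 3, 2, 5, 4, 7, 6, 8, 10, 9].getD a 0) * el a = 1 := by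
  intro a ha
  have key : ∀ a < 11, [a, [1, 0, 3, 2, 5, 4, 7, 6, 8, 10, 9].getD a 0] ∈ relsE := by decide +kernel
  have := h _ (key a ha)
  simpa [ev] using this

include h in
theorem code_map : ∃ φ : ℕ → Γ, φ 0 = 1 ∧ ∀ a < 9, ∀ i < 1152, el a * φ i = φ (tabC.act a i) :=
  exists_phi (X := Γ) tabC_check el 1
    (fun a ha => by
      rw [show tabC.invl a = [1, 0, 3, 2, 5, 4, 7, 6, 8, 10, 9].getD a 0 from
        (by decide +kernel : ∀ a < 9, tabC.invl a = [1, 0, 3, 2, 5, 4, 7, 6, 8, 10, 9].getD a 0) a ha]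
      exact h.inv_el a (by change a < 9 at ha; omega))
    (fun w hw => h w ((by decide +kernel : ∀ p ∈ tabC.loops, p.1 = true → p.2 ∈ relsE) _ hw rfl))
    (fun w hw => absurd ((by decide +kernel : ∀ p ∈ tabC.loops, p.1 = true) _ hw) (by simp))

include h in
/-- Words without `x` with the same code are equal. -/
theorem eq_of_ceq {w v : List ℕ} (hc : ceq w v = true) (hw : letters9 w = true) (hv : letters9 v = true) :
    ev el w = ev el v := by
  obtain ⟨φ, h0, hφ⟩ := h.code_map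
  have key : ∀ (u : List ℕ), letters9 u = true → ∀ i < 1152,
      ev el u * φ i = φ (tabC.tw u i) ∧ tabC.tw u i < 1152 := by
    intro u
    induction u with
    | nil => exact fun _ i hi => ⟨one_mul _, hi⟩
    | cons a u ih =>
      intro hu i hi
      simp only [letters9, List.all_cons, Bool.and_eq_true, decide_eq_true_eq] at hu
      obtain ⟨h1, h2⟩ := ih hu.2 (tabC.act a i) (Amal.act_lt a hu.1 i hi)
      exact ⟨by rw [ev, mul_assoc, hφ a hu.1 i hi, h1]; rfl, h2⟩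
  have hw' := (key w hw 0 (by norm_num)).1
  have hv' := (key v hv 0 (by norm_num)).1
  rw [h0, mul_one] at hw' hv'
  rw [hw', hv']
  exact congrArg φ (Nat.eq_of_beq_eq_true hc)

/-- The local letters. -/
def eL (el : ℕ → Γ) (n : ℕ) : Γ := ev el (toG [n])

theorem ev_toG (el : ℕ → Γ) : ∀ w : List ℕ, ev (eL el) w = ev el (toG w)
  | [] => rfl
  | n :: w => by simp only [ev, eL, toG, ev_append, ev_toG el w, List.append_nil]

include h in
theorem local_rel : ∀ w ∈ seedN.rels, ev (eL el) w = 1 := by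
  intro w hw
  rw [ev_toG]
  have key : ∀ w ∈ seedN.rels, toG w ∈ relsE ∨ letters9 (toG w) = true ∧ ceq (toG w) [] = true := by
    decide +kernel
  rcases key w hw with hm | ⟨h1, h2⟩
  · exact h _ hm
  · exact (h.eq_of_ceq h2 h1 rfl).trans rfl

/-- The subgroup `⟨i, a, x⟩`. -/
def S0 (el : ℕ → Γ) : Subgroup Γ := closure {el 0, el 6, el 9}

/-- The local subgroup. -/
def SE (el : ℕ → Γ) : Subgroup Γ := closure {g | ∃ n < 11, eL el n = g}

include h in
theorem S0_form {g : Γ} (hg : g ∈ S0 el) :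
    ∃ (e : Fin 4 × Fin 4) (k : Fin 3), g = ev el (aw e) * el 9 ^ k.val := by
  have i0 : (el 0)⁻¹ = el 1 := inv_eq_of_mul_eq_one_left (h.inv_el 0 (by omega))
  have i6 : (el 6)⁻¹ = el 7 := inv_eq_of_mul_eq_one_left (h.inv_el 6 (by omega))
  have i9 : (el 9)⁻¹ = el 10 := inv_eq_of_mul_eq_one_left (h.inv_el 9 (by omega))
  have x3 : el 9 ^ 3 = 1 := by
    have := h [9, 9, 9] (by decide)
    simpa [ev, pow_succ] using this
  have step : ∀ (l : ℕ) (e : Fin 4 × Fin 4) (k : Fin 3), l < 9 → (∃ f, ceq (aw e ++ [l]) (aw f) = true) →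
      ∃ (f : Fin 4 × Fin 4) (k' : Fin 3), el l * (ev el (aw e) * el 9 ^ k.val) = ev el (aw f) * el 9 ^ k'.val := by
    rintro l e k hl ⟨f, hf⟩
    refine ⟨f, k, ?_⟩
    rw [← h.eq_of_ceq hf (letters9_append (aw_step e).1 (by simp [letters9, hl])) (aw_step f).1, ev_append]
    simp [ev, mul_assoc]
  have xi : el 9 * el 0 * (el 9)⁻¹ = el 6 := by
    have := h [7, 10, 0, 9] (by decide)
    simp only [ev, one_mul] at this
    rw [← i9, ← i6] at this
    exact mul_inv_eq_one.1 this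
  have xa : el 9 * el 6 * (el 9)⁻¹ = ev el ([0] ++ wt ++ wz ++ [6]) := by
    have h1 := h [1, 7, 1, 1, 1, 8, 1, 8, 10, 6, 9] (by decide)
    have h2 := (h.eq_of_ceq wa_ok.1 (letters9_append rfl wa_ok.2) rfl).trans (rfl : ev el [] = 1)
    rw [show ([1, 7, 1, 1, 1, 8, 1, 8, 10, 6, 9] : List ℕ) = [1, 7, 1, 1, 1, 8, 1, 8] ++ [10, 6, 9] from rfl,
      ev_append] at h1
    rw [ev_append] at h2
    have := mul_right_cancel (h1.trans h2.symm)
    simpa [ev, i9] using this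
  have xstep : ∀ (e : Fin 4 × Fin 4) (k : Fin 3), ∃ (f : Fin 4 × Fin 4) (k' : Fin 3),
      el 9 * (ev el (aw e) * el 9 ^ k.val) = ev el (aw f) * el 9 ^ k'.val := by
    intro e k
    obtain ⟨f, hf⟩ := (aw_step e).2.2.2.2.2.2
    refine ⟨f, k + 1, ?_⟩
    rw [← h.eq_of_ceq hf (aw_step e).2.1 (aw_step f).1,
      show el 9 ^ ((k + 1 : Fin 3) : ℕ) = el 9 * el 9 ^ k.val from by
        rw [← pow_succ', Fin.val_add]; exact (pow_eq_pow_mod _ x3).symm]
    simp only [aw, awX]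
    rw [ev_append, ev_append, Amal.ev_wpow, Amal.ev_wpow, Amal.ev_wpow, Amal.ev_wpow, ← xa]
    simp only [ev, one_mul]
    rw [show el 6 ^ e.1.val = (el 9 * el 0 * (el 9)⁻¹) ^ e.1.val by rw [xi], conj_pow, conj_pow]
    group
  induction hg using closure_induction_left with
  | one => exact ⟨0, 0, by simp [aw, wpow, ev]⟩
  | mul_left y hy z _ ih =>
    obtain ⟨e, k, rfl⟩ := ih
    rcases hy with rfl | rfl | rfl
    · exact step 0 e k (by omega) (aw_step e).2.2.1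
    · exact step 6 e k (by omega) (aw_step e).2.2.2.2.1
    · exact xstep e k
  | inv_mul_cancel y hy z _ ih =>
    obtain ⟨e, k, rfl⟩ := ih
    rcases hy with rfl | rfl | rfl
    · rw [i0]; exact step 1 e k (by omega) (aw_step e).2.2.2.1
    · rw [i6]; exact step 7 e k (by omega) (aw_step e).2.2.2.2.2.1
    · obtain ⟨f, k', e1⟩ := xstep e k
      obtain ⟨f', k'', e2⟩ := xstep f k'
      refine ⟨f', k'', ?_⟩
      rw [← e2, ← e1, inv_eq_of_mul_eq_one_right (show el 9 * (el 9 * el 9) = 1 by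
        rw [← mul_assoc]; simpa [pow_succ] using x3)]
      group

include h in
theorem card_S0_le : Nat.card (S0 el) ≤ 48 := by
  classical
  have := Nat.card_le_card_of_surjective
    (fun u : (Fin 4 × Fin 4) × Fin 3 => if hu : ev el (aw u.1) * el 9 ^ u.2.val ∈ S0 el then
      (⟨_, hu⟩ : S0 el) else 1) (fun g => by
    obtain ⟨e, k, hg⟩ := h.S0_form g.2
    exact ⟨(e, k), Subtype.ext (by simp [← hg, g.2])⟩)
  simpa [Nat.card_prod, Nat.card_fin] using this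

end Sat

/-- A finite table bounds a generated group. -/
theorem card_closure_le_table {Γ : Type*} [Group Γ] {D : CosetEnum.Data} (hc : D.check = true) (el : ℕ → Γ)
    (H : Subgroup Γ) [Finite H] (hinv : ∀ a < D.k, el (D.invl a) * el a = 1)
    (hrel : ∀ w, (true, w) ∈ D.loops → ev el w = 1)
    (hsub : ∀ w, (false, w) ∈ D.loops → ev el w • ((1 : Γ) : Γ ⧸ H) = ((1 : Γ) : Γ ⧸ H)) :
    Finite (closure {g | ∃ n < D.k, el n = g}) ∧
      Nat.card (closure {g | ∃ n < D.k, el n = g}) ≤ D.n * Nat.card H := by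
  classical
  obtain ⟨φ, h0, hφ⟩ := exists_phi hc el ((1 : Γ) : Γ ⧸ H) hinv hrel hsub
  have hp : PermFacts D := by
    unfold Data.check at hc
    simp only [Bool.and_eq_true] at hc
    exact permFacts hc.1
  have step : ∀ g ∈ closure {g | ∃ n < D.k, el n = g}, ∀ i < D.n, ∃ j < D.n, g • φ i = φ j := by
    intro g hg
    induction hg using closure_induction_left with
    | one => exact fun i hi => ⟨i, hi, one_smul _ _⟩
    | mul_left y hy z _ ih =>
      intro i hi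
      obtain ⟨n, hn, rfl⟩ := hy
      obtain ⟨j, hj, e⟩ := ih i hi
      exact ⟨_, hp.act_lt_n n hn j hj, by rw [mul_smul, e, hφ n hn j hj]⟩
    | inv_mul_cancel y hy z _ ih =>
      intro i hi
      obtain ⟨n, hn, rfl⟩ := hy
      obtain ⟨j, hj, e⟩ := ih i hi
      refine ⟨_, hp.act_lt_n _ (hp.inv_lt n hn) j hj, ?_⟩
      rw [← hφ _ (hp.inv_lt n hn) j hj, eq_inv_of_mul_eq_one_left (hinv n hn), mul_smul, e]
  set K := closure {g | ∃ n < D.k, el n = g}
  choose rep hrep using fun i => Quotient.exists_rep (φ i)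
  have hK : ∀ g ∈ K, ∃ (i : Fin D.n) (u : H), rep i * u = g := by
    intro g hg
    obtain ⟨j, hj, e⟩ := step g hg 0 hp.hn
    rw [h0] at e
    have e' : ((rep j : Γ) : Γ ⧸ H) = ((g : Γ) : Γ ⧸ H) := by
      refine (hrep j).trans (e.symm.trans ?_)
      show ((g * 1 : Γ) : Γ ⧸ H) = _
      rw [mul_one]
    exact ⟨⟨j, hj⟩, ⟨_, QuotientGroup.eq.1 e'⟩, mul_inv_cancel_left _ _⟩
  let f : Fin D.n × H → K := fun u => if hu : rep u.1.val * u.2.val ∈ K then ⟨_, hu⟩ else 1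
  have hf : Function.Surjective f := fun g => by
    obtain ⟨i, u, hiu⟩ := hK g g.2
    exact ⟨(i, u), Subtype.ext (by simp [f, hiu, g.2])⟩
  refine ⟨Finite.of_surjective f hf, ?_⟩
  simpa [Nat.card_prod, Nat.card_fin] using Nat.card_le_card_of_surjective f hf

namespace Sat

variable {Γ : Type*} [Group Γ] {el : ℕ → Γ} (h : Sat el)

include h in
/-- The local subgroup is small. -/
theorem card_SE_le : Finite (SE el) ∧ Nat.card (SE el) ≤ 120 * 48 := by
  classical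
  haveI : Finite (S0 el) := by
    refine Finite.of_surjective
      (fun u : (Fin 4 × Fin 4) × Fin 3 => if hu : ev el (aw u.1) * el 9 ^ u.2.val ∈ S0 el then
        (⟨_, hu⟩ : S0 el) else 1) (fun g => ?_)
    obtain ⟨e, k, hg⟩ := h.S0_form g.2
    exact ⟨(e, k), Subtype.ext (by simp [← hg, g.2])⟩
  let base : Γ ⧸ S0 el := ((1 : Γ) : Γ ⧸ S0 el)
  have hinv : ∀ a < tabN.k, eL el (tabN.invl a) * eL el a = 1 := by
    intro a ha
    have key : ∀ a < 11, [a, tabN.invl a] ∈ seedN.rels ∨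
        letters9 (toG [a, tabN.invl a]) = true ∧ ceq (toG [a, tabN.invl a]) [] = true := by decide +kernel
    rcases key a ha with hm | ⟨h1, h2⟩
    · simpa [ev] using h.local_rel _ hm
    · have := (ev_toG el [a, tabN.invl a]).trans ((h.eq_of_ceq h2 h1 rfl).trans rfl)
      simpa [ev] using this
  have hbase : ∀ g, g ∈ S0 el → g • base = base := fun g hg => by
    show ((g * 1 : Γ) : Γ ⧸ S0 el) = ((1 : Γ) : Γ ⧸ S0 el)
    rw [mul_one, QuotientGroup.eq]; simpa using hg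
  have hsub : ∀ v ∈ seedN.subs, ev (eL el) v • base = base := by
    intro v hv
    simp [seedN] at hv
    rcases hv with rfl | rfl | rfl <;> refine hbase _ (subset_closure ?_) <;> simp [ev, eL, toG]
  have hseed := Deriv.target_fixes seedN_check (eL el) base (fun a ha => by
    rw [show seedN.invl a = tabN.invl a from (by decide +kernel : ∀ a < 11, seedN.invl a = tabN.invl a) a ha]
    exact hinv a ha) h.local_rel hsub
  obtain ⟨hfin, hle⟩ := card_closure_le_table tabN_check (eL el) (S0 el) hinv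
    (fun v hv => h.local_rel v ((by decide +kernel : ∀ p ∈ tabN.loops, p.1 = true → p.2 ∈ seedN.rels) _ hv rfl))
    (fun v hv => by
      rcases (by decide +kernel : ∀ p ∈ tabN.loops, p.1 = false → p.2 = seedN.tgt ∨ p.2 ∈ seedN.subs) _ hv rfl
        with h' | h'
      · rw [show v = seedN.tgt from h']; exact hseed
      · exact hsub v h')
  exact ⟨hfin, hle.trans (Nat.mul_le_mul le_rfl h.card_S0_le)⟩

end Sat

end Cfsg.Agent.UFourThreeType
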