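import Cfsg.Agent.Lib.UFourThreeType.CentThree
import Cfsg.Agent.Lib.UFourThreeType.Pres

/-!
# The relations hold in `G`

`Rot.sat` : the letters `i, i⁻¹, j, j⁻¹, c, c⁻¹, a, a⁻¹, b, x, x⁻¹` satisfy `relsE`.
-/

set_option autoImplicit false
set_option linter.unusedSectionVars false

open Subgroup

namespace Cfsg.Agent.UFourThreeType

open CosetEnum CosetEnum.Data

namespace Amal.Rot

variable {G : Type*} [Group G] [Finite G] {S : Base G} {M : Amal S} (R : M.Rot)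

/-- The letters in `G`. -/
def eG (n : ℕ) : G :=
  [S.A.i, S.A.i⁻¹, S.A.j, S.A.j⁻¹, S.A.c, S.A.c⁻¹, M.a, M.a⁻¹, M.b, R.x, R.x⁻¹].getD n 1

theorem eG_el : ∀ n < 9, R.eG n = M.el n := by
  intro n hn
  interval_cases n <;> rfl

theorem ev_eG : ∀ w : List ℕ, letters9 w = true → ev R.eG w = ev M.el w
  | [], _ => rfl
  | a :: w, hw => by
    simp only [letters9, List.all_cons, Bool.and_eq_true, decide_eq_true_eq] at hw
    simp only [ev]
    rw [ev_eG w hw.2, R.eG_el a hw.1]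

theorem eG_toG : ∀ n < 11, ev R.eG (toG [n]) = R.eN n := by
  intro n hn
  interval_cases n <;> simp [toG, eG, eN, ev, ← M.bcb, M.b_inv, mul_assoc]

theorem ev_eN : ∀ w : List ℕ, (∀ n ∈ w, n < 11) → ev R.eG (toG w) = ev R.eN w
  | [], _ => rfl
  | n :: w, hw => by
    have h1 := ev_eN w (fun m hm => hw m (List.mem_cons_of_mem n hm))
    simp only [toG, ev_append, ev, h1, ← R.eG_toG n (hw n List.mem_cons_self), List.append_nil]

/-- The relations hold in `G`. -/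
theorem sat : Sat R.eG := by
  intro w hw
  have key : ∀ w ∈ relsE, (letters9 w = true ∧ ceq w [] = true) ∨
      ((seedN.rels ++ [[9, 10], [10, 9], wpow [6, 9] 5, wpow [9, 6, 9, 7] 5]).any fun v =>
        (v.all fun n => n < 11) && toG v == w) = true ∨
      w ∈ ([[9, 10], [10, 9], [8, 10, 5, 8, 5, 10, 0, 0, 9, 4, 8, 4, 9],
        [5, 8, 5, 8, 10, 5, 8, 5, 10, 8, 4, 8, 2, 4, 0, 9, 4, 8, 4, 9],
        [3, 9, 5, 8, 5, 8, 10, 2, 5, 8, 5, 8, 3, 9, 8, 4, 8, 4, 10, 2, 8, 4, 8, 4],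
        [10, 5, 8, 5, 10, 1, 8, 5, 8, 4, 9, 4, 8, 4, 9, 5, 10, 5, 8, 5, 10, 5, 8, 4, 8, 0, 9, 4, 8, 4, 9, 4],
        [10, 5, 8, 5, 10, 1, 8, 5, 8, 4, 9, 4, 8, 4, 9, 8, 5, 8, 10, 5, 8, 5, 10, 5, 8, 4, 8, 0, 9, 4, 8, 4,
          9, 8, 4, 8]] : List (List ℕ)) := by decide +kernel
  have hy : R.x * S.A.c * M.b * S.A.c * R.x = R.y := rfl
  have hyi : R.x⁻¹ * S.A.c⁻¹ * M.b * S.A.c⁻¹ * R.x⁻¹ = R.y⁻¹ := by
    rw [← hy]; simp [M.b_inv, mul_assoc]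
  have bcbi : M.b * S.A.c⁻¹ * M.b = S.B.c⁻¹ := by rw [← M.bcb]; simp [M.b_inv, mul_assoc]
  rcases key w hw with ⟨h1, h2⟩ | h | h
  · rw [R.ev_eG w h1, M.eq_of_ceq h2 h1 rfl]; rfl
  · simp only [List.any_eq_true, Bool.and_eq_true, List.all_eq_true, decide_eq_true_eq, beq_iff_eq] at h
    obtain ⟨v, hv, hlt, rfl⟩ := h
    rw [R.ev_eN v hlt]
    simp only [List.mem_append, List.mem_cons, List.not_mem_nil, or_false] at hv
    rcases hv with hv | rfl | rfl | rfl | rfl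
    · exact R.rel_one v hv
    · simp [ev, eN]
    · simp [ev, eN]
    · exact R.five
    · exact R.five2
  simp only [List.mem_cons, List.not_mem_nil, or_false] at h
  rcases h with rfl | rfl | rfl | rfl | rfl | rfl | rfl
  · simp [ev, eG]
  · simp [ev, eG]
  · calc ev R.eG [8, 10, 5, 8, 5, 10, 0, 0, 9, 4, 8, 4, 9]
        = R.y * (S.A.i * S.A.i) * (R.x⁻¹ * S.A.c⁻¹ * M.b * S.A.c⁻¹ * R.x⁻¹) * M.b := by
          simp [ev, eG, y, mul_assoc]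
      _ = 1 := by rw [hyi, S.A.hii, R.conj_y_z, M.hb]
  · calc ev R.eG [5, 8, 5, 8, 10, 5, 8, 5, 10, 8, 4, 8, 2, 4, 0, 9, 4, 8, 4, 9]
        = R.y * ev M.el [8, 4, 8, 2, 4, 0] * (R.x⁻¹ * S.A.c⁻¹ * M.b * S.A.c⁻¹ * R.x⁻¹) *
            (M.b * S.A.c⁻¹ * M.b * S.A.c⁻¹) := by
          simp [ev, eG, el, y, mul_assoc]
      _ = 1 := by
          have hcz : ev M.el [8, 4, 8, 2, 4, 0] = cz (S := S) := by
            rw [M.eq_of_ceq (show ceq [8, 4, 8, 2, 4, 0] wczw = true by decide +kernel) rfl rfl, wczw, ev_append,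
              Rot.ev_wcc]
            simp [ev, el, cz, S.A.hii, mul_assoc]
          rw [hcz, hyi, R.conj_y_cz, bcbi]; group
  · calc ev R.eG [3, 9, 5, 8, 5, 8, 10, 2, 5, 8, 5, 8, 3, 9, 8, 4, 8, 4, 10, 2, 8, 4, 8, 4]
        = S.A.c * (M.b * S.A.c * M.b) * R.q * (S.A.c * (M.b * S.A.c * M.b))⁻¹ * R.q⁻¹ := by
          simp [ev, eG, q, ← M.bcb, M.b_inv, mul_assoc]
      _ = 1 := by rw [M.bcb, R.cc_q.eq]; group
  · calc ev R.eG _ = S.A.c * R.dw * S.A.c⁻¹ * R.dw⁻¹ := by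
          simp [ev, eG, dw, y, ← M.bcb, M.b_inv, mul_assoc]
      _ = 1 := by rw [R.commute_dw.1.eq]; group
  · calc ev R.eG _ = (M.b * S.A.c * M.b) * R.dw * (M.b * S.A.c * M.b)⁻¹ * R.dw⁻¹ := by
          simp [ev, eG, dw, y, ← M.bcb, M.b_inv, mul_assoc]
      _ = 1 := by rw [M.bcb, R.commute_dw.2.eq]; group

end Amal.Rot

end Cfsg.Agent.UFourThreeType
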