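import Cfsg.Agent.Lib.UFourThreeType.OneClass
import Cfsg.Agent.Lib.Bender.RankOneHalf
import Cfsg.Agent.Lib.Bender.Consumers
import Cfsg.Agent.S0223

/-!
# The group is generated by the centraliser and the rotation

* `Amal.Rot.closure_eq_top` : the nine letters and `x` generate `G`.

The subgroup `H` they generate is perfect and holds one class of involutions with their
centralisers, so it is `G` or strongly embedded, hence soluble.
-/

set_option autoImplicit false
set_option linter.unusedSectionVars false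

open Subgroup
open scoped commutatorElement

namespace Cfsg.Agent.UFourThreeType

open CosetEnum CosetEnum.Data

namespace Amal

variable {G : Type*} [Group G] [Finite G] {S : Base G} {M : Amal S}

/-- The subgroup generated by the letters and the rotation. -/
def Rot.gen (R : M.Rot) : Subgroup G := closure (Set.range M.el ∪ {R.x})

variable (R : M.Rot)

theorem Rot.el_mem (n : ℕ) : M.el n ∈ R.gen := subset_closure (Or.inl ⟨n, rfl⟩)

theorem Rot.x_mem : R.x ∈ R.gen := subset_closure (Or.inr rfl)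

theorem Rot.ev_mem (w : List ℕ) : ev M.el w ∈ R.gen := by
  induction w with
  | nil => exact R.gen.one_mem
  | cons a w ih => exact R.gen.mul_mem ih (R.el_mem a)

theorem Rot.cent_le {g : G} (hg : Commute g S.z) : g ∈ R.gen := by
  obtain ⟨u, rfl⟩ := M.exists_nf hg
  exact R.ev_mem _

/-- Conjugate to `z` inside the subgroup. -/
def Rot.CK (g : G) : Prop := ∃ k ∈ R.gen, k * S.z * k⁻¹ = g

theorem Rot.ck_conj {g k : G} (hk : k ∈ R.gen) (h : R.CK g) : R.CK (k * g * k⁻¹) := by
  obtain ⟨l, hl, rfl⟩ := h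
  exact ⟨k * l, R.gen.mul_mem hk hl, by group⟩

theorem Rot.ck_rep (k : Fin 4) : R.CK (ev M.el (involRep k)) := by
  have hwt : R.CK (ev M.el wt) := ⟨R.x, R.x_mem, by rw [M.ev_wt, R.rot.hz]⟩
  have key : ∀ (v : Fin 64) (g : List ℕ), letters9 g = true → ceq (cjw g wt) (clw v) = true →
      R.CK (ev M.el (imgw vaF vbF v)) := fun v g hg h => by
    rw [← R.rot.conj_cl M v]
    refine R.ck_conj R.x_mem ?_
    rw [cl, ← M.eq_of_ceq h (letters9_cjw hg rfl) (clw_ok v).1, M.ev_cjw _ _ hg]
    exact R.ck_conj (R.ev_mem g) hwt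
  fin_cases k
  · show R.CK (ev M.el wz)
    exact ⟨1, R.gen.one_mem, by rw [M.ev_wz]; group⟩
  · exact hwt
  · exact key 8 _ rfl involRep_links.1
  · exact key 12 _ rfl involRep_links.2

theorem Rot.ck_cent {g : G} (hg : Commute g S.z) (h2 : orderOf g = 2) : R.CK g := by
  obtain ⟨k, p, hp, rfl⟩ := Rot.exists_cert hg h2 (M := M)
  rw [M.ev_cjw _ _ hp]
  exact R.ck_conj (R.ev_mem p) (R.ck_rep k)

/-- Every involution of the subgroup is conjugate to `z` inside it. -/
theorem Rot.ck_mem {u : G} (hu : u ∈ R.gen) (h2 : orderOf u = 2) : R.CK u := by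
  have hzH : S.z ∈ R.gen := R.cent_le (Commute.refl _)
  by_contra hc
  have hzu : Even (orderOf (S.z * u)) := by
    rcases Nat.even_or_odd (orderOf (S.z * u)) with he | ho
    · exact he
    · obtain ⟨d, hd, hdu⟩ := Involution.exists_conj_of_odd S.hz h2 ho
      refine absurd ⟨d, ?_, hdu⟩ hc
      refine (closure_le _).2 ?_ hd
      rintro a (rfl | rfl) <;> assumption
  obtain ⟨w, hw, hwz, hwu, hwm⟩ := Involution.exists_commuting_involution S.hz h2 hzu
  obtain ⟨k, hk, rfl⟩ := R.ck_cent hwz hw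
  have h1 : Commute (k⁻¹ * u * k) S.z := by
    have h := hwu.symm.map (MulAut.conj k⁻¹).toMonoidHom
    simpa [mul_assoc] using h
  have h3 := R.ck_conj hk (R.ck_cent h1 (by
    rw [show k⁻¹ * u * k = k⁻¹ * u * (k⁻¹)⁻¹ by group, Involution.orderOf_conj, h2]))
  exact hc (by simpa [mul_assoc] using h3)

/-- The derived subgroup of the subgroup. -/
theorem Rot.gen_le_commutator : R.gen ≤ ⁅R.gen, R.gen⁆ := by
  set H := R.gen
  set D := ⁅R.gen, R.gen⁆
  have hcom : ∀ g h : G, g ∈ H → h ∈ H → g * h * g⁻¹ * h⁻¹ ∈ D := fun g h hg hh => by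
    rw [← commutatorElement_def]; exact commutator_mem_commutator hg hh
  have hconj : ∀ g d : G, g ∈ H → d ∈ D → g * d * g⁻¹ ∈ D := fun g d hg hd => by
    have hdH : d ∈ H := commutator_le_self H hd
    rw [show g * d * g⁻¹ = g * d * g⁻¹ * d⁻¹ * d by group]
    exact D.mul_mem (hcom g d hg hdH) hd
  have mi : S.A.i ∈ H := R.el_mem 0
  have mj : S.A.j ∈ H := R.el_mem 2
  have mc : S.A.c ∈ H := R.el_mem 4
  have ma : M.a ∈ H := R.el_mem 6
  have mb : M.b ∈ H := R.el_mem 8
  have di : S.A.i ∈ D := by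
    have h := hcom _ _ mc mj
    rwa [S.A.hcj, mul_inv_cancel_right, mul_inv_cancel_right] at h
  have dj : S.A.j ∈ D := by
    have h := hconj _ _ mc di
    rwa [S.A.hci, mul_inv_cancel_right] at h
  have dB : S.B.j ∈ D := by
    have h := hconj _ _ mb dj
    rwa [M.b_inv, M.bjb] at h
  have da : M.a ∈ D := by
    rw [← R.rot.hi]; exact hconj _ _ R.x_mem di
  have db : M.b ∈ D := by
    rw [← R.rot.hj]
    refine hconj _ _ R.x_mem ?_
    rw [show qjj = qm qj qJ by decide, ← S.q_mul, S.q_j, S.q_J]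
    exact D.mul_mem dj dB
  have dc : S.A.c ∈ D := by
    have h := D.mul_mem (hcom _ _ ma mc) (D.inv_mem dj)
    rw [M.aca] at h
    have e : S.A.c * S.A.j * S.A.c * S.A.c⁻¹ * S.A.j⁻¹ = S.A.c := by group
    rwa [e] at h
  have hC : ∀ n, M.el n ∈ D := by
    intro n
    rcases n with _ | _ | _ | _ | _ | _ | _ | _ | _ | n
    · exact di
    · exact D.inv_mem di
    · exact dj
    · exact D.inv_mem dj
    · exact dc
    · exact D.inv_mem dc
    · exact da
    · exact D.inv_mem da
    · exact db
    · simp [el, D.one_mem]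
  have hev : ∀ w, ev M.el w ∈ D := by
    intro w
    induction w with
    | nil => exact D.one_mem
    | cons a w ih => exact D.mul_mem ih (hC a)
  have hx2 : R.x * R.x ∈ D := by
    have h := hcom _ _ mj (H.inv_mem R.x_mem)
    rw [R.twist, inv_inv] at h
    have h' := D.mul_mem h (hconj _ _ (H.inv_mem R.x_mem) (D.inv_mem (hev wF)))
    rwa [show R.x * ev M.el wF * R.x * (R.x⁻¹ * (ev M.el wF)⁻¹ * R.x⁻¹⁻¹) = R.x * R.x by group] at h'
  refine (closure_le _).2 ?_
  rintro g (⟨n, rfl⟩ | rfl)
  · exact hC n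
  · have h := D.mul_mem hx2 hx2
    rwa [show R.x * R.x * (R.x * R.x) = R.x * R.x * R.x * R.x by group, R.hx, one_mul] at h

/-- The letters and the rotation generate. -/
theorem Rot.closure_eq_top : R.gen = ⊤ := by
  by_contra hne
  have hzH : S.z ∈ R.gen := R.cent_le (Commute.refl _)
  have heven : Even (Nat.card R.gen) := by
    rw [even_iff_two_dvd, ← S.hz]
    exact Subgroup.orderOf_dvd_natCard R.gen hzH
  have hSE : Cfsg.IsStronglyEmbedded R.gen := by
    refine (Cfsg.Agent.S0223.result R.gen hne heven).2 ⟨fun t ht h2 g hg => ?_, fun t ht s hs h2 hs2 _ => ?_⟩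
    · obtain ⟨k, hk, rfl⟩ := R.ck_mem ht h2
      have h1 : Commute (k⁻¹ * g * k) S.z := by
        have h : Commute g (k * S.z * k⁻¹) := mem_centralizer_singleton_iff.1 hg
        have h' := h.map (MulAut.conj k⁻¹).toMonoidHom
        simpa [mul_assoc] using h'
      have := R.gen.mul_mem (R.gen.mul_mem hk (R.cent_le h1)) (R.gen.inv_mem hk)
      simpa [mul_assoc] using this
    · obtain ⟨k, hk, rfl⟩ := R.ck_mem ht h2
      obtain ⟨l, hl, rfl⟩ := R.ck_mem hs hs2
      exact ⟨l * k⁻¹, R.gen.mul_mem hl (R.gen.inv_mem hk), by group⟩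
  have htwo : SuzukiRankOne.TwoInvolutions G := by
    refine ⟨S.z, S.t, Involution.ne_one S.hz, ?_, ?_, S.zz, ?_, S.zt_comm⟩
    · exact fun h => absurd (S.q_inj ((show S.q qt = 1 from h).trans S.q_zero.symm)) (by decide)
    · exact fun h => absurd (S.q_inj (S.q_z.trans (show S.z = S.q qt from h))) (by decide)
    · rw [Base.t, S.q_mul, show qm qt qt = 0 by decide, S.q_zero]
  haveI : Group.IsSolvable R.gen := Bender.solvable_of_stronglyEmbedded Bender.rankOneHalf hSE htwo
  haveI : Nontrivial R.gen := (Subgroup.nontrivial_iff_ne_bot _).2 fun h => by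
    rw [h, mem_bot] at hzH
    exact Involution.ne_one S.hz hzH
  refine (IsSolvable.commutator_lt_top_of_nontrivial R.gen).ne
    (Subgroup.map_injective R.gen.subtype_injective ?_)
  rw [commutator_def, Subgroup.map_commutator, ← MonoidHom.range_eq_map, Subgroup.range_subtype]
  exact le_antisymm (commutator_le_self _) R.gen_le_commutator

end Amal

end Cfsg.Agent.UFourThreeType
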