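import Cfsg.Agent.Lib.UFourThreeType.Pres
import Cfsg.Agent.Lib.MultiplierUFourThree.Base
import Cfsg.Agent.Lib.Unitary.Simple

/-!
# The relations hold in `PSU(4,3)`

`exists_model` : a simple group of order 3265920, isomorphic to `PSU(4,3)`, generated by letters satisfying
the relations.
-/

set_option autoImplicit false
set_option maxRecDepth 100000

open Subgroup

namespace Cfsg.Agent.UFourThreeType

open CosetEnum CosetEnum.Data Leech MultiplierUFourThree

/-- The letters as products of the four generators. -/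
def elW : List (List ℕ) :=
  [[1, 1, 1, 0, 0, 0, 0, 0, 0, 0, 0, 2, 0, 0, 1, 1, 1, 0, 0, 0, 0, 0, 0, 0, 0, 0, 0, 0, 0, 0, 0, 0, 0],
   [0, 0, 1, 0, 0, 0, 0, 0, 0, 0, 0, 0, 0, 0, 0, 0, 0, 0, 0, 2, 2, 2, 2, 2, 2, 2, 0, 1],
   [0, 2, 1, 3, 3, 3, 3, 3, 3, 3, 0, 0, 0, 0, 0, 0, 0, 0, 1, 0, 2, 0],
   [0, 0, 0, 0, 0, 0, 0, 0, 2, 2, 2, 2, 2, 2, 2, 0, 0, 0, 0, 0, 0, 0, 0, 1, 1, 1, 0, 3, 1, 1, 1, 2, 2, 2, 2, 2, 2, 2, 0, 0, 0, 0, 0, 0, 0, 0],
   [0, 0, 0, 0, 0, 0, 0, 0, 3, 3, 3, 3, 3, 3, 3, 0, 0, 0, 0, 0, 0, 0, 0, 1, 1, 1, 0, 0, 0, 0, 0, 0, 0, 0, 3, 3, 3, 3, 3, 3, 3, 0, 0, 0, 0, 0, 0, 0, 0, 1, 1, 1],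
   [1, 0, 3, 0, 1, 0, 3, 0],
   [1, 0, 1, 3, 3, 3, 3, 3, 3, 3, 0, 0, 0, 0, 0, 0, 0, 0, 1, 0, 0, 0, 0, 0, 0, 0, 0, 1],
   [1, 1, 1, 0, 1, 1, 1, 0, 3, 1, 1, 1, 0, 0, 0, 0, 0, 0, 0, 0, 1, 1, 1],
   [3, 2, 2, 2, 2, 2, 2, 2, 1, 2, 0, 0, 0, 0, 0, 0, 0, 0, 3, 3, 3, 3, 3, 3, 3, 1, 1, 1],
   [0, 0, 0, 0, 0, 0, 0, 0, 1, 1, 1, 0, 0, 0, 0, 0, 0, 0, 0, 2, 2, 2, 2, 2, 2, 2, 3, 1, 0, 0, 0, 0, 0, 0, 0, 0, 3],
   [3, 3, 3, 3, 3, 3, 3, 0, 1, 1, 1, 3, 3, 3, 3, 3, 3, 3, 2, 0, 1, 0]]

/-- The four generators as words of the letters. -/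
def genW : List (List ℕ) :=
  [[10, 4, 9, 5, 2, 8, 4, 9, 2, 4, 10, 5],
   [0, 8, 4, 9, 8, 4, 9, 5, 10, 5],
   [6, 4, 8, 4, 8],
   [8, 4, 7, 8, 4]]

/-- The product word of a word. -/
def flatW : List ℕ → List ℕ
  | [] => []
  | a :: w => flatW w ++ elW.getD a []

/-- The word fixes the five base lines. -/
noncomputable def fixesBase (w : List ℕ) : Bool :=
  MultiplierUFourThree.base.all fun b => Nat.beq (StabCert.ev 9 MultiplierUFourThree.tab w b) b

theorem model_rels : (relsE.all fun w => fixesBase (flatW w) && (flatW w).all fun k => k < 4) = true := by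
  decide +kernel

theorem model_z : fixesBase (flatW [0, 0]) = false ∧ (flatW [0, 0]).all (fun k => k < 4) = true := by
  decide +kernel

theorem model_gens : ((List.range 4).all fun k => MultiplierUFourThree.base.all fun b =>
    Nat.beq (StabCert.ev 9 MultiplierUFourThree.tab (flatW (genW.getD k [])) b)
        (StabCert.look 9 (MultiplierUFourThree.tab.getD k 0) b) &&
      Nat.blt b 280 && (flatW (genW.getD k [])).all (fun i => i < 4) &&
      (genW.getD k []).all fun i => i < 11) = true := by decide +kernel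

/-- A simple model. -/
theorem exists_model (F : Type) [Field F] [Fintype F] (hF : Fintype.card F = 9) :
    ∃ (P : Type) (_ : Group P) (_ : Finite P) (el : ℕ → P), Sat el ∧ ev el [0, 0] ≠ 1 ∧
      closure {g | ∃ n < 11, el n = g} = ⊤ ∧
      IsSimpleGroup P ∧ Nat.card P = 3265920 ∧ Nonempty (P ≃* Cfsg.PSU 4 F 3) := by
  classical
  have hF' : Fintype.card F = 3 ^ 2 := hF.trans (by norm_num)
  obtain ⟨φ, hφ⟩ : ∃ φ : StabCert.Quad 3 2 0 →+* F, ∀ z, φ (star z) = φ z ^ 3 := by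
    have : Fact (Nat.Prime 3) := ⟨by norm_num⟩
    have : CharP F 3 := charP_of_card_eq_prime_pow hF'
    have h3 : (3 : F) = 0 := by exact_mod_cast CharP.cast_eq_zero F 3
    have h20 : (2 : F) ≠ 0 := fun h => one_ne_zero (α := F) (by linear_combination h3 - h)
    obtain ⟨ω, hω⟩ : IsSquare (2 : F) := by
      refine (FiniteField.isSquare_iff (fun h => ?_) h20).2 ?_
      · rw [ringChar.eq F 3] at h; omega
      · rw [hF']
        norm_num
        linear_combination 5 * h3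
    refine StabCert.Quad.exists_hom hF' ω ?_ ?_
    · push_cast
      linear_combination -hω
    · push_cast
      linear_combination -ω * hω + ω * h3
  haveI : Finite (Unitary.IsoLine 4 F 3) :=
    Finite.of_injective (fun P => ((P.1 : Submodule F (Fin 4 → F)) : Set (Fin 4 → F)))
      fun P Q e => Subtype.ext (SetLike.ext' e)
  let g := MultiplierUFourThree.gen hF' φ hφ
  let el : ℕ → PU F := fun n => StabCert.wordEl g (elW.getD n [])
  have hev : ∀ w, ev el w = StabCert.wordEl g (flatW w) := by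
    intro w
    induction w with
    | nil => rfl
    | cons a w ih => rw [flatW, StabCert.wordEl_append, ← ih]; rfl
  have act := fun (l : List ℕ) (hl : ∀ k ∈ l, k < 4) (b : ℕ) (hb : b < 280) =>
    (StabCert.ev_spec (MultiplierUFourThree.sound hF' φ hφ) l hl b hb).2
  have hb280 : ∀ b ∈ MultiplierUFourThree.base, b < 280 := by decide
  refine ⟨PU F, inferInstance, inferInstance, el, fun w hw => ?_, ?_, ?_, ?_, natCard_PU hF', ?_⟩
  · have h := List.all_eq_true.1 model_rels w hw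
    simp only [Bool.and_eq_true, fixesBase, List.all_eq_true, decide_eq_true_eq] at h
    rw [hev]
    refine eq_one_of_fix hF' φ hφ fun b hb => ?_
    refine (act _ h.2 b (hb280 b hb)).trans ?_
    rw [Nat.eq_of_beq_eq_true (h.1 b hb)]
  · intro h1
    obtain ⟨hf, hl⟩ := model_z
    simp only [List.all_eq_true, decide_eq_true_eq] at hl
    rw [← Bool.not_eq_true, fixesBase, List.all_eq_true] at hf
    refine hf fun b hb => ?_
    have hlt := (StabCert.ev_spec (MultiplierUFourThree.sound hF' φ hφ) _ hl b (hb280 b hb))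
    have e : StabCert.ev 9 MultiplierUFourThree.tab (flatW [0, 0]) b = b := by
      refine pt_injOn φ hφ hlt.1 (hb280 b hb) ?_
      rw [← hlt.2, ← hev, h1]
      rfl
    rw [e]
    exact Nat.beq_refl b
  · rw [eq_top_iff, ← closure_gen hF' φ hφ, closure_le]
    rintro _ ⟨k, hk, rfl⟩
    have h := List.all_eq_true.1 model_gens k (List.mem_range.2 hk)
    simp only [Bool.and_eq_true, List.all_eq_true, decide_eq_true_eq] at h
    have heq : g k = ev el (genW.getD k []) := by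
      rw [hev, eq_comm, ← inv_mul_eq_one, eq_comm]
      refine (eq_one_of_fix hF' φ hφ fun b hb => ?_).symm
      obtain ⟨⟨⟨h1, h2⟩, h3⟩, -⟩ := h b hb
      have e1 := act _ h3 b (hb280 b hb)
      have e2 := (MultiplierUFourThree.sound hF' φ hφ k hk b (hb280 b hb)).2
      rw [Nat.eq_of_beq_eq_true h1] at e1
      rw [← e2] at e1
      show ((StabCert.wordEl g (flatW (genW.getD k [])))⁻¹ * g k : PU F).1 _ = _
      rw [Subgroup.coe_mul, Subgroup.coe_inv, Equiv.Perm.mul_apply, Equiv.Perm.inv_eq_iff_eq]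
      exact e1.symm
    show g k ∈ closure {x | ∃ n < 11, el n = x}
    rw [heq]
    have h11 : ∀ i ∈ genW.getD k [], i < 11 := (h 98 (by decide)).2
    generalize genW.getD k [] = l at h11
    induction l with
    | nil => exact one_mem _
    | cons a l ih =>
      exact mul_mem (ih fun i hi => h11 i (List.mem_cons_of_mem a hi))
        (subset_closure ⟨a, h11 a List.mem_cons_self, rfl⟩)
  · obtain ⟨e⟩ := StabCert.nonempty_range_permHom (n := 4) (p := 3) hF' (by norm_num)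
    haveI := Unitary.isSimpleGroup_PSU (n := 4) (q := 3) hF' (Or.inl le_rfl)
    exact MulEquiv.isSimpleGroup e
  · obtain ⟨e⟩ := StabCert.nonempty_range_permHom (n := 4) (p := 3) hF' (by norm_num)
    exact ⟨e⟩

end Cfsg.Agent.UFourThreeType
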