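import Cfsg.Agent.Lib.UFourThreeType.GSat
import Cfsg.Agent.Lib.UFourThreeType.Bound
import Cfsg.Agent.Lib.UFourThreeType.Model

/-!
# The subgroup generated by the letters is isomorphic to the model

* `Amal.Rot.G0` : the subgroup generated by the letters; it contains `C(z)`;
* `Amal.Rot.nonempty_iso` : `G0` is isomorphic to every simple model.
-/

set_option autoImplicit false
set_option linter.unusedSectionVars false

open Subgroup

namespace Cfsg.Agent.UFourThreeType

open CosetEnum CosetEnum.Data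

theorem map_ev {A B : Type*} [Group A] [Group B] (f : A →* B) (el : ℕ → A) :
    ∀ w : List ℕ, f (ev el w) = ev (fun n => f (el n)) w
  | [] => map_one f
  | a :: w => by simp [ev, map_ev f el w]

theorem ev_mem_closure {A : Type*} [Group A] (el : ℕ → A) (k : ℕ) :
    ∀ w : List ℕ, (∀ n ∈ w, n < k) → ev el w ∈ closure {g | ∃ n < k, el n = g}
  | [], _ => one_mem _
  | a :: w, h => mul_mem (ev_mem_closure el k w fun n hn => h n (List.mem_cons_of_mem a hn))
      (subset_closure ⟨a, h a List.mem_cons_self, rfl⟩)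

theorem qcom_or : ∀ y : Fin 32, y ≠ 0 → y ≠ qz → ∃ w : Fin 32, qcom w y = qz := by decide +kernel

theorem nfw_lt : ∀ u : NF, ∀ n ∈ nfw u, n < 9 := by decide +kernel

namespace Amal.Rot

variable {G : Type*} [Group G] [Finite G] {S : Base G} {M : Amal S} (R : M.Rot)

/-- The subgroup generated by the letters. -/
def G0 : Subgroup G := closure {g | ∃ n < 11, R.eG n = g}

theorem cent_le {g : G} (hg : Commute g S.z) : g ∈ R.G0 := by
  obtain ⟨u, rfl⟩ := M.exists_nf hg
  rw [← R.ev_eG _ ((by decide +kernel : ∀ u : NF, letters9 (nfw u) = true) u)]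
  exact ev_mem_closure _ 11 _ fun n hn => Nat.lt_trans (nfw_lt u n hn) (by norm_num)

theorem x_mem : R.x ∈ R.G0 := subset_closure ⟨9, by norm_num, rfl⟩

theorem t_mem : S.t ∈ R.G0 := R.cent_le (S.commute_z_q qt)

/-- A normal subgroup with trivial intersection with `C(z)` is trivial. -/
theorem eq_bot_of_inter {D : Subgroup G} (hD : ∀ g ∈ R.G0, ∀ k ∈ D, g * k * g⁻¹ ∈ D)
    (hz : ∀ k ∈ D, Commute k S.z → k = 1) : ∀ k ∈ D, k = 1 := by
  have hinv : ∀ u ∈ R.G0, u * u = 1 → (∀ k ∈ D, Commute k u → k = 1) → ∀ k ∈ D, u * k * u⁻¹ = k⁻¹ := by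
    intro u hu hu2 hfix
    have ui : u⁻¹ = u := inv_eq_of_mul_eq_one_right hu2
    let f : D → D := fun k => ⟨(k : G)⁻¹ * (u * k * u⁻¹), mul_mem (inv_mem k.2) (hD u hu k k.2)⟩
    have hf : Function.Injective f := by
      intro k l h
      have h' : (k : G)⁻¹ * (u * k * u⁻¹) = (l : G)⁻¹ * (u * l * u⁻¹) := congrArg Subtype.val h
      have hm := hfix ((l : G) * (k : G)⁻¹) (mul_mem l.2 (inv_mem k.2)) (Commute.symm (mul_inv_eq_iff_eq_mul.1 (by
        rw [show u * ((l : G) * (k : G)⁻¹) * u⁻¹ = (l : G) * ((l : G)⁻¹ * (u * l * u⁻¹)) * (u * k * u⁻¹)⁻¹ by group,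
          ← h']
        group)))
      exact Subtype.ext (mul_inv_eq_one.1 hm).symm
    intro k hk
    obtain ⟨l, hl⟩ := (Finite.injective_iff_surjective.1 hf) ⟨k, hk⟩
    have hl' : (l : G)⁻¹ * (u * l * u⁻¹) = k := congrArg Subtype.val hl
    rw [← hl', ui, show u * ((l : G)⁻¹ * (u * l * u)) * u = u * (l : G)⁻¹ * u * l * (u * u) by group, hu2,
      show ((l : G)⁻¹ * (u * l * u))⁻¹ = u⁻¹ * (l : G)⁻¹ * u⁻¹ * l by group, ui, mul_one]
  have tt : S.t * S.t = 1 := by
    rw [Base.t, S.q_mul, show qm qt qt = 0 by decide, S.q_zero]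
  have ht : ∀ k ∈ D, Commute k S.t → k = 1 := by
    intro k hk hc
    have h1 := hz _ (hD R.x⁻¹ (inv_mem R.x_mem) k hk) (by
      have h := hc.map (MulAut.conj R.x⁻¹).toMonoidHom
      simpa [← R.rot.hz, mul_assoc] using h)
    rw [inv_inv] at h1
    rw [show k = R.x * (R.x⁻¹ * k * R.x) * R.x⁻¹ by group, h1]; group
  have hzt : ∀ k ∈ D, Commute k (S.t * S.z) → k = 1 := by
    intro k hk hc
    have h1 := ht _ (hD R.x⁻¹ (inv_mem R.x_mem) k hk) (by
      have h := hc.map (MulAut.conj R.x⁻¹).toMonoidHom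
      simpa [← R.rot.ht, mul_assoc] using h)
    rw [inv_inv] at h1
    rw [show k = R.x * (R.x⁻¹ * k * R.x) * R.x⁻¹ by group, h1]; group
  intro k hk
  refine hzt k hk (Commute.symm (mul_inv_eq_iff_eq_mul.1 ?_))
  rw [show S.t * S.z * k * (S.t * S.z)⁻¹ = S.t * (S.z * k * S.z⁻¹) * S.t⁻¹ by group,
    hinv _ (R.cent_le (Commute.refl _)) S.zz hz k hk,
    show S.t * k⁻¹ * S.t⁻¹ = (S.t * k * S.t⁻¹)⁻¹ by group, hinv _ R.t_mem tt ht k hk, inv_inv]

/-- `G0` is isomorphic to the model. -/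
theorem nonempty_iso {P : Type} [Group P] [Finite P] [IsSimpleGroup P] (elP : ℕ → P) (hP : Sat elP)
    (hz : ev elP [0, 0] ≠ 1) (hgen : closure {g | ∃ n < 11, elP n = g} = ⊤) (hcard : Nat.card P = 3265920) :
    Nonempty (R.G0 ≃* P) := by
  classical
  let el : ℕ → G × P := fun n => (R.eG n, elP n)
  have hsat : Sat el := by
    intro w hw
    refine Prod.ext ?_ ?_
    · exact (map_ev (MonoidHom.fst G P) el w).trans (R.sat w hw)
    · exact (map_ev (MonoidHom.snd G P) el w).trans (hP w hw)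
  obtain ⟨hfin, hle⟩ := hsat.card_all_le
  set K : Subgroup (G × P) := closure {g | ∃ n < 11, el n = g} with hK
  have hfst : K.map (MonoidHom.fst G P) = R.G0 := by
    rw [hK, MonoidHom.map_closure, G0]
    congr 1
    ext g
    simp [el]
  have hsnd : K.map (MonoidHom.snd G P) = ⊤ := by
    rw [hK, MonoidHom.map_closure, ← hgen]
    congr 1
    ext g
    simp [el]
  let D2 : Subgroup P := K.comap (MonoidHom.inr G P)
  haveI : D2.Normal := ⟨fun p hp q => by
    obtain ⟨⟨g, q'⟩, hgq, rfl⟩ : q ∈ K.map (MonoidHom.snd G P) := by rw [hsnd]; trivial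
    have := mul_mem (mul_mem hgq (show ((1 : G), p) ∈ K from hp)) (inv_mem hgq)
    show ((1 : G), q' * p * q'⁻¹) ∈ K
    simpa using this⟩
  rcases (inferInstance : D2.Normal).eq_bot_or_eq_top with hD2 | hD2
  swap
  · exfalso
    have hsub : ∀ g ∈ R.G0, ∀ p : P, (g, p) ∈ K := by
      intro g hg p
      rw [← hfst] at hg
      obtain ⟨⟨g', q⟩, hgq, rfl⟩ := hg
      have hm : q⁻¹ * p ∈ D2 := by rw [hD2]; trivial
      have := mul_mem hgq (show ((1 : G), q⁻¹ * p) ∈ K from hm)
      simpa using this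
    have h1 : Nat.card (centralizer ({S.z} : Set G) × P) ≤ Nat.card K := by
      refine Nat.card_le_card_of_injective
        (fun u => ⟨(u.1.1, u.2), hsub _ (R.cent_le (mem_centralizer_singleton_iff.1 u.1.2)) u.2⟩) ?_
      rintro ⟨u, p⟩ ⟨v, q⟩ h
      simp only [Subtype.mk.injEq, Prod.mk.injEq] at h
      exact Prod.ext (Subtype.ext h.1) h.2
    rw [Nat.card_prod, S.cardC, hcard] at h1
    have := h1.trans hle
    norm_num at this
  have hinj : ∀ p, ((1 : G), p) ∈ K → p = 1 := fun p hp => by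
    have h : p ∈ D2 := hp
    rwa [hD2, mem_bot] at h
  let D1 : Subgroup G := K.comap (MonoidHom.inl G P)
  have hD1 : ∀ g ∈ R.G0, ∀ k ∈ D1, g * k * g⁻¹ ∈ D1 := by
    intro g hg k hk
    rw [← hfst] at hg
    obtain ⟨⟨g', q⟩, hgq, rfl⟩ := hg
    have := mul_mem (mul_mem hgq (show (k, (1 : P)) ∈ K from hk)) (inv_mem hgq)
    show (g' * k * g'⁻¹, (1 : P)) ∈ K
    simpa using this
  have hz1 : S.z ∉ D1 := by
    intro h
    have h2 : (S.z, ev elP [0, 0]) ∈ K := by
      have hm := ev_mem_closure el 11 [0, 0] (by simp)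
      have e : ev el [0, 0] = (S.z, ev elP [0, 0]) := by
        simp [ev, el, eG, S.A.hii]
      rwa [e] at hm
    have := mul_mem (inv_mem (show (S.z, (1 : P)) ∈ K from h)) h2
    exact hz (hinj _ (by simpa using this))
  have hint : ∀ k ∈ D1, Commute k S.z → k = 1 := by
    intro u hu huz
    have hq : ∀ y, S.q y ∈ D1 → y = 0 := by
      intro y hy
      by_contra h0
      by_cases hy1 : y = qz
      · rw [hy1, S.q_z] at hy; exact hz1 hy
      obtain ⟨w, hw⟩ := qcom_or y h0 hy1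
      refine hz1 ?_
      rw [← S.q_z, ← hw, show qcom w y = qm (qconj w y) (qinv y) from
        (by decide +kernel : ∀ r y, qcom r y = qm (qconj r y) (qinv y)) w y, ← S.q_mul, ← S.q_conj, S.q_inv]
      exact mul_mem (hD1 _ (R.cent_le (S.commute_z_q w)) _ hy) (inv_mem hy)
    by_cases hall : ∀ x, Commute u (S.q x)
    · obtain ⟨y, hy⟩ := S.cent u huz hall
      rw [← hy, hq y (hy ▸ hu), S.q_zero]
    · exfalso
      push Not at hall
      obtain ⟨x, hx⟩ := hall
      obtain ⟨x', hx'⟩ := S.q_norm u huz x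
      have hm : S.q (qm x' (qinv x)) ∈ D1 := by
        rw [← S.q_mul, S.q_inv, ← hx', show u * S.q x * u⁻¹ * (S.q x)⁻¹ = u * (S.q x * u⁻¹ * (S.q x)⁻¹) by group]
        exact mul_mem hu (hD1 _ (R.cent_le (S.commute_z_q x)) _ (inv_mem hu))
      have h := hq _ hm
      refine hx (mul_inv_eq_iff_eq_mul.1 ?_)
      rw [hx']
      have e := S.q_mul x' (qinv x)
      rw [h, S.q_zero, S.q_inv, mul_inv_eq_one] at e
      exact e
  have hD1bot := R.eq_bot_of_inter hD1 hint
  haveI : Finite K := hfin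
  let f1 : K →* G := (MonoidHom.fst G P).comp K.subtype
  let f2 : K →* P := (MonoidHom.snd G P).comp K.subtype
  have i1 : Function.Injective f1 := (injective_iff_map_eq_one f1).2 fun u hu => by
    have h : ((1 : G), u.1.2) ∈ K := by
      rw [show ((1 : G), u.1.2) = u.1 from Prod.ext hu.symm rfl]; exact u.2
    exact Subtype.ext (Prod.ext hu (hinj _ h))
  have i2 : Function.Injective f2 := (injective_iff_map_eq_one f2).2 fun u hu => by
    have h : (u.1.1, (1 : P)) ∈ K := by
      rw [show (u.1.1, (1 : P)) = u.1 from Prod.ext rfl hu.symm]; exact u.2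
    exact Subtype.ext (Prod.ext (hD1bot _ h) hu)
  have r2 : f2.range = ⊤ := by
    rw [MonoidHom.range_comp, K.range_subtype]; exact hsnd
  have r1 : f1.range = R.G0 := by
    rw [MonoidHom.range_comp, K.range_subtype]; exact hfst
  exact ⟨((MulEquiv.subgroupCongr r1).symm.trans (MonoidHom.ofInjective i1).symm).trans
    (MulEquiv.ofBijective f2 ⟨i2, MonoidHom.range_eq_top.1 r2⟩)⟩

end Amal.Rot

end Cfsg.Agent.UFourThreeType
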