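import Cfsg.Agent.Lib.UFourThreeType.Rot
import Cfsg.Agent.Lib.UFourThreeType.TableN

/-!
# The normaliser of `E = ⟨z, t, j₁j₂, b⟩`

* `Rot.mem_E` : `C(E) = E`;
* `Rot.five`, `Rot.five2` : two relations of order five;
* `Rot.conj_y_cz`, `Rot.conj_y_z`, `Rot.cc_q` : consequences read off the local table.
-/

set_option autoImplicit false
set_option linter.unusedSectionVars false

open Subgroup

namespace Cfsg.Agent.UFourThreeType

open CosetEnum CosetEnum.Data

/-- Word of `c d`, `d = b c b`. -/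
def wcc : List ℕ := [8, 4, 8, 4]

/-- Expansion of the local letters other than `x`. -/
def expN : List ℕ → List ℕ
  | [] => []
  | n :: w => [[0], [1], [2], [3], [6], [7], [], [], [8], wcc, [5, 8, 5, 8]].getD n [] ++ expN w

/-- A local word without `x`. -/
def noX (w : List ℕ) : Bool := w.all fun n => n < 11 && n != 6 && n != 7

/-- The code in `C(⟨z, t⟩)` of a code of `E`. -/
def clE (e : Fin 16) : Fin 64 :=
  ⟨(e.val % 4 + 8 * (e.val / 4 % 2) + 32 * (e.val / 8 % 2)) % 64, Nat.mod_lt _ (by decide)⟩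

/-- The linear map with given images. -/
def lin (g : List ℕ) (e : Fin 16) : Fin 16 :=
  ⟨((e.val % 2 * g.getD 0 0) ^^^ (e.val / 2 % 2 * g.getD 1 0) ^^^ (e.val / 4 % 2 * g.getD 2 0) ^^^
    (e.val / 8 % 2 * g.getD 3 0)) % 16, Nat.mod_lt _ (by decide)⟩

/-- Conjugation by `x` on `E`. -/
def aX : Fin 16 → Fin 16 := lin [2, 3, 8, 12]

/-- Conjugation by a local letter on `E`. -/
noncomputable def actN (n : ℕ) (e : Fin 16) : Fin 16 :=
  if n = 6 then aX e else if n = 7 then aX (aX e) else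
    ((List.finRange 16).find? fun e' => ceq (clw (clE e')) (cjw (expN [n]) (clw (clE e)))).getD 0

/-- Conjugation by a local word on `E`. -/
noncomputable def wact : List ℕ → Fin 16 → Fin 16
  | [], e => e
  | n :: w, e => wact w (actN n e)

theorem clE_spec : (clE 1 = 1 ∧ clE 2 = 2 ∧ clE 4 = 8 ∧ clE 8 = 32 ∧ clE 0 = 0) ∧
    ∀ e : Fin 16, ceq (clw (clE (aX e))) (imgw vaF vbF (clE e)) = true ∧
      ((List.finRange 16).all fun e' => !ceq (clw (clE e)) (clw (clE e')) || e == e') = true ∧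
      ceq (clw (clE e) ++ clw (clE e)) [] = true := by decide +kernel

theorem actN_spec : ∀ n ∈ [0, 1, 2, 3, 4, 5, 8, 9, 10], ∀ e : Fin 16,
    ceq (clw (clE (actN n e))) (cjw (expN [n]) (clw (clE e))) = true ∧
      letters9 (expN [n]) = true := by decide +kernel

theorem cent_E : ∀ v : Fin 64, ceq (cmw (clw v) wjj) [] = true → ceq (cmw (clw v) [8]) [] = true →
    ∃ e : Fin 16, clE e = v := by decide +kernel

theorem fpf_five : ∀ e : Fin 16, wact (wpow [6, 9] 5) e = e ∧ (wact [6, 9] e = e → e = 0) ∧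
    wact (wpow [9, 6, 9, 7] 5) e = e ∧ (wact [9, 6, 9, 7] e = e → e = 0) := by decide +kernel

theorem S0_mem : ∀ v : Fin 64, v.val / 8 % 2 = 0 → v.val / 32 % 2 = 0 →
    ((List.finRange 64).any fun u => u.val / 8 % 2 == 0 && u.val / 32 % 2 == 0 && ceq (clw u) (clw v ++ [0])) = true ∧
    ((List.finRange 64).any fun u => u.val / 8 % 2 == 0 && u.val / 32 % 2 == 0 && ceq (clw u) (clw v ++ [1])) = true ∧
    ((List.finRange 64).any fun u => u.val / 8 % 2 == 0 && u.val / 32 % 2 == 0 && ceq (clw u) (clw v ++ [6])) = true ∧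
    ((List.finRange 64).any fun u => u.val / 8 % 2 == 0 && u.val / 32 % 2 == 0 && ceq (clw u) (clw v ++ [7])) = true ∧
    (imgc v).val / 8 % 2 = 0 ∧ (imgc v).val / 32 % 2 = 0 ∧
    ((List.finRange 16).all fun e => !ceq (clw (clE e)) (clw v) || e.val < 4) = true := by decide +kernel

theorem core_E : ∀ e : Fin 16, e ≠ 0 → ∃ n : Fin 3, 4 ≤ (wact (wpow [6, 9] n.val) e).val := by decide +kernel

namespace Amal

namespace Rot

variable {G : Type*} [Group G] [Finite G] {S : Base G} {M : Amal S} (R : M.Rot)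

/-- The local letters. -/
def eN (n : ℕ) : G :=
  [S.A.i, S.A.i⁻¹, S.A.j, S.A.j⁻¹, M.a, M.a⁻¹, R.x, R.x⁻¹, M.b, S.A.c * S.B.c, (S.A.c * S.B.c)⁻¹].getD n 1

theorem ev_wcc : ev M.el wcc = S.A.c * S.B.c := by
  simp only [wcc, ev, el, List.getD_cons_succ, List.getD_cons_zero, one_mul, ← M.bcb]
  simp [mul_assoc]

theorem ev_expN : ∀ w : List ℕ, noX w = true → ev R.eN w = ev M.el (expN w) ∧ letters9 (expN w) = true
  | [], _ => ⟨rfl, rfl⟩
  | n :: w, h => by
    simp only [noX, List.all_cons, Bool.and_eq_true, decide_eq_true_eq, bne_iff_ne, ne_eq] at h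
    obtain ⟨⟨⟨hn, h6⟩, h7⟩, hw⟩ := h
    obtain ⟨e1, l1⟩ := ev_expN w hw
    simp only [expN, ev, ev_append, e1]
    have hcc := ev_wcc (M := M)
    have hcci : ev M.el [5, 8, 5, 8] = (S.A.c * S.B.c)⁻¹ := by
      rw [← hcc, ← M.ev_winv _ rfl]; rfl
    refine ⟨?_, letters9_append (by interval_cases n <;> first | rfl | omega) l1⟩
    congr 1
    interval_cases n <;> first
      | omega
      | exact hcc.symm
      | exact hcci.symm
      | simp [eN, ev, el]

/-- The element of a code of `E`. -/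
def ee (_R : M.Rot) (e : Fin 16) : G := M.cl (clE e)

theorem conj_eN (n : ℕ) (hn : n < 11) (e : Fin 16) : R.eN n * R.ee e * (R.eN n)⁻¹ = R.ee (actN n e) := by
  have hx : ∀ e, R.x * R.ee e * R.x⁻¹ = R.ee (aX e) := fun e => by
    rw [ee, R.rot.conj_cl M, ee, cl, M.eq_of_ceq (clE_spec.2 e).1 (clw_ok _).1 (imgw_ok _ _ _)]
  by_cases h6 : n = 6
  · subst h6; simpa [actN, eN] using hx e
  by_cases h7 : n = 7
  · subst h7
    have hx2 : R.x⁻¹ = R.x * R.x := inv_eq_of_mul_eq_one_right (by rw [← mul_assoc, R.hx])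
    simp only [eN, List.getD_cons_succ, List.getD_cons_zero, actN, show (7 : ℕ) ≠ 6 by omega, if_false, if_true]
    rw [← hx, ← hx, show R.x * (R.x * R.ee e * R.x⁻¹) * R.x⁻¹ = R.x * R.x * R.ee e * (R.x * R.x)⁻¹ by group,
      ← hx2]
  have hmem : n ∈ [0, 1, 2, 3, 4, 5, 8, 9, 10] := by simp; omega
  obtain ⟨hc, hl⟩ := actN_spec n hmem e
  have he : ev R.eN [n] = ev M.el (expN [n]) :=
    (R.ev_expN [n] (by simp [noX, hn, h6, h7])).1
  rw [ee, ee, cl, cl, M.eq_of_ceq hc (clw_ok _).1 (letters9_cjw hl (clw_ok _).1), M.ev_cjw _ _ hl, ← he]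
  simp [ev]

theorem conj_ev : ∀ (w : List ℕ), (∀ n ∈ w, n < 11) → ∀ e,
    ev R.eN w * R.ee e * (ev R.eN w)⁻¹ = R.ee (wact w e)
  | [], _, e => by simp [ev, wact]
  | n :: w, hw, e => by
    rw [wact, ← conj_ev w (fun m hm => hw m (List.mem_cons_of_mem n hm)), ← R.conj_eN n (hw n List.mem_cons_self)]
    simp [ev, mul_assoc]

/-- `C(E) = E`. -/
theorem mem_E {g : G} (h : ∀ e, g * R.ee e * g⁻¹ = R.ee e) : ∃ e, R.ee e = g := by
  have hc : ∀ e, Commute g (R.ee e) := fun e => mul_inv_eq_iff_eq_mul.1 (h e)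
  have hz : Commute g S.z := by
    have := hc 1
    rwa [ee, clE_spec.1.1, show M.cl 1 = S.z by rw [← M.ev_wz]; simp [cl, clw, clmap, wpow]] at this
  have ht : Commute g S.t := by
    have := hc 2
    rwa [ee, clE_spec.1.2.1, show M.cl 2 = S.t by rw [← M.ev_wt]; simp [cl, clw, clmap, wpow]] at this
  obtain ⟨v, rfl⟩ := M.exists_cl hz ht
  have h1 := hc 4
  rw [ee, clE_spec.1.2.2.1, M.cl_eight, ← M.ev_wjj] at h1
  have h2 := hc 8
  rw [ee, clE_spec.1.2.2.2.1, M.cl_32, ← M.ev8] at h2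
  have key : ∀ w, letters9 w = true → Commute (M.cl v) (ev M.el w) → ceq (cmw (clw v) w) [] = true := fun w hw hc =>
    M.ceq_of_eq (by rw [M.ev_cmw _ _ (clw_ok v).1 hw, show ev M.el (clw v) = M.cl v from rfl, hc.eq]; simp [ev])
      (letters9_cmw (clw_ok v).1 hw) rfl
  obtain ⟨e, rfl⟩ := cent_E v (key _ (by decide) h1) (key _ rfl h2)
  exact ⟨e, rfl⟩

theorem ee_inj {e e' : Fin 16} (h : R.ee e = R.ee e') : e = e' := by
  have hc := M.ceq_of_eq h (clw_ok _).1 (clw_ok _).1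
  simpa [hc] using List.all_eq_true.1 (clE_spec.2 e).2.1 e' (List.mem_finRange e')

theorem ee_zero : R.ee 0 = 1 := by rw [ee, clE_spec.1.2.2.2.2, M.cl_zero]

theorem fpf_pow (w : List ℕ) (hw : ∀ n ∈ w, n < 11) (h : ∀ e, wact (wpow w 5) e = e)
    (hf : ∀ e, wact w e = e → e = 0) : ev R.eN (wpow w 5) = 1 := by
  have hw5 : ∀ n ∈ wpow w 5, n < 11 := by
    intro n hn
    simp only [wpow, List.mem_append, List.not_mem_nil, or_false] at hn
    rcases hn with hn | hn | hn | hn | hn <;> exact hw n hn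
  obtain ⟨e, he⟩ := R.mem_E fun e => by rw [R.conj_ev _ hw5, h]
  have hfix : R.ee (wact w e) = R.ee e := by
    rw [← R.conj_ev w hw, he, ev_wpow]; group
  rw [← he, hf e (R.ee_inj hfix), R.ee_zero]

theorem five : ev R.eN (wpow [6, 9] 5) = 1 :=
  R.fpf_pow _ (by simp) (fun e => (fpf_five e).1) fun e => (fpf_five e).2.1

theorem five2 : ev R.eN (wpow [9, 6, 9, 7] 5) = 1 :=
  R.fpf_pow _ (by simp) (fun e => (fpf_five e).2.2.1) fun e => (fpf_five e).2.2.2

theorem ev_conj (u : List ℕ) (hu : letters9 u = true) (hz : ceq (cmw u wz) [] = true)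
    (ht : ceq (cmw u wt) [] = true) :
    R.x * ev M.el u * R.x⁻¹ = ev M.el (imgw vaF vbF (clc u)) := by
  have hcz : Commute (ev M.el u) S.z := by rw [← M.ev_wz]; exact M.commute_of_ceq hz hu rfl
  have hct : Commute (ev M.el u) S.t := by rw [← M.ev_wt]; exact M.commute_of_ceq ht hu rfl
  rw [← R.rot.conj_cl M, M.clc_spec hu rfl hcz hct]

theorem rot_rel (u v : List ℕ) (hu : noX u = true) (hv : noX v = true)
    (h : (ceq (expN v ++ imgw vaF vbF (clc (expN u))) [] && ceq (cmw (expN u) wz) [] &&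
      ceq (cmw (expN u) wt) []) = true) : ev R.eN (v ++ [7] ++ u ++ [6]) = 1 := by
  simp only [Bool.and_eq_true] at h
  obtain ⟨hu1, hu2⟩ := R.ev_expN u hu
  obtain ⟨hv1, hv2⟩ := R.ev_expN v hv
  have := M.eq_of_ceq h.1.1 (letters9_append hv2 (imgw_ok _ _ _)) rfl
  rw [ev_append, ← R.ev_conj _ hu2 h.1.2 h.2, ← hu1, ← hv1] at this
  rw [ev_append, ev_append, ev_append, ← mul_assoc, ← mul_assoc]
  simpa [ev, eN] using this

theorem c_rel (w : List ℕ) (hw : noX w = true) (h : ceq (expN w) [] = true) : ev R.eN w = 1 := by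
  obtain ⟨h1, h2⟩ := R.ev_expN w hw
  rw [h1]
  exact M.eq_of_ceq h h2 rfl

/-- The local relators. -/
theorem rel_one : ∀ w ∈ seedN.rels, ev R.eN w = 1 := by
  intro w hw
  have hC : ∀ w ∈ seedN.rels, noX w = true → ceq (expN w) [] = true := by decide +kernel
  have hX : ∀ w ∈ seedN.rels, noX w = false → w ∈ ([[6, 7], [7, 6], [6, 6, 6],
      [5] ++ [7] ++ [0] ++ [6], [8] ++ [7] ++ [8, 2, 8, 2] ++ [6], [1, 8, 1, 8] ++ [7] ++ [0, 0] ++ [6],
      [3, 8, 3] ++ [7] ++ [8] ++ [6], [7, 1, 8, 1, 8, 5, 8, 3, 7, 2], wpow [6, 9] 5,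
      [1, 5, 1, 1, 1, 8, 1, 8] ++ [7] ++ [4] ++ [6], [1, 1, 1, 8, 1, 8] ++ [7] ++ [8, 0, 8, 0] ++ [6],
      wpow [9, 6, 9, 7] 5] : List (List ℕ)) := by decide +kernel
  cases hb : noX w with
  | true => exact R.c_rel w hb (hC w hw hb)
  | false =>
    have := hX w hw hb
    simp only [List.mem_cons, List.not_mem_nil, or_false] at this
    rcases this with rfl | rfl | rfl | rfl | rfl | rfl | rfl | rfl | rfl | rfl | rfl | rfl
    · simp [ev, eN]
    · simp [ev, eN]
    · simp only [ev, eN, List.getD_cons_succ, List.getD_cons_zero, one_mul]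
      exact R.hx
    · exact R.rot_rel _ _ rfl rfl (by decide +kernel)
    · exact R.rot_rel _ _ rfl rfl (by decide +kernel)
    · exact R.rot_rel _ _ rfl rfl (by decide +kernel)
    · exact R.rot_rel _ _ rfl rfl (by decide +kernel)
    · obtain ⟨h1, h2⟩ := R.ev_expN [1, 8, 1, 8, 5, 8] rfl
      have h3 := M.eq_of_ceq (show ceq (expN [1, 8, 1, 8, 5, 8] ++ wF) [] = true by decide +kernel)
        (letters9_append h2 rfl) rfl
      rw [ev_append, ← h1] at h3
      rw [show ([7, 1, 8, 1, 8, 5, 8, 3, 7, 2] : List ℕ) = [7] ++ [1, 8, 1, 8, 5, 8] ++ [3, 7, 2] from rfl,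
        ev_append, ev_append]
      calc ev R.eN [3, 7, 2] * (ev R.eN [1, 8, 1, 8, 5, 8] * ev R.eN [7])
          = S.A.j * R.x⁻¹ * S.A.j⁻¹ * ev R.eN [1, 8, 1, 8, 5, 8] * R.x⁻¹ := by simp [ev, eN, mul_assoc]
        _ = R.x * (ev M.el wF * ev R.eN [1, 8, 1, 8, 5, 8]) * R.x⁻¹ := by rw [R.twist]; group
        _ = 1 := by rw [h3]; simp [ev]
    · exact R.five
    · exact R.rot_rel _ _ rfl rfl (by decide +kernel)
    · exact R.rot_rel _ _ rfl rfl (by decide +kernel)
    · exact R.five2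

theorem inv_N : ∀ a < tabN.k, R.eN (tabN.invl a) * R.eN a = 1 := by
  intro n hn
  change n < 11 at hn
  interval_cases n <;> simp [eN, Data.invl, tabN, M.hb]

/-- The subgroup `⟨i, a, x⟩`. -/
def S0 : Subgroup G := closure {S.A.i, M.a, R.x}

/-- The elements of `S0`. -/
theorem S0_form {g : G} (hg : g ∈ R.S0) :
    ∃ (v : Fin 64) (k : ℕ), v.val / 8 % 2 = 0 ∧ v.val / 32 % 2 = 0 ∧ g = M.cl v * R.x ^ k := by
  have step : ∀ (v : Fin 64) (k : ℕ) (l : ℕ), l < 9 → ((List.finRange 64).any fun u =>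
      u.val / 8 % 2 == 0 && u.val / 32 % 2 == 0 && ceq (clw u) (clw v ++ [l])) = true →
      ∃ (u : Fin 64) (k' : ℕ), u.val / 8 % 2 = 0 ∧ u.val / 32 % 2 = 0 ∧
        M.el l * (M.cl v * R.x ^ k) = M.cl u * R.x ^ k' := by
    intro v k l hl h
    simp only [List.any_eq_true, Bool.and_eq_true, beq_iff_eq] at h
    obtain ⟨u, -, ⟨h1, h2⟩, h3⟩ := h
    refine ⟨u, k, h1, h2, ?_⟩
    rw [cl, cl, M.eq_of_ceq h3 (clw_ok u).1 (letters9_append (clw_ok v).1 (by simp [letters9, hl])), ev_append]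
    simp [ev, mul_assoc]
  have xstep : ∀ (v : Fin 64) (k : ℕ), v.val / 8 % 2 = 0 → v.val / 32 % 2 = 0 →
      ∃ (u : Fin 64) (k' : ℕ), u.val / 8 % 2 = 0 ∧ u.val / 32 % 2 = 0 ∧
        R.x * (M.cl v * R.x ^ k) = M.cl u * R.x ^ k' := fun v k h1 h2 =>
    ⟨imgc v, k + 1, (S0_mem v h1 h2).2.2.2.2.1, (S0_mem v h1 h2).2.2.2.2.2.1, by
      rw [R.rot.conj_imgc M, pow_succ' R.x k]; group⟩
  induction hg using closure_induction_left with
  | one => exact ⟨0, 0, rfl, rfl, by simp [M.cl_zero]⟩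
  | mul_left y hy z _ ih =>
    obtain ⟨v, k, h1, h2, rfl⟩ := ih
    rcases hy with rfl | rfl | rfl
    · simpa [el] using step v k 0 (by omega) (S0_mem v h1 h2).1
    · simpa [el] using step v k 6 (by omega) (S0_mem v h1 h2).2.2.1
    · exact xstep v k h1 h2
  | inv_mul_cancel y hy z _ ih =>
    obtain ⟨v, k, h1, h2, rfl⟩ := ih
    rcases hy with rfl | rfl | rfl
    · simpa [el] using step v k 1 (by omega) (S0_mem v h1 h2).2.1
    · simpa [el] using step v k 7 (by omega) (S0_mem v h1 h2).2.2.2.1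
    · obtain ⟨u, k', g1, g2, e⟩ := xstep v k h1 h2
      obtain ⟨u', k'', g1', g2', e'⟩ := xstep u k' g1 g2
      refine ⟨u', k'', g1', g2', ?_⟩
      rw [← e', ← e, inv_eq_of_mul_eq_one_right (show R.x * (R.x * R.x) = 1 by rw [← mul_assoc, R.hx])]
      group

theorem ee_mem_S0 {e : Fin 16} (h : R.ee e ∈ R.S0) : e.val < 4 := by
  obtain ⟨v, k, h1, h2, hv⟩ := R.S0_form h
  have hk : R.x ^ k = 1 := by
    have hxk : Commute (R.x ^ k) S.z := by
      have h' := ((M.cl_commute v).1.inv_left).mul_left (M.cl_commute (clE e)).1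
      rwa [show M.cl (clE e) = M.cl v * R.x ^ k from hv, inv_mul_cancel_left] at h'
    have hx3 : R.x ^ 3 = 1 := by rw [pow_succ, pow_succ, pow_one]; exact R.hx
    have hkm : R.x ^ k = R.x ^ (k % 3) := by
      conv_lhs => rw [← Nat.div_add_mod k 3, pow_add, pow_mul, hx3, one_pow, one_mul]
    rw [hkm] at hxk ⊢
    have hne : ∀ u w : Fin 32, S.q u = S.q w → u ≠ w → False := fun u w h h' => h' (S.q_inj h)
    have hk3 := Nat.mod_lt k (show 3 > 0 by omega)
    interval_cases k % 3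
    · simp
    · exfalso
      rw [pow_one] at hxk
      have := R.rot.hz
      rw [hxk.eq, mul_inv_cancel_right, ← S.q_z] at this
      exact hne qz qt this (by decide)
    · exfalso
      have := R.rot.ht
      rw [← R.rot.hz, show R.x * (R.x * S.z * R.x⁻¹) * R.x⁻¹ = R.x ^ 2 * S.z * (R.x ^ 2)⁻¹ by rw [pow_two]; group,
        hxk.eq, mul_inv_cancel_right, R.rot.hz] at this
      have hzt : S.t * S.z = S.q qzt := by
        rw [Base.t, ← S.q_z, S.q_mul]; rfl
      rw [hzt, ← S.q_z] at this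
      exact hne qz qzt this (by decide)
  rw [hk, mul_one] at hv
  have hc := M.ceq_of_eq hv (clw_ok _).1 (clw_ok _).1
  simpa [hc] using List.all_eq_true.1 (S0_mem v h1 h2).2.2.2.2.2.2 e (List.mem_finRange e)

/-- A word fixing all 120 cosets and centralising `E` is trivial. -/
theorem eq_one_of_table (w : List ℕ) (hw : ∀ n ∈ w, n < 11)
    (ht : ((List.range 120).all fun i => Nat.beq (tabN.tw w i) i) = true) (hE : ∀ e, wact w e = e) :
    ev R.eN w = 1 := by
  obtain ⟨e, he⟩ := R.mem_E fun e => by rw [R.conj_ev w hw, hE]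
  let base : G ⧸ R.S0 := ((1 : G) : G ⧸ R.S0)
  have hbase : ∀ g, g ∈ R.S0 → g • base = base := fun g hg => by
    show ((g * 1 : G) : G ⧸ R.S0) = ((1 : G) : G ⧸ R.S0)
    rw [mul_one, QuotientGroup.eq]; simpa using hg
  have hsub : ∀ v ∈ seedN.subs, ev R.eN v • base = base := by
    intro v hv
    simp [seedN] at hv
    rcases hv with rfl | rfl | rfl <;> refine hbase _ (subset_closure ?_) <;> simp [ev, eN]
  have hseed := Deriv.target_fixes seedN_check R.eN base (fun a ha => by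
    rw [show seedN.invl a = tabN.invl a from (by decide +kernel : ∀ a < 11, seedN.invl a = tabN.invl a) a ha]
    exact R.inv_N a ha) R.rel_one hsub
  obtain ⟨φ, h0, hφ⟩ := exists_phi tabN_check R.eN base R.inv_N
    (fun v hv => R.rel_one v ((by decide +kernel : ∀ p ∈ tabN.loops, p.1 = true → p.2 ∈ seedN.rels) _ hv rfl))
    (fun v hv => by
      rcases (by decide +kernel : ∀ p ∈ tabN.loops, p.1 = false → p.2 = seedN.tgt ∨ p.2 ∈ seedN.subs) _ hv rfl
        with h | h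
      · rw [show v = seedN.tgt from h]; exact hseed
      · exact hsub v h)
  have key : ∀ u, (∀ n ∈ u, n < 11) → ∀ i < 120, ev R.eN u • φ i = φ (tabN.tw u i) ∧ tabN.tw u i < 120 := by
    intro u
    induction u with
    | nil => exact fun _ i hi => ⟨one_smul _ _, hi⟩
    | cons a u ih =>
      intro hu i hi
      have ha := hu a List.mem_cons_self
      have hlt : tabN.act a i < 120 := by
        have h := tabN_check
        unfold Data.check at h
        simp only [Bool.and_eq_true] at h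
        exact (permFacts h.1).act_lt_n a ha i hi
      obtain ⟨h1, h2⟩ := ih (fun n hn => hu n (List.mem_cons_of_mem a hn)) (tabN.act a i) hlt
      exact ⟨by rw [ev, mul_smul, hφ a ha i hi, h1]; rfl, h2⟩
  rw [← he]
  by_contra hne
  have he0 : e ≠ 0 := fun h => hne (by rw [h, R.ee_zero])
  obtain ⟨n, hn⟩ := core_E e he0
  let u : List ℕ := wpow [10, 7] n.val
  let p : List ℕ := wpow [6, 9] n.val
  have hu : ∀ m ∈ u, m < 11 := (by decide +kernel : ∀ n : Fin 3, ∀ m ∈ wpow [10, 7] n.val, m < 11) n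
  have hp : ∀ m ∈ p, m < 11 := (by decide +kernel : ∀ n : Fin 3, ∀ m ∈ wpow [6, 9] n.val, m < 11) n
  obtain ⟨h1, h2⟩ := key u hu 0 (by omega)
  have hfix : ev R.eN w • φ (tabN.tw u 0) = φ (tabN.tw u 0) := by
    rw [(key w hw _ h2).1, Nat.eq_of_beq_eq_true (List.all_eq_true.1 ht _ (List.mem_range.2 h2))]
  rw [← h1, h0, ← he] at hfix
  have hup : ev R.eN u = (ev R.eN p)⁻¹ := by
    simp only [u, p, ev_wpow, ← inv_pow]
    congr 1
    simp [ev, eN]
  have hmem : ev R.eN p * R.ee e * (ev R.eN p)⁻¹ ∈ R.S0 := by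
    have h' : ((ev R.eN u)⁻¹ * (R.ee e * ev R.eN u)) • base = base := by
      rw [mul_smul, mul_smul, hfix, inv_smul_smul]
    have h'' := h'.symm
    change ((1 : G) : G ⧸ R.S0) = (((ev R.eN u)⁻¹ * (R.ee e * ev R.eN u)) * 1 : G) at h''
    rw [QuotientGroup.eq, hup] at h''
    simpa [mul_assoc] using h''
  rw [R.conj_ev p hp] at hmem
  exact absurd (R.ee_mem_S0 hmem) (by simp only [p]; omega)

/-- The element `y = x c b c x`. -/
def y : G := R.x * S.A.c * M.b * S.A.c * R.x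

theorem cc_b : S.A.c * S.B.c * M.b = S.A.c * M.b * S.A.c := by
  rw [← M.bcb]; simp [mul_assoc, M.hb]

theorem ev_y : ev R.eN [6, 8, 9, 6] = R.y := by
  simp only [ev, eN, y, List.getD_cons_succ, List.getD_cons_zero, one_mul]
  rw [show R.x * (S.A.c * S.B.c) * M.b * R.x = R.x * (S.A.c * S.B.c * M.b) * R.x by group, cc_b]
  group

theorem conj_y_z : R.y * S.z * R.y⁻¹ = M.b := by
  have h := R.eq_one_of_table [8, 7, 10, 8, 7, 0, 0, 6, 8, 9, 6] (by simp) (by decide +kernel) (by decide +kernel)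
  rw [show ([8, 7, 10, 8, 7, 0, 0, 6, 8, 9, 6] : List ℕ) = [8] ++ [7, 10, 8, 7] ++ [0, 0] ++ [6, 8, 9, 6] from rfl,
    ev_append, ev_append, ev_append, R.ev_y] at h
  have hy : ev R.eN [7, 10, 8, 7] = R.y⁻¹ := by
    rw [← R.ev_y]; simp [ev, eN, M.b_inv, mul_assoc]
  rw [hy, ← mul_assoc, ← mul_assoc, show ev R.eN [0, 0] = S.z by simp [ev, eN, S.A.hii],
    show ev R.eN [8] = M.b by simp [ev, eN]] at h
  exact (mul_eq_one_iff_eq_inv.1 h).trans M.b_inv

/-- The conjugate of `c d` under `y⁻¹`. -/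
def cz : G := S.z * S.A.j * (S.A.c * S.B.c)

theorem conj_y_cz : R.y * cz (S := S) * R.y⁻¹ = S.A.c * S.B.c := by
  have h := R.eq_one_of_table [10, 7, 10, 8, 7, 9, 2, 0, 0, 6, 8, 9, 6] (by simp) (by decide +kernel)
    (by decide +kernel)
  rw [show ([10, 7, 10, 8, 7, 9, 2, 0, 0, 6, 8, 9, 6] : List ℕ) =
      [10] ++ [7, 10, 8, 7] ++ [9, 2, 0, 0] ++ [6, 8, 9, 6] from rfl,
    ev_append, ev_append, ev_append, R.ev_y] at h
  have hy : ev R.eN [7, 10, 8, 7] = R.y⁻¹ := by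
    rw [← R.ev_y]; simp [ev, eN, M.b_inv, mul_assoc]
  rw [hy, ← mul_assoc, ← mul_assoc, show ev R.eN [9, 2, 0, 0] = cz (S := S) by
      simp [ev, eN, cz, S.A.hii, mul_assoc], show ev R.eN [10] = (S.A.c * S.B.c)⁻¹ by simp [ev, eN]] at h
  exact mul_inv_eq_one.1 h

/-- `j x⁻¹ (c d) x j⁻¹`. -/
def q : G := S.A.j * R.x⁻¹ * (S.A.c * S.B.c) * R.x * S.A.j⁻¹

theorem cc_q : Commute (S.A.c * S.B.c) R.q := by
  have h := R.eq_one_of_table [3, 6, 10, 7, 2, 10, 3, 6, 9, 7, 2, 9] (by simp) (by decide +kernel)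
    (by decide +kernel)
  have e : ev R.eN [3, 6, 10, 7, 2, 10, 3, 6, 9, 7, 2, 9] =
      (S.A.c * S.B.c) * R.q * (S.A.c * S.B.c)⁻¹ * R.q⁻¹ := by
    simp [ev, eN, q, mul_assoc]
  rw [e, mul_inv_eq_one] at h
  exact mul_inv_eq_iff_eq_mul.1 h

end Rot

end Amal

end Cfsg.Agent.UFourThreeType
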