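import Cfsg.Agent.Lib.UFourThreeType.Rot
import Cfsg.Agent.Lib.Involution.Basic

/-!
# One class of involutions

* `Amal.Rot.conj_z` : every involution of the centraliser is conjugate to `z`;
* `isConj_of_involutions` : a group of type `U₄(3)` has one class of involutions.
-/

set_option autoImplicit false
set_option linter.unusedSectionVars false

open Subgroup

namespace Cfsg.Agent.UFourThreeType

open CosetEnum CosetEnum.Data

/-- Representatives of the classes of involutions of the centraliser. -/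
def involRep (k : Fin 4) : List ℕ :=
  [wz, wt, imgw vaF vbF 8, imgw vaF vbF 12].getD k.val []

/-- A conjugating word for each involution of the centraliser. -/
def involCert : List (Fin 4 × List ℕ) := [
  (0, []),
  (1, []),
  (1, [5]),
  (1, [2, 5]),
  (1, [4]),
  (1, [2, 4]),
  (1, [2]),
  (1, [4, 8]),
  (1, [2, 4, 8]),
  (1, [4, 8, 4]),
  (1, [2, 4, 8, 4]),
  (1, [2, 4, 8, 5]),
  (1, [4, 8, 5]),
  (1, [2, 5, 8]),
  (1, [5, 8]),
  (1, [2, 5, 8, 4]),
  (1, [5, 8, 4]),
  (1, [5, 8, 5]),
  (1, [2, 5, 8, 5]),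
  (2, []),
  (2, [0, 6]),
  (2, [6]),
  (2, [0]),
  (2, [2, 6]),
  (2, [2]),
  (2, [5]),
  (2, [4]),
  (2, [4, 6]),
  (2, [5, 7]),
  (2, [6, 2]),
  (2, [0, 2]),
  (2, [0, 4, 7]),
  (2, [2, 5]),
  (2, [0, 5, 6]),
  (2, [4, 0]),
  (2, [4, 7]),
  (2, [5, 2]),
  (2, [6, 4]),
  (2, [0, 4]),
  (2, [6, 5]),
  (2, [0, 5]),
  (2, [5, 6]),
  (2, [2, 4]),
  (3, [6]),
  (3, []),
  (3, [0]),
  (3, [0, 6]),
  (3, [0, 2]),
  (3, [6, 2]),
  (3, [2, 6]),
  (3, [2]),
  (3, [6, 5]),
  (3, [5]),
  (3, [6, 4]),
  (3, [4]),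
  (3, [5, 2]),
  (3, [4, 0]),
  (3, [4, 8]),
  (3, [4, 7]),
  (3, [0, 4, 8]),
  (3, [0, 5]),
  (3, [0, 4]),
  (3, [4, 6]),
  (3, [0, 4, 7]),
  (3, [2, 5]),
  (3, [2, 4]),
  (3, [5, 6])]

/-- The codes of the involutions. -/
def involCodes : List ℕ :=
  [10, 47, 103, 119, 148, 150, 201, 247, 250, 317, 322, 510, 513, 597, 598, 702, 703, 934, 935, 9, 64, 78, 79, 109, 110, 136, 146, 497, 498, 502, 503, 539, 544, 578, 579, 657, 658, 664, 666, 751, 753, 820, 823, 48, 53, 202, 203, 298, 299, 303, 304, 364, 368, 405, 409, 551, 585, 592, 617, 627, 632, 682, 793, 951, 954, 980, 981]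

theorem involCert_codes : (involCert.map fun p => code (cjw p.2 (involRep p.1))) = involCodes := by
  decide +kernel

theorem involCert_letters : (involCert.all fun p => letters9 p.2) = true ∧
    (∀ k, letters9 (involRep k) = true) := by decide +kernel

theorem involCodes_all : ((List.finRange 32).all fun x => (List.finRange 3).all fun m =>
    (List.finRange 3).all fun n => (List.finRange 2).all fun e => (List.finRange 2).all fun f =>
      let w := nfw ((x, m, n), e, f)
      !Nat.beq (code (w ++ w)) (code []) || Nat.beq (code w) (code []) || involCodes.contains (code w)) = true := by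
  decide +kernel

theorem involRep_links : ceq (cjw [4, 8, 4] wt) (clw 8) = true ∧ ceq (cjw [4, 8, 5] wt) (clw 12) = true := by
  decide +kernel

theorem nfw_ok : ∀ u : NF, letters9 (nfw u) = true := by decide +kernel

namespace Amal

variable {G : Type*} [Group G] [Finite G] {S : Base G} {M : Amal S}

theorem isConj_cjw {u v : List ℕ} (hu : letters9 u = true) (h : IsConj S.z (ev M.el v)) :
    IsConj S.z (ev M.el (cjw u v)) := by
  rw [M.ev_cjw _ _ hu]
  exact h.trans (isConj_iff.2 ⟨_, rfl⟩)

theorem Rot.conj_rep (R : M.Rot) (k : Fin 4) : IsConj S.z (ev M.el (involRep k)) := by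
  have hwt : IsConj S.z (ev M.el wt) := by
    rw [M.ev_wt]; exact isConj_iff.2 ⟨R.x, R.rot.hz⟩
  have key : ∀ (v : Fin 64) (g : List ℕ), letters9 g = true → ceq (cjw g wt) (clw v) = true →
      IsConj S.z (ev M.el (imgw vaF vbF v)) := fun v g hg h => by
    rw [← R.rot.conj_cl M v, cl, ← M.eq_of_ceq h (letters9_cjw hg rfl) (clw_ok v).1]
    exact (isConj_cjw hg hwt).trans (isConj_iff.2 ⟨_, rfl⟩)
  fin_cases k
  · show IsConj S.z (ev M.el wz)
    rw [M.ev_wz]
  · exact hwt
  · exact key 8 _ rfl involRep_links.1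
  · exact key 12 _ rfl involRep_links.2

/-- Every involution of the centraliser is a conjugate of a representative. -/
theorem Rot.exists_cert {g : G} (hg : Commute g S.z) (h2 : orderOf g = 2) :
    ∃ k p, letters9 p = true ∧ ev M.el (cjw p (involRep k)) = g := by
  obtain ⟨u, rfl⟩ := M.exists_nf hg
  obtain ⟨⟨x, m, n⟩, e, f⟩ := u
  set w := nfw ((x, m, n), e, f) with hw
  have hok : letters9 w = true := nfw_ok _
  have hsq : code (w ++ w) = code [] := (M.word_eq_iff _ _ (letters9_append hok hok) rfl).1 (by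
    rw [ev_append, ← sq, ← h2, pow_orderOf_eq_one]; rfl)
  have hne : code w ≠ code [] := fun h => by
    rw [(M.word_eq_iff _ _ hok rfl).2 h, show ev M.el [] = 1 from rfl, orderOf_one] at h2
    omega
  have h := involCodes_all
  simp only [List.all_eq_true, List.mem_finRange, true_implies, Bool.or_eq_true, Bool.not_eq_true',
    List.contains_eq_mem, decide_eq_true_eq, beq_iff, Bool.eq_false_iff, ne_eq] at h
  rcases h x m n e f with (h' | h') | h'
  · exact absurd hsq h'
  · exact absurd h' hne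
  · rw [← involCert_codes, List.mem_map] at h'
    obtain ⟨⟨k, p⟩, hp, he⟩ := h'
    have hpl : letters9 p = true := List.all_eq_true.1 involCert_letters.1 _ hp
    exact ⟨k, p, hpl, (M.word_eq_iff _ _ (letters9_cjw hpl (involCert_letters.2 k)) hok).2 he⟩

/-- Every involution of the centraliser is conjugate to `z`. -/
theorem Rot.conj_z (R : M.Rot) {g : G} (hg : Commute g S.z) (h2 : orderOf g = 2) : IsConj S.z g := by
  obtain ⟨k, p, hp, rfl⟩ := Rot.exists_cert hg h2 (M := M)
  exact isConj_cjw hp (R.conj_rep k)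

end Amal

/-- An involution is conjugate to `z`: otherwise some involution commutes with both. -/
theorem isConj_of_cent {G : Type*} [Group G] [Finite G] {z : G} (hz : orderOf z = 2)
    (h : ∀ g : G, Commute g z → orderOf g = 2 → IsConj z g) {u : G} (hu : orderOf u = 2) : IsConj z u := by
  by_contra hc
  obtain ⟨w, hw, hwz, hwu, -⟩ :=
    Involution.exists_commuting_involution hz hu (Involution.even_of_not_isConj hz hu hc)
  obtain ⟨g, hg⟩ := isConj_iff.1 (h w hwz hw)
  have hu' : Commute (g⁻¹ * u * g) z := by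
    have h1 : Commute (g⁻¹ * u * (g⁻¹)⁻¹) (g⁻¹ * w * (g⁻¹)⁻¹) := by
      have := hwu.symm.map (MulAut.conj g⁻¹).toMonoidHom
      simpa using this
    have e : g⁻¹ * w * (g⁻¹)⁻¹ = z := by rw [← hg]; group
    rw [e] at h1
    simpa using h1
  refine hc ((h _ hu' ?_).trans (isConj_iff.2 ⟨g, by group⟩))
  rw [show g⁻¹ * u * g = MulAut.conj g⁻¹ u by simp]
  rw [MulEquiv.orderOf_eq, hu]

/-- A group with the hypotheses in coordinates has one class of involutions. -/
theorem Base.isConj_involutions {G : Type*} [Group G] [Finite G] (S : Base G) {u v : G}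
    (hu : orderOf u = 2) (hv : orderOf v = 2) : IsConj u v := by
  obtain ⟨W⟩ := exists_swap S
  obtain ⟨M⟩ := W.exists_amal
  obtain ⟨R⟩ := M.exists_rot
  have h := fun (g : G) => R.conj_z (g := g)
  exact (isConj_of_cent S.hz h hu).symm.trans (isConj_of_cent S.hz h hv)

end Cfsg.Agent.UFourThreeType
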