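import Cfsg.Agent.Lib.UFourThreeType.SLTwoThree

/-!
# The extraspecial group `Q₈ ∘ Q₈` of order 32 by bit codes

The code `e + 2 a₁ + 4 b₁ + 8 a₂ + 16 b₂` stands for `z^e i₁^a₁ j₁^b₁ i₂^a₂ j₂^b₂`.
-/

set_option autoImplicit false

namespace Cfsg.Agent.UFourThreeType

/-- The bit number `k` of a code. -/
def qbit (x : Fin 32) (k : ℕ) : ℕ := x.val / 2 ^ k % 2

/-- The code with given bits. -/
def qmk (e a b c d : ℕ) : Fin 32 :=
  ⟨e % 2 + 2 * (a % 2) + 4 * (b % 2) + 8 * (c % 2) + 16 * (d % 2), by omega⟩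

/-- The cocycle of a quaternion factor. -/
def qco (a b c d : ℕ) : ℕ := b * c + a * c + b * d

/-- Multiplication of codes. -/
def qm (x y : Fin 32) : Fin 32 :=
  qmk (qbit x 0 + qbit y 0 + qco (qbit x 1) (qbit x 2) (qbit y 1) (qbit y 2) +
      qco (qbit x 3) (qbit x 4) (qbit y 3) (qbit y 4))
    (qbit x 1 + qbit y 1) (qbit x 2 + qbit y 2) (qbit x 3 + qbit y 3) (qbit x 4 + qbit y 4)

/-- Inverse of a code: the element or its product with the centre. -/
def qinv (x : Fin 32) : Fin 32 := if qm x x = 0 then x else qm x 1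

/-- Codes of the generators. -/
abbrev qz : Fin 32 := 1
abbrev qi : Fin 32 := 2
abbrev qj : Fin 32 := 4
abbrev qI : Fin 32 := 8
abbrev qJ : Fin 32 := 16
/-- The involution `i₁ i₂`. -/
abbrev qt : Fin 32 := 10
/-- The involution `z i₁ i₂`. -/
abbrev qzt : Fin 32 := 11
/-- The involution `j₁ j₂`. -/
abbrev qjj : Fin 32 := 20

/-- Conjugation inside the code. -/
def qconj (x y : Fin 32) : Fin 32 := qm (qm x y) (qinv x)

/-- Commutator inside the code. -/
def qcom (x y : Fin 32) : Fin 32 := qm (qm x y) (qinv (qm y x))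

theorem qm_zero : ∀ x : Fin 32, qm x 0 = x ∧ qm 0 x = x := by decide +kernel

theorem qm_inv : ∀ x : Fin 32, qm x (qinv x) = 0 := by decide +kernel

theorem qbit_lt (x : Fin 32) (k : ℕ) : qbit x k < 2 := Nat.mod_lt _ two_pos

end Cfsg.Agent.UFourThreeType
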