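import Cfsg.Agent.Lib.UFourThreeType.RotBase

/-!
# The rotation `x` of `⟨z, t⟩`

`Amal.exists_rot` : some `x` of order 3 normalises `C(⟨z, t⟩)` with the final action and twist.
-/

set_option autoImplicit false
set_option linter.unusedSectionVars false

open Subgroup

namespace Cfsg.Agent.UFourThreeType

open CosetEnum CosetEnum.Data

theorem va_fixed : (vaList.all fun va => vbList.all fun vb => !rotOK va vb ||
    (List.finRange 64).all fun v => !ceq (imgw va vb v) (clw v) || v == 0) = true := by decide +kernel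

theorem va_final : (vaList.all fun va => vbList.all fun vb =>
    !(rotOK va vb && ceq (imgw va vb va) [0] && ceq (imgw va vb vb) wjj) || (va == vaF && vb == vbF)) = true := by
  decide +kernel

theorem cube_img : ((List.finRange 64).all fun u =>
    (l64.any fun l => ceq (cjw (clw u) [0]) (clw l ++ [0])) &&
    l64.any fun l => ceq (cjw (clw u) wjj) (clw l ++ wjj)) = true := by decide +kernel

theorem twist_final : ((List.finRange 64).all fun u =>
    !twistOK u || l64.any fun l => ceq (twistBy u l) wF) = true := by decide +kernel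

theorem shift_exists : (l64.all fun l => l64.all fun m => (List.finRange 64).any fun w =>
    ceq (cjw (clw w) [0]) ([0] ++ clw l) && ceq (cjw (clw w) wjj) (wjj ++ clw m)) = true := by decide +kernel

theorem twist_words : ceq (cjw [2] (clw vaF ++ wzt)) (cjw [2] [6, 0]) = true ∧
    ceq (cjw [2] (clw vbF)) (cjw [2] ([8] ++ wjj)) = true := by decide +kernel

namespace Base

variable {G : Type*} [Group G] [Finite G] (S : Base G)

omit [Finite G] in
theorem tzt : S.t * S.z * S.t = S.z := by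
  rw [← S.q_z, Base.t, S.q_mul, S.q_mul, show qm (qm qt qz) qt = qz by decide]

theorem zt_comm : S.z * S.t = S.t * S.z := ((S.commute_z_q qt).eq : S.t * S.z = S.z * S.t).symm

end Base

namespace Amal

variable {G : Type*} [Group G] [Finite G] {S : Base G} (M : Amal S)

/-- A shifted element with the images of `i` and `j₁j₂`. -/
theorem exists_shift : ∃ y : G, y * S.z * y⁻¹ = S.t ∧ y * S.t * y⁻¹ = S.t * S.z ∧
    y * S.A.i * y⁻¹ = M.a ∧ y * S.q qjj * y⁻¹ = M.b := by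
  obtain ⟨l, hl, hla⟩ := M.hla
  obtain ⟨m, hm, hmb⟩ := M.hlb
  set h := M.W.h
  have cq : ∀ u v : G, h * (u * v) * h⁻¹ = h * u * h⁻¹ * (h * v * h⁻¹) := fun u v => by group
  set x0 := h * S.A.j with hx0
  have cx : ∀ u, x0 * u * x0⁻¹ = h * (S.A.j * u * S.A.j⁻¹) * h⁻¹ := fun u => by rw [hx0]; group
  have cj : ∀ y, S.A.j * S.q y * S.A.j⁻¹ = S.q (qconj qj y) := fun y => by rw [← S.q_j, S.q_conj]
  have xz : x0 * S.z * x0⁻¹ = S.t := by
    rw [cx, show S.A.j * S.z * S.A.j⁻¹ = S.z by rw [S.A.j_z.eq, mul_inv_cancel_right], M.W.hz]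
  have xt : x0 * S.t * x0⁻¹ = S.t * S.z := by
    rw [cx, Base.t, cj, show qconj qj qt = qm qz qt by decide, ← S.q_mul, cq, S.q_z, M.W.hz]
    exact congrArg (S.t * ·) M.W.ht
  have xi : x0 * S.A.i * x0⁻¹ = S.q (qm qt l) * M.a := by
    rw [cx, ← S.q_i, cj, show qconj qj qi = qm qz qi by decide, ← S.q_mul, cq, S.q_z, M.W.hz, hla,
      ← mul_assoc (S.q (qm qt l)),
      S.q_mul, show qm (qm qt l) l = qt from (by decide +kernel : ∀ l, isL l = true → qm (qm qt l) l = qt) l hl]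
    rfl
  have xj : x0 * S.q qjj * x0⁻¹ = S.q m * M.b := by
    rw [cx, cj, show qconj qj qjj = qjj by decide, hmb, ← mul_assoc (S.q m), S.q_mul,
      (by decide +kernel : ∀ l, isL l = true → qm l l = 0) m hm, S.q_zero, one_mul]
    rfl
  -- the lattice `L` is rotated
  have xL : ∀ y, isL y = true → ∃ y', isL y' = true ∧ x0 * S.q y' * x0⁻¹ = S.q y := by
    intro y hy
    simp only [isL, Bool.or_eq_true, beq_iff_eq] at hy
    rcases hy with ((rfl | rfl) | rfl) | rfl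
    · exact ⟨0, by decide, by rw [S.q_zero]; simp⟩
    · refine ⟨qzt, by decide, ?_⟩
      rw [show qzt = qm qz qt by decide, ← S.q_mul, show x0 * (S.q qz * S.q qt) * x0⁻¹ =
        x0 * S.q qz * x0⁻¹ * (x0 * S.q qt * x0⁻¹) by group, S.q_z, xz, show S.q qt = S.t from rfl, xt,
        ← mul_assoc, show S.t * S.t = S.q (qm qt qt) from S.q_mul _ _, show qm qt qt = 0 by decide, S.q_zero,
        one_mul]
    · exact ⟨qz, by decide, by rw [S.q_z, xz]; rfl⟩
    · refine ⟨qt, by decide, ?_⟩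
      rw [show S.q qt = S.t from rfl, xt, Base.t, ← S.q_z, S.q_mul, show qm qt qz = qzt by decide]
  obtain ⟨l1, hl1, e1⟩ := xL (qm qt l) ((by decide +kernel : ∀ l, isL l = true → isL (qm qt l) = true) l hl)
  obtain ⟨m1, hm1, f1⟩ := xL m hm
  obtain ⟨L1, hL1, hL1'⟩ := l64_cases l1 hl1
  obtain ⟨M1, hM1, hM1'⟩ := l64_cases m1 hm1
  have hs := List.all_eq_true.1 (List.all_eq_true.1 shift_exists L1 hL1) M1 hM1
  simp only [List.any_eq_true, Bool.and_eq_true] at hs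
  obtain ⟨w, -, hw1, hw2⟩ := hs
  have w1 : M.cl w * S.A.i * (M.cl w)⁻¹ = S.q l1 * S.A.i := by
    have h := M.eq_of_ceq hw1 (letters9_cjw (clw_ok w).1 rfl) (letters9_append rfl (clw_ok L1).1)
    rwa [M.ev_cjw _ _ (clw_ok w).1, M.ev0, ev_append, M.ev0, show ev M.el (clw L1) = S.q l1 from M.cl_qword hL1'] at h
  have w2 : M.cl w * S.q qjj * (M.cl w)⁻¹ = S.q m1 * S.q qjj := by
    have h := M.eq_of_ceq hw2 (letters9_cjw (clw_ok w).1 rfl) (letters9_append rfl (clw_ok M1).1)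
    rwa [M.ev_cjw _ _ (clw_ok w).1, M.ev_wjj, ev_append, M.ev_wjj,
      show ev M.el (clw M1) = S.q m1 from M.cl_qword hM1'] at h
  have cy : ∀ u, x0 * M.cl w * u * (x0 * M.cl w)⁻¹ = x0 * (M.cl w * u * (M.cl w)⁻¹) * x0⁻¹ := fun u => by group
  have dx : ∀ u v : G, x0 * (u * v) * x0⁻¹ = x0 * u * x0⁻¹ * (x0 * v * x0⁻¹) := fun u v => by group
  have qsq : ∀ y, isL y = true → S.q y * S.q y = 1 := fun y hy => by
    rw [S.q_mul, (by decide +kernel : ∀ l, isL l = true → qm l l = 0) y hy, S.q_zero]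
  refine ⟨x0 * M.cl w, ?_, ?_, ?_, ?_⟩
  · rw [cy, (M.cl_commute w).1.eq, mul_inv_cancel_right, xz]
  · rw [cy, (M.cl_commute w).2.eq, mul_inv_cancel_right, xt]
  · rw [cy, w1, dx, e1, xi, ← mul_assoc,
      qsq _ ((by decide +kernel : ∀ l, isL l = true → isL (qm qt l) = true) l hl), one_mul]
  · rw [cy, w2, dx, f1, xj, ← mul_assoc, qsq _ hm, one_mul]

theorem commute_of_conj {y u v g : G} (h : y * u * y⁻¹ = v) (hc : Commute g u) : Commute (y * g * y⁻¹) v := by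
  rw [← h]; exact hc.map (MulAut.conj y).toMonoidHom

/-- The final images. -/
theorem exists_isRot : ∃ y : G, y * y * y = 1 ∧ M.IsRot y vaF vbF := by
  obtain ⟨y, hz, ht, hi, hj⟩ := M.exists_shift
  have tz := S.tzt
  have dy : ∀ u v : G, y * (u * v) * y⁻¹ = y * u * y⁻¹ * (y * v * y⁻¹) := fun u v => by group
  have ytz : y * (S.t * S.z) * y⁻¹ = S.z := by rw [dy, hz, ht, tz]
  have key : ∀ g, Commute g S.z → Commute g S.t →
      Commute (y * g * y⁻¹) S.z ∧ Commute (y * g * y⁻¹) S.t :=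
    fun g gz gt => ⟨commute_of_conj ytz (gt.mul_right gz), commute_of_conj hz gz⟩
  obtain ⟨va, hva⟩ := M.exists_cl (key _ M.az M.at').1 (key _ M.az M.at').2
  obtain ⟨vb, hvb⟩ := M.exists_cl (key _ M.bz M.bt).1 (key _ M.bz M.bt).2
  have R : M.IsRot y va vb := ⟨hz, ht, hi, hj, hva.symm, hvb.symm⟩
  have ev_va : ev M.el (clw va) = y * M.a * y⁻¹ := hva
  have ev_vb : ev M.el (clw vb) = y * M.b * y⁻¹ := hvb
  have hcom : ∀ p q r : G, p * q * p⁻¹ * q⁻¹ = r →
      y * p * y⁻¹ * (y * q * y⁻¹) * (y * p * y⁻¹)⁻¹ * (y * q * y⁻¹)⁻¹ = y * r * y⁻¹ :=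
    fun p q r h => by rw [← h]; group
  have L8 : letters9 [8] = true := rfl
  have L6 : letters9 [6] = true := rfl
  have ok := fun v => (clw_ok v).1
  have hqq : qm qjj (nlift UFourThreeType.actA (qinv qjj)) = qzt := by decide +kernel
  have hva_mem : va ∈ vaList := by
    simp only [vaList, List.mem_filter, List.mem_finRange, true_and, Bool.and_eq_true]
    refine ⟨⟨?_, ?_⟩, ?_⟩
    · refine M.ceq_of_eq ?_ (letters9_append (ok va) (ok va)) rfl
      rw [ev_append, ev_va, M.ev_wzt, ← dy, M.ha, ht, S.zt_comm]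
    · refine M.ceq_of_eq ?_ (letters9_cmw L6 (ok va)) rfl
      rw [M.ev_cmw _ _ L6 (ok va), M.ev6, ev_va]
      nth_rw 1 3 [← hi]
      have hc : M.a * S.A.i * M.a⁻¹ = S.A.i := by rw [← S.q_i, M.actA, actA_qI.2.1]
      rw [hcom S.A.i M.a 1 (by rw [show S.A.i * M.a * S.A.i⁻¹ * M.a⁻¹ = S.A.i * (M.a * S.A.i * M.a⁻¹)⁻¹ by group, hc, mul_inv_cancel])]
      simp [ev]
    · refine M.ceq_of_eq ?_ (letters9_cmw L8 (ok va)) rfl
      rw [M.ev_cmw _ _ L8 (ok va), M.ev8, ev_va, M.ev_wz]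
      nth_rw 1 2 [← hj]
      rw [hcom (S.q qjj) M.a (S.t * S.z) ?_, ytz]
      rw [show S.q qjj * M.a * (S.q qjj)⁻¹ * M.a⁻¹ = S.q qjj * (M.a * (S.q qjj)⁻¹ * M.a⁻¹) by group, ← S.q_inv,
        M.actA, S.q_mul, hqq, show qzt = qm qt qz by decide, ← S.q_mul, S.q_z]
      rfl
  have hvb_mem : vb ∈ vbList := by
    simp only [vbList, List.mem_filter, List.mem_finRange, true_and, Bool.and_eq_true]
    refine ⟨⟨?_, ?_⟩, ?_⟩
    · refine M.ceq_of_eq ?_ (letters9_append (ok vb) (ok vb)) rfl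
      rw [ev_append, ev_vb, ← dy, M.hb]
      simp [ev]
    · refine M.ceq_of_eq ?_ (letters9_cmw L6 (ok vb)) rfl
      rw [M.ev_cmw _ _ L6 (ok vb), M.ev6, ev_vb, M.ev_wz]
      nth_rw 1 2 [← hi]
      rw [hcom S.A.i M.b (S.t * S.z) ?_, ytz]
      rw [show S.A.i * M.b * S.A.i⁻¹ * M.b⁻¹ = S.A.i * (M.b * S.A.i⁻¹ * M.b⁻¹) by group, ← S.q_i, ← S.q_inv,
        M.actB, S.q_mul, show qm qi (nlift UFourThreeType.actB (qinv qi)) = qm qt qz by decide +kernel, ← S.q_mul, S.q_z]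
      rfl
    · refine M.ceq_of_eq ?_ (letters9_cmw L8 (ok vb)) rfl
      rw [M.ev_cmw _ _ L8 (ok vb), M.ev8, ev_vb]
      nth_rw 1 3 [← hj]
      rw [hcom (S.q qjj) M.b 1 ?_]
      · simp [ev]
      rw [show S.q qjj * M.b * (S.q qjj)⁻¹ * M.b⁻¹ = S.q qjj * (M.b * (S.q qjj)⁻¹ * M.b⁻¹) by group, ← S.q_inv,
        M.actB, S.q_mul, show qm qjj (nlift UFourThreeType.actB (qinv qjj)) = 0 by decide +kernel, S.q_zero]
  have y3z : Commute (y * y * y) S.z := by
    refine mul_inv_eq_iff_eq_mul.1 ?_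
    rw [show y * y * y * S.z * (y * y * y)⁻¹ = y * (y * (y * S.z * y⁻¹) * y⁻¹) * y⁻¹ by group, hz, ht, ytz]
  have y3t : Commute (y * y * y) S.t := by
    refine mul_inv_eq_iff_eq_mul.1 ?_
    rw [show y * y * y * S.t * (y * y * y)⁻¹ = y * (y * (y * S.t * y⁻¹) * y⁻¹) * y⁻¹ by group, ht, ytz, hz]
  obtain ⟨u, hu⟩ := M.exists_cl y3z y3t
  have hu' : ev M.el (clw u) = y * y * y := hu
  have himg : ∀ v, ev M.el (imgw va vb v) = y * M.cl v * y⁻¹ := fun v => (R.conj_cl M v).symm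
  have c3a : y * M.cl va * y⁻¹ = ev M.el (cjw (clw u) [0]) := by
    rw [M.ev_cjw _ _ (ok u), M.ev0, hu', hva, ← hi]; group
  have c3b : y * M.cl vb * y⁻¹ = ev M.el (cjw (clw u) wjj) := by
    rw [M.ev_cjw _ _ (ok u), M.ev_wjj, hu', hvb, ← hj]; group
  have hOK : rotOK va vb = true := by
    have hc := List.all_eq_true.1 cube_img u (List.mem_finRange u)
    simp only [List.any_eq_true, Bool.and_eq_true] at hc
    obtain ⟨⟨l, hl, hla⟩, ⟨m, hm, hmb⟩⟩ := hc
    simp only [rotOK, Bool.and_eq_true, List.any_eq_true]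
    refine ⟨⟨?_, l, hl, ?_⟩, m, hm, ?_⟩
    · refine M.ceq_of_eq ?_ (letters9_cmw (ok va) (ok vb)) rfl
      rw [M.ev_cmw _ _ (ok va) (ok vb), ev_va, ev_vb, M.ev_wzt, hcom M.a M.b S.t (by rw [M.hab]; group), ht,
        S.zt_comm]
    · refine M.ceq_of_eq ?_ (imgw_ok _ _ _) (letters9_append (ok l) rfl)
      rw [himg, c3a, M.eq_of_ceq hla (letters9_cjw (ok u) rfl) (letters9_append (ok l) rfl)]
    · refine M.ceq_of_eq ?_ (imgw_ok _ _ _) (letters9_append (ok m) rfl)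
      rw [himg, c3b, M.eq_of_ceq hmb (letters9_cjw (ok u) rfl) (letters9_append (ok m) rfl)]
  have hu0 : u = 0 := by
    have hf := List.all_eq_true.1 (List.all_eq_true.1 va_fixed va hva_mem) vb hvb_mem
    simp only [hOK, Bool.not_true, Bool.false_or, List.all_eq_true, List.mem_finRange, true_implies] at hf
    have hfix : ceq (imgw va vb u) (clw u) = true := by
      refine M.ceq_of_eq ?_ (imgw_ok _ _ _) (ok u)
      rw [himg, hu', hu]; group
    simpa [hfix] using hf u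
  subst hu0
  have y3 : y * y * y = 1 := hu.symm.trans M.cl_zero
  have f1 : ceq (imgw va vb va) [0] = true := by
    refine M.ceq_of_eq ?_ (imgw_ok _ _ _) rfl
    rw [himg, c3a, M.ev_cjw _ _ (ok 0), hu', y3]; group
  have f2 : ceq (imgw va vb vb) wjj = true := by
    refine M.ceq_of_eq ?_ (imgw_ok _ _ _) rfl
    rw [himg, c3b, M.ev_cjw _ _ (ok 0), hu', y3]; group
  have hfin := List.all_eq_true.1 (List.all_eq_true.1 va_final va hva_mem) vb hvb_mem
  simp only [hOK, f1, f2, Bool.and_self, Bool.not_true, Bool.false_or, Bool.and_eq_true, beq_iff_eq] at hfin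
  obtain ⟨rfl, rfl⟩ := hfin
  exact ⟨y, y3, R⟩

include M in
theorem exists_rot : Nonempty M.Rot := by
  obtain ⟨y, y3, R⟩ := M.exists_isRot
  have tz := S.tzt
  have ok := fun v => (clw_ok v).1
  have dy : ∀ u v : G, y * (u * v) * y⁻¹ = y * u * y⁻¹ * (y * v * y⁻¹) := fun u v => by group
  have ytz : y * (S.t * S.z) * y⁻¹ = S.z := by rw [dy, R.hz, R.ht, tz]
  have jz : S.A.j * S.z * S.A.j⁻¹ = S.z := by rw [S.A.j_z.eq, mul_inv_cancel_right]
  have jt : S.A.j * S.t * S.A.j⁻¹ = S.t * S.z := by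
    rw [← S.q_j, Base.t, S.q_conj, ← S.q_z, S.q_mul, show qconj qj qt = qm qt qz by decide]
  have dj : ∀ u v : G, S.A.j * (u * v) * S.A.j⁻¹ = S.A.j * u * S.A.j⁻¹ * (S.A.j * v * S.A.j⁻¹) :=
    fun u v => by group
  have jtz : S.A.j * (S.t * S.z) * S.A.j⁻¹ = S.t := by
    rw [dj, jt, jz, mul_assoc, S.zz, mul_one]
  have yi : ∀ g g' : G, y * g * y⁻¹ = g' → y⁻¹ * g' * y = g := fun g g' h => by rw [← h]; group
  have ji : ∀ g g' : G, S.A.j * g * S.A.j⁻¹ = g' → S.A.j⁻¹ * g' * S.A.j = g := fun g g' h => by rw [← h]; group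
  set U := y⁻¹ * (S.A.j * y⁻¹ * S.A.j⁻¹) with hU
  have cU : ∀ g, U * g * U⁻¹ = y⁻¹ * (S.A.j * (y⁻¹ * (S.A.j⁻¹ * g * S.A.j) * y) * S.A.j⁻¹) * y := fun g => by
    rw [hU]; group
  have hUz : Commute U S.z := mul_inv_eq_iff_eq_mul.1 (by
    rw [cU, ji _ _ jz, yi _ _ ytz, jtz, yi _ _ R.hz])
  have hUt : Commute U S.t := mul_inv_eq_iff_eq_mul.1 (by
    rw [cU, ji _ _ jtz, yi _ _ R.ht, jt, yi _ _ R.ht])
  obtain ⟨u, hu⟩ := M.exists_cl hUz hUt
  have hu' : ev M.el (clw u) = U := hu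
  have jU : S.A.j * y⁻¹ * S.A.j⁻¹ = y * U := by rw [hU]; group
  have L2 : letters9 [2] = true := rfl
  have yU : ∀ g, y * (U * g * U⁻¹) * y⁻¹ = S.A.j * (y⁻¹ * (S.A.j⁻¹ * g * S.A.j) * y) * S.A.j⁻¹ := fun g => by
    rw [cU]; group
  have conjU : ∀ w, letters9 w = true → ∀ g, ev M.el w = g → Commute g S.z → Commute g S.t →
      ev M.el (imgw vaF vbF (clc (cjw (clw u) w))) = S.A.j * (y⁻¹ * (S.A.j⁻¹ * g * S.A.j) * y) * S.A.j⁻¹ := by
    intro w hw g hg gz gt
    rw [← R.conj_cl M, M.clc_spec (g := U * g * U⁻¹) (letters9_cjw (ok u) hw)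
      (by rw [M.ev_cjw _ _ (ok u), hu', hg]) ((hUz.mul_left gz).mul_left hUz.inv_left)
      ((hUt.mul_left gt).mul_left hUt.inv_left), yU]
  have v1 : ∀ g, Commute g S.z → Commute g S.t → Commute (S.A.j * g * S.A.j⁻¹) S.z ∧
      Commute (S.A.j * g * S.A.j⁻¹) S.t := fun g gz gt =>
    ⟨commute_of_conj jz gz, commute_of_conj jtz (gt.mul_right gz)⟩
  have img2 : ∀ (w : List ℕ) (g : G), letters9 w = true → ev M.el w = g → Commute g S.z → Commute g S.t →
      ev M.el (clw (imgc (imgc (clc w)))) = y * (y * g * y⁻¹) * y⁻¹ := fun w g hw hg gz gt => by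
    show M.cl _ = _
    rw [R.conj_imgc M, R.conj_imgc M, M.clc_spec hw hg gz gt]
  have hOK : twistOK u = true := by
    simp only [twistOK, Bool.and_eq_true]
    refine ⟨⟨?_, ?_⟩, ?_⟩
    · refine M.ceq_of_eq ?_ (imgw_ok _ _ _) (letters9_cjw L2 rfl)
      rw [conjU [0] rfl _ M.ev0 S.A.i_z (by rw [← S.q_i]; exact S.commute_t_q (by decide)),
        ← M.eq_of_ceq twist_words.1 (letters9_cjw L2 (letters9_append (ok _) rfl)) (letters9_cjw L2 rfl),
        M.ev_cjw _ _ L2, M.ev2, ev_append, M.ev_wzt]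
      congr 2
      have h1 : S.A.j⁻¹ * S.A.i * S.A.j = S.z * S.A.i := by
        rw [← S.q_i, ← S.q_j, ← S.q_inv, S.q_mul, S.q_mul,
          show qm (qm (qinv qj) qi) qj = qm qz qi by decide, ← S.q_mul, S.q_z]
      have h2 : y * M.cl vaF * y⁻¹ = S.A.i := by
        rw [R.conj_cl M, M.eq_of_ceq (show ceq (imgw vaF vbF vaF) [0] = true by decide +kernel)
          (imgw_ok _ _ _) rfl, M.ev0]
      rw [h1, show y⁻¹ * (S.z * S.A.i) * y = (y⁻¹ * S.z * y) * (y⁻¹ * S.A.i * y) by group, yi _ _ ytz,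
        yi _ _ h2, S.zt_comm]
      rfl
    · refine M.ceq_of_eq ?_ (imgw_ok _ _ _) (letters9_cjw L2 rfl)
      rw [conjU wjj rfl _ M.ev_wjj (S.commute_z_q _) (S.commute_t_q (by decide)),
        ← M.eq_of_ceq twist_words.2 (letters9_cjw L2 (ok _)) (letters9_cjw L2 rfl), M.ev_cjw _ _ L2, M.ev2]
      congr 2
      have h1 : S.A.j⁻¹ * S.q qjj * S.A.j = S.q qjj := by
        rw [← S.q_j, ← S.q_inv, S.q_mul, S.q_mul, show qm (qm (qinv qj) qjj) qj = qjj by decide]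
      have h2 : y * M.cl vbF * y⁻¹ = S.q qjj := by
        rw [R.conj_cl M, M.eq_of_ceq (show ceq (imgw vaF vbF vbF) wjj = true by decide +kernel)
          (imgw_ok _ _ _) rfl, M.ev_wjj]
      rw [h1, yi _ _ h2]
      rfl
    · refine M.ceq_of_eq ?_ (letters9_append (ok u) (ok _)) rfl
      rw [ev_append, img2 _ (S.A.j * U⁻¹ * S.A.j⁻¹) (letters9_cjw L2 (letters9_winv (ok u)))
        (by rw [M.ev_cjw _ _ L2, M.ev2, M.ev_winv _ (ok u), hu']) (v1 _ hUz.inv_left hUt.inv_left).1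
        (v1 _ hUz.inv_left hUt.inv_left).2, hu', M.ev_wt]
      have hy2 : y * y = y⁻¹ := eq_inv_of_mul_eq_one_left y3
      have hjinv : S.A.j * S.A.j = S.z := S.A.hjj
      have hzi : S.z⁻¹ = S.z := inv_eq_of_mul_eq_one_right S.zz
      calc y * (y * (S.A.j * U⁻¹ * S.A.j⁻¹) * y⁻¹) * y⁻¹ * U
          = (y * y) * (S.A.j * U⁻¹ * S.A.j⁻¹) * (y * y)⁻¹ * U := by group
        _ = y⁻¹ * (S.A.j * U⁻¹ * S.A.j⁻¹) * y * U := by rw [hy2, inv_inv]
        _ = y⁻¹ * (S.A.j * S.A.j) * y * (S.A.j * S.A.j)⁻¹ := by rw [hU]; group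
        _ = y⁻¹ * S.z * y * S.z := by rw [hjinv, hzi]
        _ = S.t := by rw [yi _ _ ytz, mul_assoc, S.zz, mul_one]
  have hf := List.all_eq_true.1 twist_final u (List.mem_finRange u)
  simp only [hOK, Bool.not_true, Bool.false_or, List.any_eq_true] at hf
  obtain ⟨l, hl, hlw⟩ := hf
  have cl' := M.cl_commute l
  set x := M.cl l * y * M.cl l with hx
  have l2 : M.cl l * M.cl l = 1 := by
    rw [cl, ← ev_append, M.eq_of_ceq (l64_sq l hl) (letters9_append (ok l) (ok l)) rfl]; rfl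
  have li : (M.cl l)⁻¹ = M.cl l := inv_eq_of_mul_eq_one_right l2
  have cx : ∀ g v, Commute (M.cl l) g → y * g * y⁻¹ = v → Commute (M.cl l) v → x * g * x⁻¹ = v := by
    intro g v hg hv hv'
    rw [hx, show M.cl l * y * M.cl l * g * (M.cl l * y * M.cl l)⁻¹ =
      M.cl l * (y * (M.cl l * g * (M.cl l)⁻¹) * y⁻¹) * (M.cl l)⁻¹ by group, hg.eq, mul_inv_cancel_right, hv,
      hv'.eq, mul_inv_cancel_right]
  have cb : ∀ v, Commute (M.cl l) (M.cl v) := fun v => M.cl_L_commute hl v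
  refine ⟨⟨x, ?_, ⟨?_, ?_, ?_, ?_, ?_, ?_⟩, ?_⟩⟩
  · calc x * x * x = M.cl l * y * (M.cl l * M.cl l) * y * (M.cl l * M.cl l) * y * M.cl l := by rw [hx]; group
      _ = M.cl l * (y * y * y) * M.cl l := by rw [l2]; group
      _ = 1 := by rw [y3, mul_one, l2]
  · exact cx _ _ cl'.1 R.hz cl'.2
  · exact cx _ _ cl'.2 R.ht (cl'.2.mul_right cl'.1)
  · exact cx _ _ (M.cl_four ▸ cb 4) R.hi (M.cl_16 ▸ cb 16)
  · exact cx _ _ (M.cl_eight ▸ cb 8) R.hj (M.cl_32 ▸ cb 32)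
  · exact cx _ _ (M.cl_16 ▸ cb 16) R.ha (cb vaF)
  · exact cx _ _ (M.cl_32 ▸ cb 32) R.hb (cb vbF)
  · have hv := M.eq_of_ceq hlw (by
      simp only [twistBy]
      exact letters9_append (letters9_append (letters9_append (letters9_append (letters9_cjw L2 (ok l)) (ok u))
        (ok _)) (ok _)) (ok l)) rfl
    rw [← hv, twistBy, ev_append, ev_append, ev_append, ev_append,
      img2 _ (S.A.j * M.cl l * S.A.j⁻¹) (letters9_cjw L2 (ok l)) (by rw [M.ev_cjw _ _ L2, M.ev2]; rfl)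
        (v1 _ cl'.1 cl'.2).1 (v1 _ cl'.1 cl'.2).2,
      show ev M.el (clw (imgc (imgc l))) = y * (y * M.cl l * y⁻¹) * y⁻¹ from by
        show M.cl _ = _
        rw [R.conj_imgc M, R.conj_imgc M],
      M.ev_cjw _ _ L2, M.ev2, hu', show ev M.el (clw l) = M.cl l from rfl]
    have hy2 : y * y = y⁻¹ := eq_inv_of_mul_eq_one_left y3
    calc S.A.j * x⁻¹ * S.A.j⁻¹
        = S.A.j * (M.cl l)⁻¹ * S.A.j⁻¹ * (S.A.j * y⁻¹ * S.A.j⁻¹) * (S.A.j * (M.cl l)⁻¹ * S.A.j⁻¹) := by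
          rw [hx]; group
      _ = S.A.j * M.cl l * S.A.j⁻¹ * (y * U) * (S.A.j * M.cl l * S.A.j⁻¹) := by rw [li, jU]
      _ = M.cl l * (y * (M.cl l * M.cl l) * (y * y)) * (M.cl l * (S.A.j * M.cl l * S.A.j⁻¹)) * (y * y)⁻¹ * U *
          (S.A.j * M.cl l * S.A.j⁻¹) := by
          rw [l2, mul_one, ← mul_assoc y y y, y3, mul_one, ← mul_assoc (M.cl l) (M.cl l), l2, one_mul, hy2,
            inv_inv]
          group
      _ = _ := by rw [hx]; group

end Amal

end Cfsg.Agent.UFourThreeType
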