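import Cfsg.Agent.Lib.UFourThreeType.Code

/-!
# Codes for the centraliser of `⟨z, t⟩` and the rotation

A code `v : Fin 64` stands for `z^ t^ i^ (j₁j₂)^ a^ b^`, bits from the lowest.
-/

set_option autoImplicit false

namespace Cfsg.Agent.UFourThreeType

/-- Words of the six generators. -/
def wz : List ℕ := [0, 0]
/-- Word of `t`. -/
def wt : List ℕ := [8, 0, 8, 0]
/-- Word of `j₁ j₂`. -/
def wjj : List ℕ := [8, 2, 8, 2]
/-- Word of `z t`. -/
def wzt : List ℕ := wt ++ wz

/-- The product word of given images of the generators. -/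
def clmap (g : List (List ℕ)) (v : Fin 64) : List ℕ :=
  wpow (g.getD 5 []) (v.val / 32 % 2) ++ wpow (g.getD 4 []) (v.val / 16 % 2) ++
    wpow (g.getD 3 []) (v.val / 8 % 2) ++ wpow (g.getD 2 []) (v.val / 4 % 2) ++
    wpow (g.getD 1 []) (v.val / 2 % 2) ++ wpow (g.getD 0 []) (v.val % 2)

/-- The word of a code. -/
def clw (v : Fin 64) : List ℕ := clmap [wz, wt, [0], wjj, [6], [8]] v

/-- The image under the rotation with given images of `a`, `b`. -/
def imgw (va vb : Fin 64) (v : Fin 64) : List ℕ := clmap [wt, wzt, [6], [8], clw va, clw vb] v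

/-- The square of `u` and conjugation words. -/
def cjw (u v : List ℕ) : List ℕ := winv u ++ v ++ u

/-- Commutator word `u v u⁻¹ v⁻¹`. -/
def cmw (u v : List ℕ) : List ℕ := winv v ++ winv u ++ v ++ u

/-- Codes of `L`. -/
def l64 : List (Fin 64) := [0, 1, 2, 3]

/-- Code equality. -/
noncomputable def ceq (w v : List ℕ) : Bool := Nat.beq (code w) (code v)

/-- Candidates for the image of `a`. -/
noncomputable def vaList : List (Fin 64) := (List.finRange 64).filter fun v =>
  ceq (clw v ++ clw v) wzt && ceq (cmw [6] (clw v)) [] && ceq (cmw [8] (clw v)) wz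

/-- Candidates for the image of `b`. -/
noncomputable def vbList : List (Fin 64) := (List.finRange 64).filter fun v =>
  ceq (clw v ++ clw v) [] && ceq (cmw [6] (clw v)) wz && ceq (cmw [8] (clw v)) []

/-- Pairs compatible with a rotation. -/
noncomputable def rotOK (va vb : Fin 64) : Bool :=
  ceq (cmw (clw va) (clw vb)) wzt &&
    (l64.any fun l => ceq (imgw va vb va) (clw l ++ [0])) &&
    (l64.any fun l => ceq (imgw va vb vb) (clw l ++ wjj))

/-- The final image of `a`. -/
def vaF : Fin 64 := 1 + 2 + 4 + 16
/-- The final image of `b`. -/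
def vbF : Fin 64 := 8 + 32
/-- The final twist. -/
def wF : List ℕ := [8, 6] ++ wt

/-- The image of a code as a code. -/
noncomputable def imgc (v : Fin 64) : Fin 64 :=
  ((List.finRange 64).find? fun w => ceq (clw w) (imgw vaF vbF v)).getD 0

/-- The code of an element given by a word. -/
noncomputable def clc (w : List ℕ) : Fin 64 :=
  ((List.finRange 64).find? fun v => ceq (clw v) w).getD 0

/-- Conditions on the twist. -/
noncomputable def twistOK (u : Fin 64) : Bool :=
  ceq (imgw vaF vbF (clc (cjw (clw u) [0]))) (cjw [2] [6, 0]) &&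
    ceq (imgw vaF vbF (clc (cjw (clw u) wjj))) (cjw [2] ([8] ++ wjj)) &&
    ceq (clw u ++ clw (imgc (imgc (clc (cjw [2] (winv (clw u))))))) wt

/-- The twist after conjugating the rotation by an element of `L`. -/
noncomputable def twistBy (u l : Fin 64) : List ℕ :=
  cjw [2] (clw l) ++ clw u ++ clw (imgc (imgc (clc (cjw [2] (clw l))))) ++ clw (imgc (imgc l)) ++ clw l

end Cfsg.Agent.UFourThreeType
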