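import Cfsg.Agent.EqLemmas

/-!
# Generators of `SL(2,3)`

`si`, `sj` generate the quaternion subgroup, `sc` has order three and permutes `si`, `sj`, `si * sj`.
-/

set_option autoImplicit false

namespace Cfsg.Agent.UFourThreeType

/-- The group `SL(2,3)`. -/
abbrev SLT := Matrix.SpecialLinearGroup (Fin 2) (ZMod 3)

/-- First quaternion generator. -/
def si : SLT := ⟨!![0, 1; 2, 0], by decide⟩
/-- Second quaternion generator. -/
def sj : SLT := ⟨!![1, 1; 1, 2], by decide⟩
/-- The element of order three. -/
def sc : SLT := ⟨!![0, 1; 2, 2], by decide⟩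

theorem si_sq_ne : si * si ≠ 1 := by decide
theorem sj_sq : sj * sj = si * si := by decide
theorem si_four : si * si * (si * si) = 1 := by decide
theorem sj_si : sj * si = si * sj * (si * si) := by decide
theorem sc_three : sc * sc * sc = 1 := by decide
theorem sc_si : sc * si = sj * sc := by decide
theorem sc_sj : sc * sj = si * sj * sc := by decide

/-- Normal form `i^a j^b c^m`. -/
def sword (p : Fin 4 × Fin 2 × Fin 3) : SLT := si ^ (p.1 : ℕ) * sj ^ (p.2.1 : ℕ) * sc ^ (p.2.2 : ℕ)

theorem sword_surjective : ∀ A : SLT, ∃ p, sword p = A := by decide +kernel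

theorem eq_of_sq : ∀ A : SLT, A * A = 1 → A = 1 ∨ A = si * si := by decide +kernel

end Cfsg.Agent.UFourThreeType
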