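import Cfsg.Agent.Lib.UFourThreeType.ActCode
import Cfsg.Agent.Lib.UFourThreeType.Hyp

/-!
# An element exchanging `z` and `t = i₁ i₂`

* `exists_swap` : some `h` exchanges them, and `Q ∩ Q^h = ⟨z, t⟩`;
* `Swap.cover` : `C(z) = K ⟨i', j'⟩`, with unique coordinates.
-/

set_option autoImplicit false

open Subgroup

namespace Cfsg.Agent.UFourThreeType

variable {G : Type*} [Group G] [Finite G]

theorem conj_to_t : ∀ x : Fin 32, x ≠ 0 → x ≠ qz → qm x x = 0 →
    ∃ m n : Fin 3, ∃ y : Fin 32, qconj y (cmapAB m n x) = qt := by decide +kernel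

theorem center_or_com : ∀ y : Fin 32, isR y = true → y ≠ 0 → y ≠ qt →
    y = qz ∨ y = qzt ∨ ∃ r : Fin 32, isR r = true ∧ qcom r y = qz := by decide +kernel

theorem isL_closed : ∀ y : Fin 32, isL y = false → y ≠ 0 ∧ y ≠ qz ∧ y ≠ qt ∧ y ≠ qzt := by decide +kernel

theorem fix_t : ∀ p : Fin 32 × Fin 3 × Fin 3,
    qconj p.1 (cmapAB p.2.1 p.2.2 qt) = qt → p.2 = (0, 0) ∧ isR p.1 = true := by decide +kernel

namespace Base

variable (S : Base G)

theorem q_inj : Function.Injective S.q := fun x y h => by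
  have h' : S.k (x, 0, 0) = S.k (y, 0, 0) := by simpa [Frame.k] using h
  exact congrArg Prod.fst (S.k_inj h')

theorem commute_z_q (x : Fin 32) : Commute (S.q x) S.z := by
  rw [← S.q_z]
  show S.q x * S.q qz = S.q qz * S.q x
  rw [S.q_mul, S.q_mul, show qm x qz = qm qz x from (by decide +kernel : ∀ x, qm x qz = qm qz x) x]

theorem commute_z_k (p : Fin 32 × Fin 3 × Fin 3) : Commute (S.k p) S.z :=
  (S.commute_z_q _).mul_left ((S.A.c_z.pow_left _).mul_left (S.B.c_z.pow_left _))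

/-- The involution `t`. -/
def t : G := S.q qt

theorem commute_t_q {x : Fin 32} (h : isR x = true) : Commute (S.q x) S.t := by
  show S.q x * S.q qt = S.q qt * S.q x
  rw [S.q_mul, S.q_mul, show qm x qt = qm qt x from beq_iff_eq.1 h]

theorem isR_of_commute {x : Fin 32} (h : Commute (S.q x) S.t) : isR x = true := by
  refine beq_iff_eq.2 (S.q_inj ?_)
  rw [← S.q_mul, ← S.q_mul]
  exact h.eq

end Base

/-- An element exchanging `z` and `t`. -/
structure Swap (S : Base G) where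
  h : G
  hz : h * S.z * h⁻¹ = S.t
  ht : h * S.t * h⁻¹ = S.z
  inter : ∀ y y', h * S.q y' * h⁻¹ = S.q y → isL y = true

/-- `Q ∩ Q^g = ⟨z, t⟩` if `g` moves `z` to `t`. -/
theorem inter_eq (S : Base G) {g : G} (hg : g * S.z * g⁻¹ = S.t) :
    (∀ y y', g * S.q y' * g⁻¹ = S.q y → isL y = true) ∧ ∃ y', g * S.q y' * g⁻¹ = S.z := by
  classical
  set Y : Finset (Fin 32) := Finset.univ.filter fun y => ∃ y', g * S.q y' * g⁻¹ = S.q y with hY
  have hcard : Y.card = 4 := by
    have h := S.meet g qt hg (by decide)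
    rwa [Nat.card_eq_fintype_card, Fintype.card_subtype] at h
  have mem : ∀ y, y ∈ Y ↔ ∃ y', g * S.q y' * g⁻¹ = S.q y := fun y => by simp [hY]
  have h0 : 0 ∈ Y := (mem 0).2 ⟨0, by rw [S.q_zero]; simp⟩
  have ht : qt ∈ Y := (mem _).2 ⟨qz, by rw [S.q_z, hg]; rfl⟩
  have hmul : ∀ a ∈ Y, ∀ b ∈ Y, qm a b ∈ Y := fun a ha b hb => by
    obtain ⟨a', ha'⟩ := (mem a).1 ha
    obtain ⟨b', hb'⟩ := (mem b).1 hb
    exact (mem _).2 ⟨qm a' b', by rw [← S.q_mul, ← S.q_mul, ← ha', ← hb']; group⟩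
  have hR : ∀ y ∈ Y, isR y = true := fun y hy => by
    obtain ⟨y', hy'⟩ := (mem y).1 hy
    refine S.isR_of_commute ?_
    rw [← hy', ← hg]
    exact (S.commute_z_q y').map (MulAut.conj g).toMonoidHom
  have hinv : ∀ a ∈ Y, qinv a ∈ Y := fun a ha => by
    obtain ⟨a', ha'⟩ := (mem a).1 ha
    exact (mem _).2 ⟨qinv a', by rw [S.q_inv, S.q_inv, ← ha']; group⟩
  have hconj : ∀ r, isR r = true → ∀ y ∈ Y, qconj r y ∈ Y := fun r hr y hy => by
    obtain ⟨y', hy'⟩ := (mem y).1 hy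
    have hc : Commute (g⁻¹ * S.q r * g) S.z := by
      have h := (S.commute_t_q hr).map (MulAut.conj g⁻¹).toMonoidHom
      simp only [MulEquiv.toMonoidHom_eq_coe, MonoidHom.coe_coe, MulAut.conj_apply, inv_inv, ← hg] at h
      rwa [show g⁻¹ * (g * S.z * g⁻¹) * g = S.z by group] at h
    obtain ⟨y'', hy''⟩ := S.q_norm _ hc y'
    refine (mem _).2 ⟨y'', ?_⟩
    rw [← S.q_conj, ← hy', ← hy'']
    group
  have hz : qz ∈ Y := by
    obtain ⟨y, hy, hne⟩ : ∃ y ∈ Y, y ∉ ({0, qt} : Finset (Fin 32)) := by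
      by_contra hcon
      push Not at hcon
      have := Finset.card_le_card (fun y hy => hcon y hy : Y ⊆ {0, qt})
      rw [hcard] at this
      exact absurd this (by decide)
    simp only [Finset.mem_insert, Finset.mem_singleton, not_or] at hne
    rcases center_or_com y (hR y hy) hne.1 hne.2 with rfl | rfl | ⟨r, hr, hc⟩
    · exact hy
    · have := hmul _ hy _ ht
      rwa [show qm qzt qt = qz by decide] at this
    · rw [← hc, show qcom r y = qm (qconj r y) (qinv y) from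
        (by decide +kernel : ∀ r y, qcom r y = qm (qconj r y) (qinv y)) r y]
      exact hmul _ (hconj r hr y hy) _ (hinv y hy)
  refine ⟨fun y y' hy => ?_, by
    obtain ⟨y', hy'⟩ := (mem _).1 hz
    exact ⟨y', by rw [hy', S.q_z]⟩⟩
  by_contra hL
  rw [Bool.not_eq_true] at hL
  obtain ⟨h1, h2, h3, h4⟩ := isL_closed y hL
  have hsub : ({0, qz, qt, qzt, y} : Finset (Fin 32)) ⊆ Y := by
    intro w hw
    simp only [Finset.mem_insert, Finset.mem_singleton] at hw
    rcases hw with rfl | rfl | rfl | rfl | rfl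
    · exact h0
    · exact hz
    · exact ht
    · have := hmul _ hz _ ht
      rwa [show qm qz qt = qzt by decide] at this
    · exact (mem _).2 ⟨y', hy⟩
  have h5 : ({0, qz, qt, qzt, y} : Finset (Fin 32)).card = 5 := by
    revert h1 h2 h3 h4
    exact (by decide +kernel : ∀ y : Fin 32, y ≠ 0 → y ≠ qz → y ≠ qt → y ≠ qzt →
      ({0, qz, qt, qzt, y} : Finset (Fin 32)).card = 5) y
  have := Finset.card_le_card hsub
  omega

/-- An exchanging element exists. -/
theorem exists_swap (S : Base G) : Nonempty (Swap S) := by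
  obtain ⟨g, x, hgx, hx⟩ := S.weak
  have hgo : orderOf (g * S.z * g⁻¹) = 2 := by
    rw [show g * S.z * g⁻¹ = (MulAut.conj g).toMonoidHom S.z from rfl,
      orderOf_injective (MulAut.conj g).toMonoidHom (MulAut.conj g).injective, S.hz]
  have hkey : ∀ (v : G) (y : Fin 32), v * S.z * v⁻¹ = S.q y → y ≠ qz →
      ∃ p, S.k p * S.q y * (S.k p)⁻¹ = S.t := by
    intro v y hv hy
    have h0 : y ≠ 0 := by
      rintro rfl
      rw [S.q_zero, mul_inv_eq_one] at hv
      have : S.z = 1 := mul_left_cancel (hv.trans (mul_one v).symm)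
      have h := S.hz
      rw [this, orderOf_one] at h
      omega
    have hsq : qm y y = 0 := S.q_inj (by rw [← S.q_mul, ← hv, S.q_zero,
      show v * S.z * v⁻¹ * (v * S.z * v⁻¹) = v * (S.z * S.z) * v⁻¹ by group, S.zz, mul_one, mul_inv_cancel])
    obtain ⟨m, n, w, hw⟩ := conj_to_t y h0 hy hsq
    exact ⟨(w, m, n), by rw [S.conj_k, hw]; rfl⟩
  obtain ⟨p, hp⟩ := hkey g x hgx hx
  set g₀ := S.k p * g with hg₀
  have hg₀z : g₀ * S.z * g₀⁻¹ = S.t := by
    rw [hg₀, ← hp, ← hgx]; group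
  obtain ⟨-, y', hy'⟩ := inter_eq S hg₀z
  have hy'' : g₀⁻¹ * S.z * g₀⁻¹⁻¹ = S.q y' := by rw [← hy']; group
  have hne : y' ≠ qz := by
    rintro rfl
    rw [S.q_z, hg₀z, ← S.q_z] at hy'
    exact absurd (S.q_inj hy') (by decide)
  obtain ⟨p', hp'⟩ := hkey g₀⁻¹ y' hy'' hne
  refine ⟨⟨g₀ * (S.k p')⁻¹, ?_, ?_, ?_⟩⟩
  · rw [show g₀ * (S.k p')⁻¹ * S.z * (g₀ * (S.k p')⁻¹)⁻¹ = g₀ * ((S.k p')⁻¹ * S.z * S.k p') * g₀⁻¹ by group,
      (S.commute_z_k p').inv_left.eq, inv_mul_cancel_right, hg₀z]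
  · rw [← hp', ← hy']; group
  · refine (inter_eq S ?_).1
    rw [show g₀ * (S.k p')⁻¹ * S.z * (g₀ * (S.k p')⁻¹)⁻¹ = g₀ * ((S.k p')⁻¹ * S.z * S.k p') * g₀⁻¹ by group,
      (S.commute_z_k p').inv_left.eq, inv_mul_cancel_right, hg₀z]

/-- The four codes representing `R` modulo `⟨z, t⟩`. -/
def rc (e : Fin 2 × Fin 2) : Fin 32 := qm (qpw qi e.1.val) (qpw qjj e.2.val)

theorem rc_isR : ∀ e, isR (rc e) = true := by decide +kernel

theorem rc_inj : ∀ e e', isL (qm (qinv (rc e)) (rc e')) = true → e = e' := by decide +kernel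

namespace Swap

variable {S : Base G} (W : Swap S)

/-- The element of a class of `R' = R^h`. -/
def r' (e : Fin 2 × Fin 2) : G := W.h * S.q (rc e) * W.h⁻¹

theorem commute_z_conj {x : Fin 32} (hx : isR x = true) : Commute (W.h * S.q x * W.h⁻¹) S.z := by
  rw [← W.ht]; exact (S.commute_t_q hx).map (MulAut.conj W.h).toMonoidHom

theorem commute_t_conj (x : Fin 32) : Commute (W.h * S.q x * W.h⁻¹) S.t := by
  rw [← W.hz]; exact (S.commute_z_q x).map (MulAut.conj W.h).toMonoidHom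

theorem commute_z_r' (e : Fin 2 × Fin 2) : Commute (W.r' e) S.z := W.commute_z_conj (rc_isR e)
theorem commute_t_r' (e : Fin 2 × Fin 2) : Commute (W.r' e) S.t := W.commute_t_conj _

/-- The images of `L` under `h`. -/
theorem conj_isL : ∀ {x : Fin 32}, isL x = true → W.h * S.q x * W.h⁻¹ = S.q (lswap x) := by
  intro x hx
  simp only [isL, Bool.or_eq_true, beq_iff_eq] at hx
  have hzt : S.q qzt = S.q qz * S.q qt := by rw [S.q_mul]; rfl
  rcases hx with ((rfl | rfl) | rfl) | rfl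
  · rw [show lswap 0 = 0 from rfl, S.q_zero]; simp
  · rw [S.q_z, W.hz]; rfl
  · rw [show lswap qt = qz from rfl, S.q_z]; exact W.ht
  · rw [show lswap qzt = qzt from rfl, hzt, show W.h * (S.q qz * S.q qt) * W.h⁻¹ =
      (W.h * S.q qz * W.h⁻¹) * (W.h * S.q qt * W.h⁻¹) by group, S.q_z, W.hz]
    show S.t * (W.h * S.t * W.h⁻¹) = S.z * S.q qt
    rw [W.ht]
    exact ((S.commute_z_q qt).eq : S.t * S.z = S.z * S.t)

theorem kr_inj : Function.Injective fun u : (Fin 32 × Fin 3 × Fin 3) × Fin 2 × Fin 2 => S.k u.1 * W.r' u.2 := by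
  rintro ⟨p, e⟩ ⟨p', e'⟩ he
  change S.k p * W.r' e = S.k p' * W.r' e' at he
  set d := qm (rc e') (qinv (rc e)) with hd
  have hd' : (S.k p')⁻¹ * S.k p = W.h * S.q d * W.h⁻¹ := by
    have h1 : (S.k p')⁻¹ * S.k p = W.r' e' * (W.r' e)⁻¹ := by
      rw [eq_mul_inv_iff_mul_eq, mul_assoc, he, inv_mul_cancel_left]
    rw [h1, hd, ← S.q_mul, S.q_inv]
    simp only [r']
    group
  obtain ⟨p'', hp''⟩ : ∃ p'', S.k p'' = (S.k p')⁻¹ * S.k p := by
    have hfin : IsOfFinOrder (S.k p') := isOfFinOrder_of_finite _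
    have hpow : ∀ n : ℕ, ∃ r, S.k r = S.k p' ^ n := by
      intro n
      induction n with
      | zero => exact ⟨(0, 0, 0), by simp [Frame.k, S.q_zero]⟩
      | succ n ih => obtain ⟨r, hr⟩ := ih; exact ⟨_, by rw [pow_succ, ← hr, S.k_mul]⟩
    obtain ⟨r, hr⟩ := hpow (orderOf (S.k p') - 1)
    refine ⟨_, (S.k_mul r p).symm.trans ?_⟩
    rw [hr]
    congr 1
    refine eq_inv_of_mul_eq_one_left ?_
    rw [← pow_succ, Nat.sub_add_cancel hfin.orderOf_pos, pow_orderOf_eq_one]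
  have hct : Commute (S.k p'') S.t := by
    rw [hp'', hd']; exact W.commute_t_conj d
  have hfix : qconj p''.1 (cmapAB p''.2.1 p''.2.2 qt) = qt := by
    refine S.q_inj ?_
    rw [← S.conj_k]
    exact mul_inv_eq_iff_eq_mul.2 hct.eq
  obtain ⟨hmn, -⟩ := fix_t p'' hfix
  have hq : S.k p'' = S.q p''.1 := by
    obtain ⟨x, m, n⟩ := p''
    simp only [Prod.mk.injEq] at hmn
    obtain ⟨rfl, rfl⟩ := hmn
    simp [Frame.k]
  rw [hq] at hp''
  have hL : isL p''.1 = true := W.inter _ d (hd'.symm.trans hp''.symm)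
  have hd2 : d = lswap p''.1 := by
    refine S.q_inj ?_
    have h1 : W.h * S.q (lswap p''.1) * W.h⁻¹ = S.q p''.1 := by
      rw [W.conj_isL ((by decide +kernel : ∀ x, isL x = true → isL (lswap x) = true) _ hL),
        (by decide +kernel : ∀ x, isL x = true → lswap (lswap x) = x) _ hL]
    have h2 := hd'.symm.trans (hp''.symm.trans h1.symm)
    exact mul_left_cancel (mul_right_cancel h2)
  have hee : e = e' := by
    exact (by decide +kernel : ∀ (x : Fin 32) (e e' : Fin 2 × Fin 2), isL x = true →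
      qm (rc e') (qinv (rc e)) = lswap x → e = e') p''.1 e e' hL hd2
  subst hee
  rw [S.k_inj (mul_right_cancel he)]

/-- `C(z) = K R'`. -/
theorem cover {g : G} (hg : Commute g S.z) : ∃ p e, S.k p * W.r' e = g := by
  let f : (Fin 32 × Fin 3 × Fin 3) × Fin 2 × Fin 2 → centralizer ({S.z} : Set G) := fun u =>
    ⟨S.k u.1 * W.r' u.2, mem_centralizer_singleton_iff.2 ((S.commute_z_k _).mul_left (W.commute_z_r' _)).eq⟩
  have hf : Function.Bijective f := by
    refine (Nat.bijective_iff_injective_and_card _).2 ⟨fun u v h => W.kr_inj (congrArg Subtype.val h), ?_⟩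
    rw [S.cardC]
    simp [Nat.card_prod, Nat.card_fin]
  obtain ⟨u, hu⟩ := hf.2 ⟨g, mem_centralizer_singleton_iff.2 hg.eq⟩
  exact ⟨u.1, u.2, congrArg Subtype.val hu⟩

/-- The centraliser of `⟨z, t⟩`. -/
theorem cover_t {g : G} (hg : Commute g S.z) (hgt : Commute g S.t) :
    ∃ x e, isR x = true ∧ S.q x * W.r' e = g := by
  obtain ⟨p, e, rfl⟩ := W.cover hg
  have hk : Commute (S.k p) S.t := by
    have h := hgt.mul_left (W.commute_t_r' e).inv_left
    rwa [mul_inv_cancel_right] at h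
  obtain ⟨hmn, hR⟩ := fix_t p (S.q_inj (by rw [← S.conj_k]; exact mul_inv_eq_iff_eq_mul.2 hk.eq))
  obtain ⟨x, m, n⟩ := p
  simp only [Prod.mk.injEq] at hmn
  obtain ⟨rfl, rfl⟩ := hmn
  exact ⟨x, e, hR, by simp [Frame.k]⟩

end Swap

end Cfsg.Agent.UFourThreeType
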